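import Cfsg.Agent.Lib.Dim3Max.Defs

/-!
Elementary calculus of root groups in dimension three.
-/

set_option autoImplicit false

namespace CfsgLib.Dim3Max

open scoped Matrix MatrixGroups
open CfsgLib.Maximal

universe u

variable {F : Type u} [Field F] {M : Subgroup (GL (Fin 3) F)}

/-- An invariant set spans everything. -/
theorem span_invariant_eq_top (hirr : Irr M) (S : Set (Fin 3 → F))
    (hS : ∀ g ∈ M, ∀ v ∈ S, (g : Matrix (Fin 3) (Fin 3) F) *ᵥ v ∈ Submodule.span F S) {v : Fin 3 → F} (hv : v ∈ S)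
    (hv0 : v ≠ 0) : Submodule.span F S = ⊤ := by
  refine (hirr (Submodule.span F S) ?_).resolve_left fun h => hv0 ?_
  · rintro _ ⟨g, hg, rfl⟩
    rw [Submodule.map_span, Submodule.span_le]
    rintro _ ⟨w, hw, rfl⟩
    rw [SetLike.mem_coe, Matrix.toLin'_apply]
    exact hS g hg w hw
  · have := Submodule.subset_span (R := F) hv
    rwa [h, SetLike.mem_coe, Submodule.mem_bot] at this

/-- A non-zero functional does not vanish on the whole orbit of a non-zero vector. -/
theorem exists_dot_orbit (hirr : Irr M) {c η : Fin 3 → F} (hc : c ≠ 0) (hη : η ≠ 0) :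
    ∃ g ∈ M, η ⬝ᵥ ((g : Matrix (Fin 3) (Fin 3) F) *ᵥ c) ≠ 0 := by
  by_contra hcon
  push Not at hcon
  have htop := span_invariant_eq_top hirr {x | ∃ g ∈ M, (g : Matrix (Fin 3) (Fin 3) F) *ᵥ c = x}
    (fun h hh v hv => ?_) (v := c) ⟨1, one_mem M, by simp⟩ hc
  · refine hη (dot_ext fun x => ?_)
    rw [zero_dotProduct]
    have hx : x ∈ Submodule.span F {x | ∃ g ∈ M, (g : Matrix (Fin 3) (Fin 3) F) *ᵥ c = x} := by
      rw [htop]; exact Submodule.mem_top
    induction hx using Submodule.span_induction with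
    | mem y hy => obtain ⟨g, hg, rfl⟩ := hy; exact hcon g hg
    | zero => simp
    | add y z _ _ hy hz => rw [dotProduct_add, hy, hz, add_zero]
    | smul a y _ hy => rw [dotProduct_smul, hy, smul_zero]
  · obtain ⟨g, hg, rfl⟩ := hv
    exact Submodule.subset_span ⟨h * g, mul_mem hh hg, by rw [Units.val_mul, Matrix.mulVec_mulVec]⟩

theorem vecMul_inv_ne_zero (g : GL (Fin 3) F) {φ : Fin 3 → F} (hφ : φ ≠ 0) :
    φ ᵥ* ((g⁻¹ : GL (Fin 3) F) : Matrix (Fin 3) (Fin 3) F) ≠ 0 := by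
  intro h
  refine hφ (dot_ext fun x => ?_)
  rw [← dot_vecMul_inv g φ x, h, zero_dotProduct, zero_dotProduct]

theorem mulVec_ne_zero (g : GL (Fin 3) F) {c : Fin 3 → F} (hc : c ≠ 0) :
    (g : Matrix (Fin 3) (Fin 3) F) *ᵥ c ≠ 0 := fun h =>
  hc (mulVec_inj g (by simpa using h))

/-- The conjugate of a root field. -/
theorem RootField.conj {K : Subfield F} {c φ : Fin 3 → F} (h : RootField M K c φ) {g : GL (Fin 3) F} (hg : g ∈ M) :
    RootField M K ((g : Matrix (Fin 3) (Fin 3) F) *ᵥ c) (φ ᵥ* ((g⁻¹ : GL (Fin 3) F) : Matrix (Fin 3) (Fin 3) F)) :=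
  ⟨mulVec_ne_zero g h.1, vecMul_inv_ne_zero g h.2.1, fun x hx => by
    rw [← Matrix.mulVec_smul]; exact (h.2.2 x hx).conj hg⟩

/-- A root group with all its weights is the root field of the top field. -/
theorem fullRoot_iff {c φ : Fin 3 → F} : FullRoot M c φ ↔ RootField M ⊤ c φ :=
  ⟨fun h => ⟨h.1, h.2.1, fun x _ => h.2.2 x⟩, fun h => ⟨h.1, h.2.1, fun x => h.2.2 x (Subfield.mem_top x)⟩⟩

theorem FullRoot.dot {c φ : Fin 3 → F} (h : FullRoot M c φ) : φ ⬝ᵥ c = 0 := by
  simpa using (h.2.2 1).dot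

theorem FullRoot.conj {c φ : Fin 3 → F} (h : FullRoot M c φ) {g : GL (Fin 3) F} (hg : g ∈ M) :
    FullRoot M ((g : Matrix (Fin 3) (Fin 3) F) *ᵥ c) (φ ᵥ* ((g⁻¹ : GL (Fin 3) F) : Matrix (Fin 3) (Fin 3) F)) :=
  fullRoot_iff.2 ((fullRoot_iff.1 h).conj hg)

theorem FullRoot.scale_centre {c φ : Fin 3 → F} (h : FullRoot M c φ) {a : F} (ha : a ≠ 0) : FullRoot M (a • c) φ :=
  ⟨smul_ne_zero ha h.1, h.2.1, fun x => by rw [smul_smul]; exact h.2.2 _⟩

/-- Commutator of two root groups, the first centre on the second axis. -/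
theorem FullRoot.comm {c φ d ψ : Fin 3 → F} (h : FullRoot M c φ) (h' : FullRoot M d ψ) (h0 : ψ ⬝ᵥ c = 0)
    (h1 : φ ⬝ᵥ d ≠ 0) : FullRoot M c ψ := by
  refine ⟨h.1, h'.2.1, fun x => ?_⟩
  have := (h.2.2 (x / φ ⬝ᵥ d)).comm_left (h'.2.2 1) (by rw [dotProduct_smul, h0, smul_zero])
  rw [one_smul, smul_smul, mul_div_cancel₀ _ h1] at this
  exact this

/-- Functionals agreeing on a triangular triple are equal. -/
theorem ext_three {a e z θ η : Fin 3 → F} (ha : a ≠ 0) (hθa : θ ⬝ᵥ a = 0) (hθe : θ ⬝ᵥ e = 0) (hθz : θ ⬝ᵥ z ≠ 0)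
    (hηa : η ⬝ᵥ a = 0) (hηe : η ⬝ᵥ e ≠ 0) {ξ ξ' : Fin 3 → F} (h1 : ξ ⬝ᵥ a = ξ' ⬝ᵥ a) (h2 : ξ ⬝ᵥ e = ξ' ⬝ᵥ e)
    (h3 : ξ ⬝ᵥ z = ξ' ⬝ᵥ z) : ξ = ξ' := by
  have hind : LinearIndependent F ![a, e, z] := by
    rw [Fintype.linearIndependent_iff]
    intro g hg
    simp only [Fin.sum_univ_three, Matrix.cons_val_zero, Matrix.cons_val_one, Matrix.cons_val] at hg
    have e2 := congrArg (θ ⬝ᵥ ·) hg
    simp only [dotProduct_add, dotProduct_smul, hθa, hθe, smul_eq_mul, mul_zero, zero_add, dotProduct_zero,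
      mul_eq_zero, hθz, or_false] at e2
    have e1 := congrArg (η ⬝ᵥ ·) hg
    simp only [dotProduct_add, dotProduct_smul, hηa, e2, smul_eq_mul, mul_zero, zero_mul, zero_add, add_zero,
      dotProduct_zero, mul_eq_zero, hηe, or_false] at e1
    rw [e1, e2, zero_smul, zero_smul, add_zero, add_zero, smul_eq_zero] at hg
    intro i
    fin_cases i
    · exact hg.resolve_right ha
    · exact e1
    · exact e2
  refine dot_ext fun x => ?_
  have hx : x ∈ Submodule.span F (Set.range ![a, e, z]) := by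
    rw [hind.span_eq_top_of_card_eq_finrank (by simp)]; exact Submodule.mem_top
  induction hx using Submodule.span_induction with
  | mem y hy =>
    obtain ⟨i, rfl⟩ := hy
    fin_cases i <;> simpa
  | zero => simp
  | add y y' _ _ hy hy' => rw [dotProduct_add, dotProduct_add, hy, hy']
  | smul t y _ hy => rw [dotProduct_smul, dotProduct_smul, hy]

theorem exists_dot_ne_zero {φ : Fin 3 → F} (h : φ ≠ 0) : ∃ z, φ ⬝ᵥ z ≠ 0 := by
  by_contra hcon
  push Not at hcon
  exact h (dot_ext fun x => by rw [hcon, zero_dotProduct])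

/-- Two root groups with the same centre give all elations with that centre. -/
theorem tvCentre_of_two {c φ ψ d : Fin 3 → F} (h : FullRoot M c φ) (h' : FullRoot M c ψ) (hd : φ ⬝ᵥ d ≠ 0)
    (hd' : ψ ⬝ᵥ d = 0) : TvCentre M c := by
  rw [tvCentre_iff]
  intro η hη
  obtain ⟨z, hz⟩ := exists_dot_ne_zero h'.2.1
  set α := η ⬝ᵥ d / φ ⬝ᵥ d with hα
  set β := (η ⬝ᵥ z - α * (φ ⬝ᵥ z)) / ψ ⬝ᵥ z with hβ
  have hη' : η = α • φ + β • ψ := by
    refine ext_three h.1 h'.dot hd' hz h.dot hd ?_ ?_ ?_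
    · simp [add_dotProduct, h.dot, h'.dot, hη]
    · simp [add_dotProduct, hd', hα, div_mul_cancel₀ _ hd]
    · simp [add_dotProduct, hβ, div_mul_cancel₀ _ hz]
  rw [hη']
  exact ((Has.smul_iff α).1 (h.2.2 α)).add_right ((Has.smul_iff β).1 (h'.2.2 β))

/-- Centres with all their elations form an invariant subspace. -/
theorem sl3_le_of_tvCentre (hirr : Irr M) {c : Fin 3 → F} (hc : c ≠ 0) (h : TvCentre M c) : sl3 F ≤ M := by
  have hadd : ∀ a b, TvCentre M a → TvCentre M b → TvCentre M (a + b) := by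
    intro a b ha hb
    by_cases hab : a ∈ Submodule.span F {b}
    · obtain ⟨t, rfl⟩ := Submodule.mem_span_singleton.1 hab
      have : t • b + b = (t + 1) • b := by module
      rw [this]; exact hb.smul _
    · obtain ⟨η, hη, hηa⟩ := exists_ann _ a hab
      have h0 := hη b (Submodule.mem_span_singleton_self b)
      have := ha.map (g := tv b η h0) (hb η h0)
      rwa [tv_mulVec, hηa, one_smul] at this
  let S : Submodule F (Fin 3 → F) :=
    { carrier := {v | TvCentre M v}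
      add_mem' := fun ha hb => hadd _ _ ha hb
      zero_mem' := tvCentre_iff.2 fun _ _ => has_of_zero (Or.inl rfl)
      smul_mem' := fun t _ hv => hv.smul t }
  have hS : Submodule.span F {v : Fin 3 → F | TvCentre M v} = ⊤ :=
    span_invariant_eq_top hirr _ (fun g hg v hv => Submodule.subset_span (hv.map hg)) (v := c) h hc
  refine specialLinear_le_of_tv M fun v => ?_
  have hle : Submodule.span F {v : Fin 3 → F | TvCentre M v} ≤ S := Submodule.span_le.2 fun x hx => hx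
  exact hle (by rw [hS]; exact Submodule.mem_top)

end CfsgLib.Dim3Max
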