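import Cfsg.Agent.Lib.Dim3Max.Calc
import Cfsg.Agent.Lib.PSL2.DicksonPSL
import Cfsg.Agent.Lib.Recog.AltSpectrum
import Cfsg.Agent.Lib.Classical.Order

/-!
Homologies of large projective order in a subgroup without elations: any two centres are equal or commute.
-/

set_option autoImplicit false
set_option linter.unusedSectionVars false

namespace CfsgLib.Dim3Max

open scoped Matrix MatrixGroups
open CfsgLib.Maximal

universe u

variable {F : Type u} [Field F] {M : Subgroup (GL (Fin 3) F)}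

local notation "M3" => Matrix (Fin 3) (Fin 3) F
local notation "M2" => Matrix (Fin 2) (Fin 2) F

/-- The homology with centre `c` and axis `ker φ` whose eigenvalues are `a⁻²` on the centre and `a` on the axis. -/
def homMat (a : F) (c φ : Fin 3 → F) : M3 := a • ((1 : M3) + ((a ^ 3)⁻¹ - 1) • Matrix.vecMulVec c φ)

/-- The homology lies in the subgroup. -/
def Hom (M : Subgroup (GL (Fin 3) F)) (a : F) (c φ : Fin 3 → F) : Prop :=
  φ ⬝ᵥ c = 1 ∧ ∃ s ∈ M, (s : M3) = homMat a c φ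

theorem Hom.conj {a : F} {c φ : Fin 3 → F} (h : Hom M a c φ) {g : GL (Fin 3) F} (hg : g ∈ M) :
    Hom M a ((g : M3) *ᵥ c) (φ ᵥ* ((g⁻¹ : GL (Fin 3) F) : M3)) := by
  obtain ⟨hd, s, hs, hsv⟩ := h
  refine ⟨by rw [dot_vecMul_inv, hd], g * s * g⁻¹, mul_mem (mul_mem hg hs) (inv_mem hg), ?_⟩
  rw [Units.val_mul, Units.val_mul, hsv, homMat, homMat, mul_smul_comm, smul_mul_assoc, mul_add, add_mul, mul_one,
    mul_smul_comm, smul_mul_assoc, Matrix.mul_vecMulVec, Matrix.vecMulVec_mul, ← Units.val_mul, mul_inv_cancel,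
    Units.val_one]

theorem Hom.rescale {a : F} {c φ : Fin 3 → F} (h : Hom M a c φ) {t : F} (ht : t ≠ 0) :
    Hom M a (t • c) (t⁻¹ • φ) := by
  obtain ⟨hd, s, hs, hsv⟩ := h
  refine ⟨by rw [smul_dotProduct, dotProduct_smul, hd]; simp [ht], s, hs, ?_⟩
  rw [hsv, homMat, homMat, Matrix.vecMulVec_smul, Matrix.smul_vecMulVec, smul_smul t⁻¹, inv_mul_cancel₀ ht, one_smul]

/-- The product of two homologies with inverse factors. -/
theorem homMat_mul {a : F} (ha : a ≠ 0) {c c' φ φ' : Fin 3 → F} :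
    homMat a c φ * homMat a⁻¹ c' φ' = (1 : M3) + ((a ^ 3)⁻¹ - 1) • Matrix.vecMulVec c φ +
      (a ^ 3 - 1) • Matrix.vecMulVec c' φ' +
      ((a ^ 3)⁻¹ - 1) • ((a ^ 3 - 1) • ((φ ⬝ᵥ c') • Matrix.vecMulVec c φ')) := by
  rw [homMat, homMat, smul_mul_smul_comm, mul_inv_cancel₀ ha, one_smul, inv_pow, inv_inv]
  simp only [mul_add, add_mul, one_mul, mul_one, smul_mul_smul_comm, Matrix.vecMulVec_mul_vecMulVec,
    Matrix.vecMulVec_smul, smul_smul]
  module

theorem Hom.inv {a : F} (ha : a ≠ 0) {c φ : Fin 3 → F} (h : Hom M a c φ) :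
    ∃ s ∈ M, (s : M3) = homMat a⁻¹ c φ := by
  obtain ⟨hd, s, hs, hsv⟩ := h
  refine ⟨s⁻¹, inv_mem hs, Units.inv_eq_of_mul_eq_one_right ?_⟩
  rw [hsv, homMat_mul ha, hd, one_smul]
  have key : ∀ (α β : F) (X : M3), 1 + α • X + β • X + α • β • X = 1 + (α + β + α * β) • X := by
    intros; module
  rw [key, show ((a ^ 3)⁻¹ - 1) + (a ^ 3 - 1) + ((a ^ 3)⁻¹ - 1) * (a ^ 3 - 1) = 0 by field_simp; ring, zero_smul,
    add_zero]

/-- Two homologies with the same centre and different axes give an elation. -/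
theorem hasElation_of_centre {a : F} (ha : a ≠ 0) (hv : (a ^ 3)⁻¹ ≠ 1) {c φ φ' : Fin 3 → F} (h : Hom M a c φ)
    (h' : Hom M a c φ') (hne : φ ≠ φ') : HasElation M := by
  obtain ⟨s', hs', hs'v⟩ := h'.inv ha
  obtain ⟨hd, s, hs, hsv⟩ := h
  have hd' := h'.1
  have h0 : (((a ^ 3)⁻¹ - 1) • (φ - φ')) ⬝ᵥ c = 0 := by
    rw [smul_dotProduct, sub_dotProduct, hd, hd', sub_self, smul_zero]
  have hc : c ≠ 0 := fun e => by simp [e] at hd
  refine ⟨c, _, hc, smul_ne_zero (sub_ne_zero.2 hv) (sub_ne_zero.2 hne), h0, ?_⟩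
  convert mul_mem hs hs' using 1
  refine Units.ext ?_
  rw [tv_val, Units.val_mul, hsv, hs'v, homMat_mul ha, hd, one_smul, Matrix.vecMulVec_smul,
    Matrix.vecMulVec_sub, smul_sub, smul_smul]
  rw [show ((a ^ 3)⁻¹ - 1) * (a ^ 3 - 1) = -(((a ^ 3)⁻¹ - 1) + (a ^ 3 - 1)) by field_simp; ring]
  module

/-- Two homologies with the same axis and different centres give an elation. -/
theorem hasElation_of_axis {a : F} (ha : a ≠ 0) (hv : (a ^ 3)⁻¹ ≠ 1) {c c' φ : Fin 3 → F} (h : Hom M a c φ)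
    (h' : Hom M a c' φ) (hne : c ≠ c') : HasElation M := by
  obtain ⟨s', hs', hs'v⟩ := h'.inv ha
  obtain ⟨hd, s, hs, hsv⟩ := h
  have hd' := h'.1
  have h0 : φ ⬝ᵥ (((a ^ 3)⁻¹ - 1) • (c - c')) = 0 := by
    rw [dotProduct_smul, dotProduct_sub, hd, hd', sub_self, smul_zero]
  have hφ : φ ≠ 0 := fun e => by simp [e] at hd
  refine ⟨_, φ, smul_ne_zero (sub_ne_zero.2 hv) (sub_ne_zero.2 hne), hφ, h0, ?_⟩
  convert mul_mem hs' hs using 1
  refine Units.ext ?_
  rw [tv_val, Units.val_mul, hsv, hs'v]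
  have h1 : homMat a⁻¹ c' φ * homMat a c φ = (1 : M3) + (a ^ 3 - 1) • Matrix.vecMulVec c' φ +
      ((a ^ 3)⁻¹ - 1) • Matrix.vecMulVec c φ + (a ^ 3 - 1) • (((a ^ 3)⁻¹ - 1) • Matrix.vecMulVec c' φ) := by
    have := homMat_mul (inv_ne_zero ha) (c := c') (c' := c) (φ := φ) (φ' := φ)
    rwa [inv_inv, inv_pow, inv_inv, hd, one_smul] at this
  rw [h1, Matrix.smul_vecMulVec, Matrix.sub_vecMulVec, smul_sub, smul_smul]
  rw [show (a ^ 3 - 1) * ((a ^ 3)⁻¹ - 1) = -(((a ^ 3)⁻¹ - 1) + (a ^ 3 - 1)) by field_simp; ring]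
  module

/-- A nilpotent two by two matrix has rank one at most. -/
theorem exists_rank_one {N : M2} (h : N * N = 0) (hN : N ≠ 0) :
    ∃ x ψ : Fin 2 → F, x ≠ 0 ∧ ψ ≠ 0 ∧ ψ ⬝ᵥ x = 0 ∧ N = Matrix.vecMulVec x ψ := by
  have e : ∀ i j, N i 0 * N 0 j + N i 1 * N 1 j = 0 := fun i j => by
    have := congrFun (congrFun h i) j
    simpa [Matrix.mul_apply, Fin.sum_univ_two] using this
  by_cases h01 : N 0 1 = 0
  · have h00 : N 0 0 = 0 := by simpa [h01] using e 0 0
    have h11 : N 1 1 = 0 := by simpa [h01] using e 1 1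
    refine ⟨![0, 1], ![N 1 0, 0], fun e' => by simpa using congrFun e' 1, fun e' => hN ?_, by simp, ?_⟩
    · have h10 : N 1 0 = 0 := by simpa using congrFun e' 0
      ext i j; fin_cases i <;> fin_cases j <;> simp [h00, h01, h10, h11]
    · ext i j; fin_cases i <;> fin_cases j <;> simp [h00, h01, h11, Matrix.vecMulVec_apply]
  · have h11 : N 1 1 = -N 0 0 := by
      have h' : N 0 1 * (N 0 0 + N 1 1) = 0 := by linear_combination e 0 1
      exact eq_neg_of_add_eq_zero_right ((mul_eq_zero.1 h').resolve_left h01)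
    have h10 : N 1 0 * N 0 1 = -(N 0 0 * N 0 0) := by linear_combination e 0 0
    refine ⟨![N 0 1, N 1 1], ![N 0 0 / N 0 1, 1], fun e' => h01 (by simpa using congrFun e' 0),
      fun e' => by simpa using congrFun e' 1, ?_, ?_⟩
    · rw [dotProduct, Fin.sum_univ_two]
      simp only [Matrix.cons_val_zero, Matrix.cons_val_one, Matrix.cons_val_fin_one]
      rw [div_mul_cancel₀ _ h01, h11]; ring
    · ext i j
      fin_cases i <;> fin_cases j <;> simp [Matrix.vecMulVec_apply, h11]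
      · field_simp
      · field_simp
        linear_combination h10

theorem mul_self_two (m : M2) : m * m = m.trace • m - m.det • (1 : M2) := by
  ext i j
  fin_cases i <;> fin_cases j <;>
    simp [Matrix.mul_apply, Matrix.trace_fin_two, Matrix.det_fin_two] <;> ring

/-- The block matrix of a plane and a point. -/
def blockMat (B : M2) (e : F) : M3 := !![B 0 0, B 0 1, 0; B 1 0, B 1 1, 0; 0, 0, e]

theorem blockMat_mul (B B' : M2) (e e' : F) : blockMat B e * blockMat B' e' = blockMat (B * B') (e * e') := by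
  ext i j
  fin_cases i <;> fin_cases j <;> simp [blockMat, Matrix.mul_apply, Fin.sum_univ_three, Fin.sum_univ_two]

theorem blockMat_one : blockMat (1 : M2) (1 : F) = (1 : M3) := by
  ext i j
  fin_cases i <;> fin_cases j <;> simp [blockMat, Matrix.one_apply]

theorem blockMat_det (B : M2) (e : F) : (blockMat B e).det = B.det * e := by
  simp [blockMat, Matrix.det_fin_three, Matrix.det_fin_two]
  ring

/-- The elements of block shape, with their action on the plane. -/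
def planeSet (N : Subgroup (GL (Fin 3) F)) : Subgroup (GL (Fin 2) F) where
  carrier := {B | ∃ h ∈ N, ∃ e : F, e ≠ 0 ∧ (h : M3) = blockMat (B : M2) e}
  mul_mem' := by
    rintro B B' ⟨h, hh, e, he, hv⟩ ⟨h', hh', e', he', hv'⟩
    exact ⟨h * h', mul_mem hh hh', e * e', mul_ne_zero he he', by
      rw [Units.val_mul, hv, hv', blockMat_mul, Units.val_mul]⟩
  one_mem' := ⟨1, one_mem N, 1, one_ne_zero, by
    rw [Units.val_one, Units.val_one]; exact (blockMat_one (F := F)).symm⟩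
  inv_mem' := by
    rintro B ⟨h, hh, e, he, hv⟩
    refine ⟨h⁻¹, inv_mem hh, e⁻¹, inv_ne_zero he, Units.inv_eq_of_mul_eq_one_right ?_⟩
    rw [hv, blockMat_mul, Units.mul_inv, mul_inv_cancel₀ he]
    exact blockMat_one

set_option maxRecDepth 10000 in
theorem perm_four_order (x : Equiv.Perm (Fin 4)) : orderOf x ≤ 4 := by
  have h : ∀ x : Equiv.Perm (Fin 4), x ^ 1 = 1 ∨ x ^ 2 = 1 ∨ x ^ 3 = 1 ∨ x ^ 4 = 1 := by decide
  rcases h x with h | h | h | h <;> linarith [orderOf_le_of_pow_eq_one (by norm_num) h]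

open DihedralGroup in
theorem dihedral_commute {k : ℕ} (x y : DihedralGroup k) (hx : 3 ≤ orderOf x) (hy : 3 ≤ orderOf y) :
    x * y = y * x := by
  cases x with
  | r i =>
    cases y with
    | r j => rw [r_mul_r, r_mul_r, add_comm]
    | sr j => rw [orderOf_sr] at hy; omega
  | sr i => rw [orderOf_sr] at hx; omega

/-- Without elations the plane image of a subgroup has no element of order `p`. -/
theorem not_dvd_planeImage [Finite F] {p : ℕ} [Fact p.Prime] [CharP F p] {N : Subgroup (GL (Fin 3) F)}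
    (hno : ¬ HasElation N) : ¬ p ∣ Nat.card ((planeSet N).map (Matrix.ProjGenLinGroup.mk (n := Fin 2) (R := F))) := by
  intro hdvd
  haveI : Finite (Matrix.ProjGenLinGroup (Fin 2) F) := Finite.of_surjective _ Matrix.ProjGenLinGroup.mk_surjective
  obtain ⟨x, hx⟩ := exists_prime_orderOf_dvd_card' p hdvd
  obtain ⟨B₀, hB₀, hxB⟩ := x.2
  obtain ⟨n, hn⟩ : ∃ n, Nat.card Fˣ = n := ⟨_, rfl⟩
  have hpn : ¬ p ∣ n := by
    rw [← hn]
    intro hp
    obtain ⟨ξ, hξ⟩ := exists_prime_orderOf_dvd_card' p hp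
    have h1 : (ξ : F) ^ p = 1 := by rw [← Units.val_pow_eq_pow_val, ← hξ, pow_orderOf_eq_one, Units.val_one]
    have : (ξ : F) = 1 := sub_eq_zero.1 (eq_zero_of_pow_eq_zero (n := p) (by rw [sub_pow_char, h1, one_pow, sub_self]))
    have : ξ = 1 := Units.ext this
    rw [this, orderOf_one] at hξ
    exact (Fact.out : p.Prime).ne_one hξ.symm
  have hy : Matrix.ProjGenLinGroup.mk B₀ ^ n ≠ 1 := by
    intro he
    have h1 : (x : Matrix.ProjGenLinGroup (Fin 2) F) ^ n = 1 := by rw [← hxB]; exact he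
    rw [← hx, ← Subgroup.orderOf_coe] at hpn
    exact hpn (orderOf_dvd_of_pow_eq_one h1)
  obtain ⟨h, hh, e, he, hv⟩ := hB₀
  have hv' : ∀ m : ℕ, ((h ^ m : GL (Fin 3) F) : M3) = blockMat ((B₀ ^ m : GL (Fin 2) F) : M2) (e ^ m) := by
    intro m
    induction m with
    | zero => rw [pow_zero, pow_zero, pow_zero, Units.val_one, Units.val_one]; exact blockMat_one.symm
    | succ m ih => rw [pow_succ, pow_succ, pow_succ, Units.val_mul, ih, hv, blockMat_mul, Units.val_mul]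
  have hen : e ^ n = 1 := by
    have := pow_card_eq_one' (G := Fˣ) (x := Units.mk0 e he)
    rw [hn] at this
    simpa using congrArg Units.val this
  have hBp : Matrix.ProjGenLinGroup.mk (B₀ ^ p) = 1 := by
    rw [map_pow, show Matrix.ProjGenLinGroup.mk B₀ = (x : Matrix.ProjGenLinGroup (Fin 2) F) from hxB, ← hx,
      ← Subgroup.orderOf_coe, pow_orderOf_eq_one]
  obtain ⟨t, ht⟩ : ∃ t : Fˣ, ((B₀ ^ p : GL (Fin 2) F) : M2) = (t : F) • (1 : M2) := by
    rw [← MonoidHom.mem_ker, Matrix.ProjGenLinGroup.ker_mk, Matrix.GeneralLinearGroup.center_eq_range_scalar] at hBp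
    obtain ⟨t, ht⟩ := hBp
    exact ⟨t, by rw [← ht, Matrix.smul_one_eq_diagonal]; rfl⟩
  set B := B₀ ^ n with hB
  have hBp1 : ((B : M2)) ^ p = 1 := by
    rw [hB, ← Units.val_pow_eq_pow_val, ← pow_mul, mul_comm, pow_mul, Units.val_pow_eq_pow_val, ht, smul_pow,
      one_pow, ← Units.val_pow_eq_pow_val, ← hn, pow_card_eq_one', Units.val_one, one_smul]
  have hB1 : (B : M2) - 1 ≠ 0 := fun h0 => hy (by
    rw [← map_pow, ← hB, show B = 1 from Units.ext (sub_eq_zero.1 h0), map_one])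
  have hnil : ((B : M2) - 1) * ((B : M2) - 1) = 0 := by
    haveI : CharP M2 p := inferInstance
    have h0 : IsNilpotent ((B : M2) - 1) :=
      ⟨p, by rw [sub_pow_char_of_commute p (Commute.one_right _), hBp1, one_pow, sub_self]⟩
    have h1 := Matrix.isNilpotent_trace_of_isNilpotent h0
    have h2 : IsNilpotent ((B : M2) - 1).det := by
      obtain ⟨m, hm⟩ := h0
      refine ⟨m + 1, ?_⟩
      rw [← Matrix.det_pow, pow_succ, hm, zero_mul, Matrix.det_zero]
    have htr := h1.eq_zero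
    have hdt := h2.eq_zero
    rw [mul_self_two, htr, hdt]
    simp
  obtain ⟨x₂, ψ₂, hx₂, hψ₂, hdot, hN⟩ := exists_rank_one hnil hB1
  refine hno ⟨![x₂ 0, x₂ 1, 0], ![ψ₂ 0, ψ₂ 1, 0], fun e' => hx₂ ?_, fun e' => hψ₂ ?_, ?_⟩
  · ext i; fin_cases i
    · simpa using congrFun e' 0
    · simpa using congrFun e' 1
  · ext i; fin_cases i
    · simpa using congrFun e' 0
    · simpa using congrFun e' 1
  have hdot3 : ![ψ₂ 0, ψ₂ 1, 0] ⬝ᵥ ![x₂ 0, x₂ 1, 0] = 0 := by
    rw [dotProduct, Fin.sum_univ_two] at hdot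
    simpa [dotProduct, Fin.sum_univ_three] using hdot
  refine ⟨hdot3, ?_⟩
  convert pow_mem hh n using 1
  refine Units.ext ?_
  rw [tv_val, hv' n, hen, ← hB, eq_add_of_sub_eq hN]
  ext i j; fin_cases i <;> fin_cases j <;> simp [blockMat, Matrix.vecMulVec_apply] <;> ring

/-- The two plane matrices commute projectively. -/
theorem plane_commute [Finite F] {p : ℕ} [Fact p.Prime] [CharP F p] {N : Subgroup (GL (Fin 3) F)}
    (hno : ¬ HasElation N) {B B' : GL (Fin 2) F} (hB : B ∈ planeSet N) (hB' : B' ∈ planeSet N)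
    (h1 : 6 ≤ orderOf (Matrix.ProjGenLinGroup.mk B)) (h2 : 6 ≤ orderOf (Matrix.ProjGenLinGroup.mk B')) :
    Matrix.ProjGenLinGroup.mk B * Matrix.ProjGenLinGroup.mk B' =
      Matrix.ProjGenLinGroup.mk B' * Matrix.ProjGenLinGroup.mk B := by
  set H := (planeSet N).map (Matrix.ProjGenLinGroup.mk (n := Fin 2) (R := F))
  have hp := not_dvd_planeImage (p := p) hno
  let x : H := ⟨_, Subgroup.mem_map_of_mem _ hB⟩
  let y : H := ⟨_, Subgroup.mem_map_of_mem _ hB'⟩
  suffices x * y = y * x from congrArg Subtype.val this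
  have hx : 6 ≤ orderOf x := by rw [← Subgroup.orderOf_coe]; exact h1
  have hy : 6 ≤ orderOf y := by rw [← Subgroup.orderOf_coe]; exact h2
  cases CfsgLib.PSL2.dickson_pgl (p := p) H with
  | cyclic hc _ => exact IsCyclic.commGroup.mul_comm x y
  | dihedral r _ k _ _ _ _ iso =>
    obtain ⟨e⟩ := iso
    apply e.injective
    rw [map_mul, map_mul]
    exact dihedral_commute _ _ (by rw [MulEquiv.orderOf_eq]; omega) (by rw [MulEquiv.orderOf_eq]; omega)
  | borel P hpH _ => exact absurd hpH hp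
  | tetra _ iso =>
    obtain ⟨e⟩ := iso
    have := perm_four_order ((e x : alternatingGroup (Fin 4)) : Equiv.Perm (Fin 4))
    rw [Subgroup.orderOf_coe, MulEquiv.orderOf_eq] at this
    omega
  | octa _ iso =>
    obtain ⟨e⟩ := iso
    have := perm_four_order (e x)
    rw [MulEquiv.orderOf_eq] at this
    omega
  | icosa _ iso =>
    obtain ⟨e⟩ := iso
    have h5 : orderOf (e x) ∈ Set.range (orderOf : alternatingGroup (Fin 5) → ℕ) := ⟨_, rfl⟩
    rw [CfsgLib.Recog.range_orderOf_alternating_five, MulEquiv.orderOf_eq] at h5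
    simp only [Set.mem_insert_iff, Set.mem_singleton_iff] at h5
    omega
  | subfield K iso =>
    exfalso
    apply hp
    haveI : CharP K p := (RingHom.charP_iff_charP K.subtype p).2 inferInstance
    have hpK : p ∣ Nat.card K := by
      haveI := Fintype.ofFinite K
      obtain ⟨m, -, hm⟩ := FiniteField.card K p
      rw [Nat.card_eq_fintype_card, hm]; exact dvd_pow_self p m.pos.ne'
    rcases iso with ⟨⟨e⟩⟩ | ⟨hodd, ⟨e⟩⟩
    · rw [Nat.card_congr e.toEquiv, CfsgLib.Classical.card_PGL_eq_card_SL, CfsgLib.Classical.card_SL_two]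
      exact hpK.mul_right _
    · rw [Nat.card_congr e.toEquiv]
      have h := CfsgLib.Classical.card_PSL_two_mul (F := K)
      have hp2 : p ≠ 2 := by
        rintro rfl
        exact absurd hpK (by rw [← even_iff_two_dvd, Nat.not_even_iff_odd]; exact hodd)
      have : p ∣ Nat.gcd 2 (Nat.card K - 1) * Nat.card (Matrix.ProjectiveSpecialLinearGroup (Fin 2) K) := by
        rw [h]; exact hpK.mul_right _
      rcases (Fact.out : p.Prime).dvd_mul.1 this with h' | h'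
      · exact absurd ((Nat.prime_dvd_prime_iff_eq Fact.out Nat.prime_two).1 (h'.trans (Nat.gcd_dvd_left _ _))) hp2
      · exact h'

/-- A frame from three vectors and three functionals in triangular position. -/
theorem exists_gl_cols (b : Fin 3 → Fin 3 → F) (hind : LinearIndependent F b) :
    ∃ g : GL (Fin 3) F, ∀ j, (g : M3) *ᵥ Pi.single j 1 = b j := by
  have hunit : IsUnit (Matrix.of b).transpose :=
    (Matrix.linearIndependent_cols_iff_isUnit).1 (show LinearIndependent F (Matrix.of b).transpose.col from hind)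
  exact ⟨hunit.unit, fun j => by funext i; simp [Matrix.mulVec_single_one, Matrix.col]⟩

/-- The conjugate of a homology in a new frame. -/
theorem homMat_conj {a : F} {c φ : Fin 3 → F} {g : GL (Fin 3) F} {c₀ φ₀ : Fin 3 → F} (hc : (g : M3) *ᵥ c₀ = c)
    (hφ : φ ᵥ* (g : M3) = φ₀) : homMat a c φ * (g : M3) = (g : M3) * homMat a c₀ φ₀ := by
  rw [homMat, homMat, smul_mul_assoc, mul_smul_comm, mul_add, add_mul, one_mul, mul_one, smul_mul_assoc,
    mul_smul_comm, Matrix.vecMulVec_mul, Matrix.mul_vecMulVec, hc, hφ]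

/-- Two centres with the two axes meeting on the line of the centres give an elation. -/
theorem hasElation_of_meet {a : F} (ha : a ≠ 0) (hv : (a ^ 3)⁻¹ ≠ 1) (hv2 : ((a ^ 3)⁻¹) ^ 2 ≠ 1)
    {c c' φ φ' : Fin 3 → F} (h : Hom M a c φ) (h' : Hom M a c' φ')
    (hab : (φ ⬝ᵥ c') * (φ' ⬝ᵥ c) = 1) (hcc : c' ∉ Submodule.span F {c}) : HasElation M := by
  obtain ⟨hd, s, hs, hsv⟩ := h
  obtain ⟨hd', s', hs', hs'v⟩ := h'
  obtain ⟨hx, hy⟩ := mul_ne_zero_iff.1 (hab.trans_ne one_ne_zero)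
  by_cases hz : ∃ z, φ ⬝ᵥ z = 0 ∧ φ' ⬝ᵥ z ≠ 0
  swap
  · push Not at hz
    have hφ' : φ' = (φ' ⬝ᵥ c) • φ := by
      refine dot_ext fun y => ?_
      have h0 := hz (y - (φ ⬝ᵥ y) • c) (by rw [dotProduct_sub, dotProduct_smul, hd, smul_eq_mul, mul_one, sub_self])
      rw [dotProduct_sub, dotProduct_smul, sub_eq_zero] at h0
      rw [h0, smul_dotProduct, smul_eq_mul, smul_eq_mul, mul_comm]
    have hr := (show Hom M a c' φ' from ⟨hd', s', hs', hs'v⟩).rescale hy
    have he : (φ' ⬝ᵥ c)⁻¹ • φ' = φ := by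
      generalize φ' ⬝ᵥ c = t at hφ' hy ⊢
      rw [hφ', smul_smul, inv_mul_cancel₀ hy, one_smul]
    rw [he] at hr
    refine hasElation_of_axis ha hv ⟨hd, s, hs, hsv⟩ hr fun e => hcc ?_
    rw [Submodule.mem_span_singleton]
    refine ⟨(φ' ⬝ᵥ c)⁻¹, ?_⟩
    generalize φ' ⬝ᵥ c = t at e hy ⊢
    rw [e, smul_smul, inv_mul_cancel₀ hy, one_smul]
  obtain ⟨z, hz0, hz1⟩ := hz
  set P := (φ' ⬝ᵥ c) • (c' - (φ ⬝ᵥ c') • c) with hP
  set z' := ((φ' ⬝ᵥ c) / (φ' ⬝ᵥ z)) • z with hz'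
  have hφP : φ ⬝ᵥ P = 0 := by
    simp only [hP, dotProduct_smul, dotProduct_sub, hd, smul_eq_mul]; ring
  have hφ'P : φ' ⬝ᵥ P = 0 := by
    simp only [hP, dotProduct_smul, dotProduct_sub, hd', smul_eq_mul]
    rw [hab, sub_self, mul_zero]
  have hP0 : P ≠ 0 := fun e => hcc (by
    rw [hP, smul_eq_zero, sub_eq_zero] at e
    rw [Submodule.mem_span_singleton]
    exact ⟨φ ⬝ᵥ c', (e.resolve_left hy).symm⟩)
  have hφz : φ ⬝ᵥ z' = 0 := by rw [hz', dotProduct_smul, hz0, smul_zero]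
  have hφ'z : φ' ⬝ᵥ z' = φ' ⬝ᵥ c := by rw [hz', dotProduct_smul, smul_eq_mul, div_mul_cancel₀ _ hz1]
  have hind : LinearIndependent F ![P, c, z'] := by
    rw [Fintype.linearIndependent_iff]
    intro g hg
    simp only [Fin.sum_univ_three, Matrix.cons_val_zero, Matrix.cons_val_one, Matrix.cons_val] at hg
    have e1 := congrArg (φ ⬝ᵥ ·) hg
    simp only [dotProduct_add, dotProduct_smul, hφP, hd, hφz, smul_eq_mul, mul_zero, zero_add, mul_one, add_zero,
      dotProduct_zero] at e1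
    have e2 := congrArg (φ' ⬝ᵥ ·) hg
    simp only [dotProduct_add, dotProduct_smul, hφ'P, e1, hφ'z, smul_eq_mul, mul_zero, zero_mul, zero_add,
      dotProduct_zero, mul_eq_zero, hy, or_false] at e2
    rw [e1, e2, zero_smul, zero_smul, add_zero, add_zero, smul_eq_zero] at hg
    intro i
    fin_cases i
    · exact hg.resolve_right hP0
    · exact e1
    · exact e2
  obtain ⟨g, hg⟩ := exists_gl_cols _ hind
  have hgφ : φ ᵥ* (g : M3) = ![0, 1, 0] := by
    funext j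
    have : (φ ᵥ* (g : M3)) j = φ ⬝ᵥ ![P, c, z'] j := by rw [← hg, Matrix.dotProduct_mulVec]; simp
    rw [this]
    fin_cases j <;> simp [hφP, hd, hφz]
  have hgφ' : φ' ᵥ* (g : M3) = ![0, φ' ⬝ᵥ c, φ' ⬝ᵥ c] := by
    funext j
    have : (φ' ᵥ* (g : M3)) j = φ' ⬝ᵥ ![P, c, z'] j := by rw [← hg, Matrix.dotProduct_mulVec]; simp
    rw [this]
    fin_cases j <;> simp [hφ'P, hφ'z]
  have hgc : (g : M3) *ᵥ ![0, 1, 0] = c := by
    have := hg 1
    rwa [show (Pi.single (1 : Fin 3) (1 : F) : Fin 3 → F) = ![0, 1, 0] by funext i; fin_cases i <;> simp] at this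
  have hgc' : (g : M3) *ᵥ ![(φ' ⬝ᵥ c)⁻¹, φ ⬝ᵥ c', 0] = c' := by
    rw [show (![(φ' ⬝ᵥ c)⁻¹, φ ⬝ᵥ c', 0] : Fin 3 → F) =
      (φ' ⬝ᵥ c)⁻¹ • Pi.single 0 1 + (φ ⬝ᵥ c') • Pi.single 1 1 by funext i; fin_cases i <;> simp,
      Matrix.mulVec_add, Matrix.mulVec_smul, Matrix.mulVec_smul, hg, hg]
    simp only [Matrix.cons_val_zero, Matrix.cons_val_one, hP, smul_smul, inv_mul_cancel₀ hy, one_smul, sub_add_cancel]
  have hS := homMat_conj (a := a) hgc hgφ
  have hS' := homMat_conj (a := a) hgc' hgφ'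
  set v := (a ^ 3)⁻¹ with hvdef
  have hv0 : v ≠ 0 := inv_ne_zero (pow_ne_zero 3 ha)
  set w := v - 1 with hw
  have hS0 : homMat a ![0, 1, 0] ![0, 1, 0] = a • (!![1, 0, 0; 0, v, 0; 0, 0, 1] : M3) := by
    rw [homMat, ← hvdef]
    ext i j; fin_cases i <;> fin_cases j <;> simp [Matrix.vecMulVec_apply, hw]
  have hS'0 : homMat a ![(φ' ⬝ᵥ c)⁻¹, φ ⬝ᵥ c', 0] ![0, φ' ⬝ᵥ c, φ' ⬝ᵥ c] =
      a • (!![1, w, w; 0, v, w; 0, 0, 1] : M3) := by
    rw [homMat, ← hvdef]
    ext i j; fin_cases i <;> fin_cases j <;> simp [Matrix.vecMulVec_apply, hab, inv_mul_cancel₀ hy, hw]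
  set S : GL (Fin 3) F := g⁻¹ * s * g with hSdef
  set S' : GL (Fin 3) F := g⁻¹ * s' * g with hS'def
  have hSv : (S : M3) = a • (!![1, 0, 0; 0, v, 0; 0, 0, 1] : M3) := by
    rw [hSdef, Units.val_mul, Units.val_mul, mul_assoc, hsv, hS, ← mul_assoc, ← Units.val_mul, inv_mul_cancel,
      Units.val_one, one_mul, hS0]
  have hS'v : (S' : M3) = a • (!![1, w, w; 0, v, w; 0, 0, 1] : M3) := by
    rw [hS'def, Units.val_mul, Units.val_mul, mul_assoc, hs'v, hS', ← mul_assoc, ← Units.val_mul, inv_mul_cancel,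
      Units.val_one, one_mul, hS'0]
  set α := w * (v⁻¹ - 1) with hα
  set β := w ^ 2 / v with hβ
  set γ := -(w * β) with hγ
  set u₁ : GL (Fin 3) F := S'⁻¹ * (S * S' * S⁻¹) with hu₁
  set u₂ : GL (Fin 3) F := S * u₁ * S⁻¹ with hu₂
  clear_value u₁ u₂
  have hu₁v : (u₁ : M3) = !![1, α, γ; 0, 1, β; 0, 0, 1] := by
    have hkey : (S' : M3) * !![1, α, γ; 0, 1, β; 0, 0, 1] * (S : M3) = (S : M3) * (S' : M3) := by
      rw [hSv, hS'v]
      ext i j; fin_cases i <;> fin_cases j <;>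
        simp [Matrix.mul_apply, Fin.sum_univ_three, hα, hβ, hγ, hw] <;> field_simp <;> ring
    rw [hu₁, Units.val_mul, Units.val_mul, Units.val_mul]
    rw [← hkey, mul_assoc _ (S : M3) _, Units.mul_inv, mul_one, ← mul_assoc, Units.inv_mul, one_mul]
  have hu₂v : (u₂ : M3) = !![1, α / v, γ; 0, 1, v * β; 0, 0, 1] := by
    have hkey : (!![1, α / v, γ; 0, 1, v * β; 0, 0, 1] : M3) * (S : M3) = (S : M3) * (u₁ : M3) := by
      rw [hSv, hu₁v]
      ext i j; fin_cases i <;> fin_cases j <;>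
        simp [Matrix.mul_apply, Fin.sum_univ_three] <;> field_simp <;> ring
    rw [hu₂, Units.val_mul, Units.val_mul, ← hkey, mul_assoc, Units.mul_inv, mul_one]
  set κ := α * (v * β) - α / v * β with hκ
  have hκ0 : κ ≠ 0 := by
    have hαβ : α * β ≠ 0 := by
      refine mul_ne_zero (mul_ne_zero (sub_ne_zero.2 hv) (sub_ne_zero.2 fun e => hv (inv_eq_one.1 e))) ?_
      exact div_ne_zero (pow_ne_zero 2 (sub_ne_zero.2 hv)) hv0
    have hfac : κ * v = α * β * (v ^ 2 - 1) := by rw [hκ]; field_simp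
    intro e
    rw [e, zero_mul] at hfac
    exact mul_ne_zero hαβ (sub_ne_zero.2 hv2) hfac.symm
  have hmem : ∀ {x : GL (Fin 3) F}, g * x * g⁻¹ ∈ M → x ∈ M.comap (MulAut.conj g).toMonoidHom := fun h => h
  have hSm : S ∈ M.comap (MulAut.conj g).toMonoidHom := hmem (by rw [hSdef]; simpa [mul_assoc] using hs)
  have hS'm : S' ∈ M.comap (MulAut.conj g).toMonoidHom := hmem (by rw [hS'def]; simpa [mul_assoc] using hs')
  have hu₁m : u₁ ∈ M.comap (MulAut.conj g).toMonoidHom :=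
    hu₁ ▸ mul_mem (inv_mem hS'm) (mul_mem (mul_mem hSm hS'm) (inv_mem hSm))
  have hu₂m : u₂ ∈ M.comap (MulAut.conj g).toMonoidHom := hu₂ ▸ mul_mem (mul_mem hSm hu₁m) (inv_mem hSm)
  have h0 : (Pi.single 2 1 : Fin 3 → F) ⬝ᵥ Pi.single 0 κ = 0 := by simp
  have hE : tv (Pi.single 0 κ) (Pi.single 2 1) h0 ∈ M.comap (MulAut.conj g).toMonoidHom := by
    convert mul_mem (mul_mem hu₁m hu₂m) (inv_mem (mul_mem hu₂m hu₁m)) using 1
    rw [eq_mul_inv_iff_mul_eq]
    refine Units.ext ?_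
    rw [Units.val_mul, Units.val_mul, Units.val_mul, tv_val, hu₁v, hu₂v]
    ext i j; fin_cases i <;> fin_cases j <;>
      simp [Matrix.mul_apply, Fin.sum_univ_three, Matrix.vecMulVec_apply, Matrix.one_apply, hκ] <;> ring
  obtain ⟨h1, hconj⟩ := conj_tv g (Pi.single 0 κ) (Pi.single 2 1) h0
  refine ⟨_, _, mulVec_ne_zero g fun e => hκ0 (by simpa using congrFun e 0),
    vecMul_inv_ne_zero g fun e => by simpa using congrFun e 2, h1, ?_⟩
  rw [← hconj]
  exact hE

theorem orderOf_mk_triangular {B : GL (Fin 2) F} {x : F} (h : (B : M2) 1 0 = 0 ∧ (B : M2) 0 0 = x ∧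
    (B : M2) 1 1 = 1 ∨ (B : M2) 0 1 = 0 ∧ (B : M2) 0 0 = 1 ∧ (B : M2) 1 1 = x) [Finite F] :
    orderOf x ≤ orderOf (Matrix.ProjGenLinGroup.mk B) := by
  haveI : Finite (Matrix.ProjGenLinGroup (Fin 2) F) := Finite.of_surjective _ Matrix.ProjGenLinGroup.mk_surjective
  refine orderOf_le_of_pow_eq_one (orderOf_pos _) ?_
  set m := orderOf (Matrix.ProjGenLinGroup.mk B)
  have he : Matrix.ProjGenLinGroup.mk (B ^ m) = 1 := by rw [map_pow]; exact pow_orderOf_eq_one _
  rw [← MonoidHom.mem_ker, Matrix.ProjGenLinGroup.ker_mk, Matrix.GeneralLinearGroup.center_eq_range_scalar] at he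
  obtain ⟨t, ht⟩ := he
  have hsc : ((B : M2) ^ m) 0 0 = ((B : M2) ^ m) 1 1 := by
    rw [← Units.val_pow_eq_pow_val, ← ht]; simp [Matrix.GeneralLinearGroup.scalar]
  have hdiag : ∀ k : ℕ, ((B : M2) ^ k) 0 0 = (B : M2) 0 0 ^ k ∧ ((B : M2) ^ k) 1 1 = (B : M2) 1 1 ^ k ∧
      (((B : M2) 1 0 = 0 → ((B : M2) ^ k) 1 0 = 0) ∧ ((B : M2) 0 1 = 0 → ((B : M2) ^ k) 0 1 = 0)) := by
    intro k
    induction k with
    | zero => simp
    | succ k ih =>
      obtain ⟨i1, i2, i3, i4⟩ := ih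
      rcases h with ⟨h10, -, -⟩ | ⟨h01, -, -⟩ <;> simp [pow_succ, Matrix.mul_apply, Fin.sum_univ_two, *]
      all_goals intro hh
      all_goals simp_all
  rw [(hdiag m).1, (hdiag m).2.1] at hsc
  rcases h with ⟨-, h0, h1⟩ | ⟨-, h0, h1⟩ <;> rw [h0, h1, one_pow] at hsc
  · exact hsc
  · exact hsc.symm

/-- Without elations two centres are equal or commute. -/
theorem centre_dichotomy [Finite F] {a : F} (ha : a ≠ 0) (h6 : 6 ≤ orderOf ((a ^ 3)⁻¹)) (hno : ¬ HasElation M)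
    {c c' φ φ' : Fin 3 → F} (h : Hom M a c φ) (h' : Hom M a c' φ') :
    c' ∈ Submodule.span F {c} ∨ (φ ⬝ᵥ c' = 0 ∧ φ' ⬝ᵥ c = 0) := by
  refine or_iff_not_imp_left.2 fun hcc => ?_
  obtain ⟨v, hvdef⟩ : ∃ v, v = (a ^ 3)⁻¹ := ⟨_, rfl⟩
  rw [← hvdef] at h6
  have hv1 : v ≠ 1 := fun e => by rw [e, orderOf_one] at h6; omega
  have hv2 : v ^ 2 ≠ 1 := fun e => by have := orderOf_le_of_pow_eq_one (by norm_num) e; omega
  have hv0 : v ≠ 0 := hvdef ▸ inv_ne_zero (pow_ne_zero 3 ha)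
  by_cases hab : (φ ⬝ᵥ c') * (φ' ⬝ᵥ c) = 1
  · exact absurd (hasElation_of_meet ha (hvdef ▸ hv1) (hvdef ▸ hv2) h h' hab hcc) hno
  obtain ⟨hd, s, hs, hsv⟩ := h
  obtain ⟨hd', s', hs', hs'v⟩ := h'
  obtain ⟨x, hx⟩ : ∃ x, x = φ ⬝ᵥ c' := ⟨_, rfl⟩
  obtain ⟨y, hy⟩ : ∃ y, y = φ' ⬝ᵥ c := ⟨_, rfl⟩
  rw [← hx, ← hy] at hab ⊢
  obtain ⟨P, hP0, hφP, hφ'P⟩ : ∃ P : Fin 3 → F, P ≠ 0 ∧ φ ⬝ᵥ P = 0 ∧ φ' ⬝ᵥ P = 0 := by
    have hne : ¬ Function.Injective (Matrix.mulVecLin (Matrix.of ![φ, φ'])) := by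
      intro hinj
      have := LinearMap.finrank_le_finrank_of_injective hinj
      simp at this
    rw [← LinearMap.ker_eq_bot] at hne
    obtain ⟨P, hP, hP0⟩ := Submodule.exists_mem_ne_zero_of_ne_bot hne
    refine ⟨P, hP0, ?_, ?_⟩
    · simpa [Matrix.mulVec, Matrix.mulVecLin_apply] using congrFun (LinearMap.mem_ker.1 hP) 0
    · simpa [Matrix.mulVec, Matrix.mulVecLin_apply] using congrFun (LinearMap.mem_ker.1 hP) 1
  have hind : LinearIndependent F ![c, c', P] := by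
    rw [Fintype.linearIndependent_iff]
    intro g hg
    simp only [Fin.sum_univ_three, Matrix.cons_val_zero, Matrix.cons_val_one, Matrix.cons_val] at hg
    have e1 := congrArg (φ ⬝ᵥ ·) hg
    have e2 := congrArg (φ' ⬝ᵥ ·) hg
    simp only [dotProduct_add, dotProduct_smul, hd, hd', hφP, hφ'P, ← hx, ← hy, smul_eq_mul, mul_zero, add_zero,
      mul_one, dotProduct_zero] at e1 e2
    have h1 : g 1 * (1 - x * y) = 0 := by linear_combination e2 - y * e1
    have g1 : g 1 = 0 := (mul_eq_zero.1 h1).resolve_right (sub_ne_zero.2 (Ne.symm hab))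
    have g0 : g 0 = 0 := by simpa [g1] using e1
    rw [g0, g1, zero_smul, zero_smul, zero_add, zero_add, smul_eq_zero] at hg
    intro i; fin_cases i
    · exact g0
    · exact g1
    · exact hg.resolve_right hP0
  obtain ⟨g, hg⟩ := exists_gl_cols _ hind
  have hrow : ∀ ψ : Fin 3 → F, ψ ᵥ* (g : M3) = ![ψ ⬝ᵥ c, ψ ⬝ᵥ c', ψ ⬝ᵥ P] := by
    intro ψ; funext j
    have : (ψ ᵥ* (g : M3)) j = ψ ⬝ᵥ ![c, c', P] j := by rw [← hg, Matrix.dotProduct_mulVec]; simp
    rw [this]; fin_cases j <;> simp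
  have hgc : (g : M3) *ᵥ Pi.single 0 1 = c := hg 0
  have hgc' : (g : M3) *ᵥ Pi.single 1 1 = c' := hg 1
  set M' := M.comap (MulAut.conj g).toMonoidHom with hM'
  have hno' : ¬ HasElation M' := by
    rintro ⟨c₀, φ₀, hc₀, hφ₀, h₀, hm₀⟩
    obtain ⟨h1, hconj⟩ := conj_tv g c₀ φ₀ h₀
    exact hno ⟨_, _, mulVec_ne_zero g hc₀, vecMul_inv_ne_zero g hφ₀, h1, hconj ▸ hm₀⟩
  obtain ⟨p, hp⟩ := CharP.exists F
  haveI := hp
  haveI : Fact p.Prime := ⟨CharP.char_is_prime F p⟩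
  have hB : IsUnit (!![a * v, a * (v - 1) * x; 0, a] : M2) := by
    rw [Matrix.isUnit_iff_isUnit_det]; simp [Matrix.det_fin_two, ha, hv0]
  have hB' : IsUnit (!![a, 0; a * (v - 1) * y, a * v] : M2) := by
    rw [Matrix.isUnit_iff_isUnit_det]; simp [Matrix.det_fin_two, ha, hv0]
  have hin : hB.unit ∈ planeSet M' ∧ hB'.unit ∈ planeSet M' := by
    constructor
    · refine ⟨g⁻¹ * s * g, by show g * (g⁻¹ * s * g) * g⁻¹ ∈ M; simpa [mul_assoc] using hs, a, ha, ?_⟩
      rw [Units.val_mul, Units.val_mul, mul_assoc, hsv, homMat_conj hgc rfl, ← mul_assoc, ← Units.val_mul,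
        inv_mul_cancel, Units.val_one, one_mul, IsUnit.unit_spec, homMat, hrow, ← hvdef, hd, hφP, ← hx]
      ext i j; fin_cases i <;> fin_cases j <;>
        simp [blockMat, Matrix.vecMulVec_apply, mul_add, mul_assoc]
    · refine ⟨g⁻¹ * s' * g, by show g * (g⁻¹ * s' * g) * g⁻¹ ∈ M; simpa [mul_assoc] using hs', a, ha, ?_⟩
      rw [Units.val_mul, Units.val_mul, mul_assoc, hs'v, homMat_conj hgc' rfl, ← mul_assoc, ← Units.val_mul,
        inv_mul_cancel, Units.val_one, one_mul, IsUnit.unit_spec, homMat, hrow, ← hvdef, hd', hφ'P, ← hy]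
      ext i j; fin_cases i <;> fin_cases j <;>
        simp [blockMat, Matrix.vecMulVec_apply, mul_add, mul_assoc]
  have hscale : ∀ (B : GL (Fin 2) F), ∃ B₁ : GL (Fin 2) F, (B₁ : M2) = a⁻¹ • (B : M2) ∧
      Matrix.ProjGenLinGroup.mk B₁ = Matrix.ProjGenLinGroup.mk B := fun B => by
    refine ⟨Matrix.GeneralLinearGroup.scalar (Fin 2) (Units.mk0 a⁻¹ (inv_ne_zero ha)) * B, ?_, ?_⟩
    · rw [Units.val_mul]
      ext i j
      simp [Matrix.GeneralLinearGroup.scalar, Matrix.scalar_apply]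
    · rw [map_mul, show Matrix.ProjGenLinGroup.mk (Matrix.GeneralLinearGroup.scalar (Fin 2)
        (Units.mk0 a⁻¹ (inv_ne_zero ha))) = 1 by
          rw [← MonoidHom.mem_ker, Matrix.ProjGenLinGroup.ker_mk,
            Matrix.GeneralLinearGroup.center_eq_range_scalar]
          exact ⟨_, rfl⟩, one_mul]
  obtain ⟨B₁, hB₁, hB₁m⟩ := hscale hB.unit
  obtain ⟨B₂, hB₂, hB₂m⟩ := hscale hB'.unit
  rw [IsUnit.unit_spec] at hB₁ hB₂
  have ho1 : 6 ≤ orderOf (Matrix.ProjGenLinGroup.mk hB.unit) := by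
    rw [← hB₁m]
    refine h6.trans (orderOf_mk_triangular (Or.inl ?_))
    rw [hB₁]; simp [ha]
  have ho2 : 6 ≤ orderOf (Matrix.ProjGenLinGroup.mk hB'.unit) := by
    rw [← hB₂m]
    refine h6.trans (orderOf_mk_triangular (Or.inr ?_))
    rw [hB₂]; simp [ha]
  have hcomm := plane_commute (p := p) hno' hin.1 hin.2 ho1 ho2
  rw [← map_mul, ← map_mul, ← div_eq_one, ← map_div, ← MonoidHom.mem_ker, Matrix.ProjGenLinGroup.ker_mk,
    Matrix.GeneralLinearGroup.center_eq_range_scalar] at hcomm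
  obtain ⟨t, ht⟩ := hcomm
  rw [eq_div_iff_mul_eq'] at ht
  have hent := congrArg (fun X : GL (Fin 2) F => (X : M2)) ht
  simp only [Units.val_mul, IsUnit.unit_spec] at hent
  have e00 := congrFun (congrFun hent 0) 0
  have e01 := congrFun (congrFun hent 0) 1
  have e10 := congrFun (congrFun hent 1) 0
  simp [Matrix.mul_apply, Fin.sum_univ_two, Matrix.GeneralLinearGroup.scalar, Matrix.scalar_apply,
    ] at e00 e01 e10
  have hw : v - 1 ≠ 0 := sub_ne_zero.2 hv1
  have ha2 : a * a ≠ 0 := mul_ne_zero ha ha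
  have f00 : (t : F) * v = v + (v - 1) ^ 2 * (x * y) := mul_left_cancel₀ ha2 (by linear_combination e00)
  have f01 : (t : F) * x = v * x := mul_left_cancel₀ (mul_ne_zero ha2 hw) (by linear_combination e01)
  have f10 : (t : F) * (v * y) = y := mul_left_cancel₀ (mul_ne_zero ha2 hw) (by linear_combination e10)
  by_cases hx0 : x = 0
  · refine ⟨hx0, ?_⟩
    by_contra hy0
    have htv : (t : F) * v = 1 := mul_left_cancel₀ hy0 (by linear_combination f10)
    rw [hx0, zero_mul, mul_zero, add_zero, htv] at f00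
    exact hv1 f00.symm
  · exfalso
    have htv : (t : F) = v := mul_left_cancel₀ hx0 (by linear_combination f01)
    rw [htv] at f10 f00
    by_cases hy0 : y = 0
    · rw [hy0, mul_zero, mul_zero, add_zero] at f00
      exact hv1 (mul_left_cancel₀ hv0 (by linear_combination f00))
    · exact hv2 (mul_left_cancel₀ hy0 (by linear_combination f10))

end CfsgLib.Dim3Max
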