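import Cfsg.Prelude.Def_Classical
import Cfsg.Prelude.Def_LieClassical
import Cfsg.Prelude.Def_GeometricClasses
import Cfsg.Agent.Lib.Maximal.FormTv
import Cfsg.Agent.Lib.Maximal.HermTv

/-!
Interfaces of the dimension three maximality proofs (S5774 and S5777); see `tools/dim3_max_plan.md`.

`LinTools F` and `UTools F q τ` collect the shared statements; the row files may take them as hypotheses and the
pieces proving them are independent of the rows.
-/

set_option autoImplicit false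

namespace CfsgLib.Dim3Max

open scoped Matrix MatrixGroups
open CfsgLib.Maximal

universe u

variable {F : Type u} [Field F]

/-- The subgroup acts irreducibly on the space. -/
abbrev Irr (M : Subgroup (GL (Fin 3) F)) : Prop := Cfsg.Geo.ActsIrreducibly (Cfsg.Geo.matrixSet M)

/-- The special linear group inside the general linear group. -/
abbrev sl3 (F : Type u) [Field F] : Subgroup (GL (Fin 3) F) := Cfsg.Geo.specialLinear (Fin 3) F

/-- The subgroup contains an elation. -/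
def HasElation (M : Subgroup (GL (Fin 3) F)) : Prop :=
  ∃ c φ : Fin 3 → F, c ≠ 0 ∧ φ ≠ 0 ∧ Has M c φ

/-- The elations with flag `(c, φ)` of weights in `K` lie in the subgroup. -/
def RootField (M : Subgroup (GL (Fin 3) F)) (K : Subfield F) (c φ : Fin 3 → F) : Prop :=
  c ≠ 0 ∧ φ ≠ 0 ∧ ∀ x ∈ K, Has M (x • c) φ

/-- The whole root group of the flag `(c, φ)` lies in the subgroup. -/
def FullRoot (M : Subgroup (GL (Fin 3) F)) (c φ : Fin 3 → F) : Prop :=
  c ≠ 0 ∧ φ ≠ 0 ∧ ∀ x : F, Has M (x • c) φ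

/-- Two commuting involutions of the subgroup are equal. -/
def RankOne {G : Type*} [Group G] (M : Subgroup G) : Prop :=
  ∀ a ∈ M, ∀ b ∈ M, orderOf a = 2 → orderOf b = 2 → a * b = b * a → a = b

/-- Some element of the subgroup has matrix `diag t` in the frame `g`. -/
def DiagIn (M : Subgroup (GL (Fin 3) F)) (g : GL (Fin 3) F) (t : Fin 3 → F) : Prop :=
  ∃ m ∈ M, (m : Matrix (Fin 3) (Fin 3) F) * (g : Matrix (Fin 3) (Fin 3) F) =
    (g : Matrix (Fin 3) (Fin 3) F) * Matrix.diagonal t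

/-- The element is monomial in the frame `g`. -/
def MonoIn (g m : GL (Fin 3) F) : Prop :=
  ∃ (π : Equiv.Perm (Fin 3)) (t : Fin 3 → F),
    ∀ i, (m : Matrix (Fin 3) (Fin 3) F) *ᵥ ((g : Matrix (Fin 3) (Fin 3) F) *ᵥ Pi.single i 1) =
      t i • ((g : Matrix (Fin 3) (Fin 3) F) *ᵥ Pi.single (π i) 1)

/-- An elation of the frame `g` whose centre or axis is not a coordinate one. -/
def OffFrame (g : GL (Fin 3) F) (c φ : Fin 3 → F) : Prop :=
  ∃ i, (φ ᵥ* (g : Matrix (Fin 3) (Fin 3) F)) i *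
    (((g⁻¹ : GL (Fin 3) F) : Matrix (Fin 3) (Fin 3) F) *ᵥ c) i ≠ 0

/-- `d` are eigenvalues of `a` over an extension `K`, with eigenvectors forming a frame. -/
def EigenData (a : GL (Fin 3) F) (K : Type u) [Field K] [Algebra F K] (d : Fin 3 → K) : Prop :=
  ∃ g : GL (Fin 3) K, (a : Matrix (Fin 3) (Fin 3) F).map (algebraMap F K) * (g : Matrix (Fin 3) (Fin 3) K) =
    (g : Matrix (Fin 3) (Fin 3) K) * Matrix.diagonal d

/-- The ratios of `d` other than one are not carried into ratios of `d` by the `b`th power. -/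
def RatioUnstable {K : Type u} [Field K] (d : Fin 3 → K) (b : ℕ) : Prop :=
  ∀ i j k l, d i ≠ d j → (d i / d j) ^ b ≠ d k / d l

/-- The elation moved by powers of `a` gives a non-zero product. -/
def MovesFlags (M : Subgroup (GL (Fin 3) F)) (a : GL (Fin 3) F) : Prop :=
  ∀ c φ : Fin 3 → F, c ≠ 0 → φ ≠ 0 → Has M c φ → ∃ m : ℕ,
    (φ ⬝ᵥ (((a ^ m : GL (Fin 3) F) : Matrix (Fin 3) (Fin 3) F) *ᵥ c)) *
      (φ ⬝ᵥ ((((a ^ m)⁻¹ : GL (Fin 3) F) : Matrix (Fin 3) (Fin 3) F) *ᵥ c)) ≠ 0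

section linear

variable [Fintype F]

/-- E1: a full root group in an irreducible subgroup gives the special linear group. -/
def FullRootStmt (F : Type u) [Field F] : Prop :=
  ∀ M : Subgroup (GL (Fin 3) F), Irr M → ∀ c φ : Fin 3 → F, FullRoot M c φ → sl3 F ≤ M

/-- E1p: over a field of prime order an elation suffices. -/
def PrimeStmt (F : Type u) [Field F] [Fintype F] : Prop :=
  (Fintype.card F).Prime → ∀ M : Subgroup (GL (Fin 3) F), Irr M → HasElation M → sl3 F ≤ M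

/-- D2: a root field and an opposite elation. -/
def PairStmt (F : Type u) [Field F] : Prop :=
  ∀ M : Subgroup (GL (Fin 3) F), ∀ (K : Subfield F) (c φ c' φ' : Fin 3 → F), RootField M K c φ → Has M c' φ' →
    (φ ⬝ᵥ c') * (φ' ⬝ᵥ c) ≠ 0 → Nat.card K ≠ 2 →
    (Nat.card K = 3 → ((φ ⬝ᵥ c') * (φ' ⬝ᵥ c)) ^ 2 ≠ -1) →
    RootField M (Subfield.closure (↑K ∪ {(φ ⬝ᵥ c') * (φ' ⬝ᵥ c)})) c φ

/-- K: in characteristic two commuting involutions give a bigger root field, except in small groups. -/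
def FourStmt (F : Type u) [Field F] : Prop :=
  (2 : F) = 0 → ∀ M : Subgroup (GL (Fin 3) F), M ≤ sl3 F → Irr M → ¬ RankOne M → ¬ Nat.card M ∣ 181440 →
    ∃ (K : Subfield F) (c φ : Fin 3 → F), 4 ≤ Nat.card K ∧ RootField M K c φ

/-- BS: a subgroup of rank one in characteristic two is solvable. -/
def RankOneStmt (F : Type u) [Field F] : Prop :=
  (2 : F) = 0 → ∀ M : Subgroup (GL (Fin 3) F), M ≤ sl3 F → RankOne M → IsSolvable M

/-- SOLV: a solvable irreducible subgroup with a large diagonal subgroup is monomial. -/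
def SolvStmt (F : Type u) [Field F] : Prop :=
  ∀ M : Subgroup (GL (Fin 3) F), M ≤ sl3 F → Irr M → IsSolvable M →
    ∀ (g : GL (Fin 3) F) (A : Subgroup (GL (Fin 3) F)), A ≤ M →
      (∀ a ∈ A, ∃ t : Fin 3 → F, (a : Matrix (Fin 3) (Fin 3) F) * (g : Matrix (Fin 3) (Fin 3) F) =
        (g : Matrix (Fin 3) (Fin 3) F) * Matrix.diagonal t) →
      (∃ (a : GL (Fin 3) F) (t : Fin 3 → F), a ∈ A ∧
        (a : Matrix (Fin 3) (Fin 3) F) * (g : Matrix (Fin 3) (Fin 3) F) =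
          (g : Matrix (Fin 3) (Fin 3) F) * Matrix.diagonal t ∧ ∀ i j, i ≠ j → t i ^ 6 ≠ t j ^ 6) →
      (¬ Nat.card A ∣ 648 ∨ 81 ≤ Nat.card A) → ∀ m ∈ M, MonoIn g m

/-- FULL for the split torus: an elation off the frame. -/
def SplitStmt (F : Type u) [Field F] [Fintype F] : Prop :=
  5 ≤ Fintype.card F → ∀ M : Subgroup (GL (Fin 3) F), M ≤ sl3 F → Irr M → ∀ g : GL (Fin 3) F,
    (∀ t : Fin 3 → F, t 0 * t 1 * t 2 = 1 → DiagIn M g t) → ((2 : F) = 0 → ¬ Nat.card M ∣ 181440) →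
    HasElation M →
    (∀ c φ : Fin 3 → F, c ≠ 0 → φ ≠ 0 → Has M c φ → OffFrame g c φ) →
    sl3 F ≤ M ∨ ((2 : F) = 0 ∧ RankOne M) ∨ Fintype.card F = 9

/-- FULL for one semisimple element. -/
def CyclicStmt (F : Type u) [Field F] [Fintype F] : Prop :=
  ∀ M : Subgroup (GL (Fin 3) F), M ≤ sl3 F → Irr M → ((2 : F) = 0 → ¬ Nat.card M ∣ 181440) →
    HasElation M →
    ∀ a ∈ M, ∀ (K : Type u) [Field K] [Algebra F K] (d : Fin 3 → K), EigenData a K d →
      (∀ L : Subfield F, L ≠ ⊤ → RatioUnstable d (Nat.card L)) → MovesFlags M a →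
      sl3 F ≤ M ∨ ((2 : F) = 0 ∧ RankOne M) ∨ Fintype.card F = 9

/-- The shared statements of the linear rows. -/
structure LinTools (F : Type u) [Field F] [Fintype F] : Prop where
  full_root : FullRootStmt F
  prime : PrimeStmt F
  pair : PairStmt F
  four : FourStmt F
  rank_one : RankOneStmt F
  solv : SolvStmt F
  split : SplitStmt F
  cyclic : CyclicStmt F

/-- S5774, row 2. -/
def LinMonoRow (F : Type u) [Field F] [Fintype F] : Prop :=
  5 ≤ Fintype.card F → ∀ D : Fin 3 → Submodule F (Fin 3 → F), Cfsg.Geo.IsMDecomposition 1 D →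
    Cfsg.Geo.IsMaximalIn (sl3 F) (Cfsg.Geo.decompositionStabilizer D ⊓ sl3 F)

/-- S5774, row 3. -/
def LinSingerRow (F : Type u) [Field F] [Fintype F] : Prop :=
  Fintype.card F ≠ 4 → ∀ K : Subalgebra F (Matrix (Fin 3) (Fin 3) F), Cfsg.Geo.IsFieldSubalgebra 3 K →
    Cfsg.Geo.IsMaximalIn (sl3 F) (Cfsg.Geo.subalgebraNormalizer K ⊓ sl3 F)

/-- S5774, row 4. -/
def LinSubfieldRow (F : Type u) [Field F] [Fintype F] : Prop :=
  ∀ (F₀ : Subfield F) (r : ℕ) (P : GL (Fin 3) F), r.Prime → Fintype.card F = Nat.card F₀ ^ r →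
    Cfsg.Geo.IsMaximalIn (sl3 F) (Cfsg.Geo.subfieldSubgroup F₀ P ⊓ sl3 F)

/-- S5774, row 5. -/
def LinSixRow (F : Type u) [Field F] [Fintype F] : Prop :=
  ∀ (p : ℕ) (R : Subgroup (GL (Fin 3) F)), p.Prime → Fintype.card F = p → p % 3 = 1 →
    Cfsg.Geo.IsLinearSymplecticTypeData 3 R →
    Cfsg.Geo.IsMaximalIn (sl3 F) (Cfsg.Geo.subgroupNormalizer R ⊓ sl3 F)

/-- S5774, row 6. -/
def LinOrthRow (F : Type u) [Field F] [Fintype F] : Prop :=
  Odd (Fintype.card F) → ∀ Q : (Fin 3 → F) → F, Cfsg.Geo.IsNondegenerateQuadraticForm Q →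
    Cfsg.Geo.IsMaximalIn (sl3 F) (Cfsg.Geo.quadSimilarityGroup Q ⊓ sl3 F)

/-- S5774, row 7. -/
def LinUnitaryRow (F : Type u) [Field F] [Fintype F] : Prop :=
  ∀ (σ : F ≃+* F) (f : (Fin 3 → F) → (Fin 3 → F) → F), Cfsg.Geo.IsUnitaryForm σ f →
    Cfsg.Geo.IsMaximalIn (sl3 F) (Cfsg.Geo.similarityGroup f ⊓ sl3 F)

end linear

section unitary

variable (q : ℕ) (τ : F ≃+* F)

/-- The standard special unitary group of dimension three. -/
abbrev su3 (F : Type u) [Field F] (q : ℕ) : Subgroup (GL (Fin 3) F) := suGL 3 F q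

/-- The standard form. -/
abbrev hf3 (F : Type u) [Field F] (q : ℕ) : (Fin 3 → F) → (Fin 3 → F) → F := Cfsg.hermForm 3 F q

/-- The ambient data of the unitary rows. -/
structure USetup [Fintype F] : Prop where
  card : Fintype.card F = q ^ 2
  three_le : 3 ≤ q
  pow : ∀ x, τ x = x ^ q
  form : Cfsg.Geo.IsUnitaryForm τ (hf3 F q)

/-- The unitary elations with centre `v` and weights in `k • K` lie in the subgroup. -/
def URoot (M : Subgroup (GL (Fin 3) F)) (K : Subfield F) (k : F) (v : Fin 3 → F) : Prop :=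
  v ≠ 0 ∧ hf3 F q v v = 0 ∧ k ≠ 0 ∧ τ k = -k ∧ (∀ x ∈ K, τ x = x) ∧
    ∀ x ∈ K, Has M ((x * k) • v) (fvec (hf3 F q) v)

/-- E2: an isotropic point with all its elations in an irreducible subgroup gives everything. -/
def UFullStmt : Prop :=
  ∀ M : Subgroup (GL (Fin 3) F), M ≤ su3 F q → Irr M → ∀ v : Fin 3 → F, v ≠ 0 → hf3 F q v v = 0 →
    UFull τ q M v → su3 F q ≤ M

/-- Over a field with `p²` elements an elation suffices. -/
def UPrimeStmt : Prop :=
  q.Prime → ∀ M : Subgroup (GL (Fin 3) F), M ≤ su3 F q → Irr M → HasElation M → su3 F q ≤ M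

/-- D2 and K for unitary elations: the weights contain the product, or every pair is of the small kinds. -/
def UPairStmt : Prop :=
  ∀ M : Subgroup (GL (Fin 3) F), M ≤ su3 F q → ∀ (K : Subfield F) (k k' : F) (v w : Fin 3 → F),
    URoot q τ M K k v → τ k' = -k' → hf3 F q w w = 0 → Has M (k' • w) (fvec (hf3 F q) w) →
    k * k' * (hf3 F q v w * hf3 F q w v) ≠ 0 → Nat.card K ≠ 2 →
    (Nat.card K = 3 → (k * k' * (hf3 F q v w * hf3 F q w v)) ^ 2 ≠ -1) →
    URoot q τ M (Subfield.closure (↑K ∪ {k * k' * (hf3 F q v w * hf3 F q w v)})) k v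

/-- K for unitary elations. -/
def UFourStmt : Prop :=
  (2 : F) = 0 → ∀ M : Subgroup (GL (Fin 3) F), M ≤ su3 F q → Irr M → ¬ RankOne M →
    ∃ (K : Subfield F) (k : F) (v : Fin 3 → F), 4 ≤ Nat.card K ∧ URoot q τ M K k v

/-- FULL for the torus of an orthogonal frame. -/
def USplitStmt : Prop :=
  4 ≤ q → ∀ M : Subgroup (GL (Fin 3) F), M ≤ su3 F q → Irr M → ∀ g : GL (Fin 3) F,
    (∀ i j, i ≠ j → hf3 F q ((g : Matrix (Fin 3) (Fin 3) F) *ᵥ Pi.single i 1)
      ((g : Matrix (Fin 3) (Fin 3) F) *ᵥ Pi.single j 1) = 0) →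
    (∀ t : Fin 3 → F, (∀ i, t i ^ (q + 1) = 1) → t 0 * t 1 * t 2 = 1 → DiagIn M g t) → HasElation M →
    su3 F q ≤ M ∨ ((2 : F) = 0 ∧ RankOne M)

/-- FULL for one semisimple unitary element. -/
def UCyclicStmt : Prop :=
  ∀ M : Subgroup (GL (Fin 3) F), M ≤ su3 F q → Irr M → HasElation M →
    ∀ a ∈ M, ∀ (K : Type u) [Field K] [Algebra F K] (d : Fin 3 → K), EigenData a K d →
      (∀ L : Subfield F, (∀ x ∈ L, τ x = x) → Nat.card L ≠ q → RatioUnstable d (Nat.card L)) →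
      MovesFlags M a → su3 F q ≤ M ∨ ((2 : F) = 0 ∧ RankOne M) ∨ q = 9

/-- The shared statements of the unitary rows. -/
structure UTools : Prop where
  full : UFullStmt q τ (F := F)
  prime : UPrimeStmt (F := F) q
  pair : UPairStmt q τ (F := F)
  four : UFourStmt q τ (F := F)
  rank_one : RankOneStmt F
  solv : SolvStmt F
  split : USplitStmt (F := F) q
  cyclic : UCyclicStmt q τ (F := F)

/-- S5777, row 3. -/
def UMonoRow : Prop :=
  q ≠ 5 → ∀ D : Fin 3 → Submodule F (Fin 3 → F), Cfsg.Geo.IsNondegenerateMDecomposition (hf3 F q) 1 D →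
    Cfsg.Geo.IsMaximalIn (su3 F q) (Cfsg.Geo.decompositionStabilizer D ⊓ su3 F q)

/-- S5777, row 4. -/
def USingerRow : Prop :=
  q ≠ 3 → q ≠ 5 → ∀ K : Subalgebra F (Matrix (Fin 3) (Fin 3) F), Cfsg.Geo.IsFieldSubalgebra 3 K →
    Cfsg.Geo.IsAdjointClosedFor (hf3 F q) K →
    Cfsg.Geo.IsMaximalIn (su3 F q) (Cfsg.Geo.subalgebraNormalizer K ⊓ su3 F q)

/-- S5777, row 5. -/
def USubfieldRow [Fintype F] : Prop :=
  ∀ (F₀ : Subfield F) (r : ℕ) (P : GL (Fin 3) F), r.Prime → Odd r → Fintype.card F = Nat.card F₀ ^ r →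
    Cfsg.Geo.IsFormRationalStructure (hf3 F q) F₀ 1 P →
    Cfsg.Geo.IsMaximalIn (su3 F q) (Cfsg.Geo.subfieldSubgroup F₀ P ⊓ su3 F q)

/-- S5777, row 6. -/
def UOrthRow [Fintype F] : Prop :=
  Odd q → 7 ≤ q → ∀ (F₀ : Subfield F) (P : GL (Fin 3) F), Fintype.card F = Nat.card F₀ ^ 2 →
    Cfsg.Geo.IsFormRationalStructure (hf3 F q) F₀ 1 P →
    Cfsg.Geo.IsMaximalIn (su3 F q) (Cfsg.Geo.subfieldSubgroup F₀ P ⊓ su3 F q)

/-- S5777, row 7. -/
def USixRow : Prop :=
  ∀ (p : ℕ) (R : Subgroup (GL (Fin 3) F)), p.Prime → q = p → p % 3 = 2 → 11 ≤ p →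
    Cfsg.Geo.IsSymplecticTypeGroup 3 R → Cfsg.Geo.ActsAbsolutelyIrreducibly (Cfsg.Geo.matrixSet R) →
    R ≤ Cfsg.Geo.similarityGroup (hf3 F q) → Nat.card R = 27 → Nat.card (Subgroup.center R) = 3 →
    Cfsg.Geo.IsMaximalIn (su3 F q) (Cfsg.Geo.subgroupNormalizer R ⊓ su3 F q)

end unitary

end CfsgLib.Dim3Max
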