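import Cfsg.Agent.Lib.Dim3Max.FourStd

/-!
K: in characteristic two commuting involutions give a root field of order at least four, except in small groups.
-/

set_option autoImplicit false

namespace CfsgLib.Dim3Max

open CfsgLib.Maximal Four

universe u

variable {F : Type u} [Field F]

theorem Four.goal_of_pairable [Fintype F] (h2 : (2 : F) = 0) {M : Subgroup (GL (Fin 3) F)} (hM : M ≤ sl3 F)
    (hs : Spread M) (hcard : ¬ Nat.card M ∣ 181440) (h : Pairable M) : Goal M := by
  obtain ⟨e, c, φa, φb, ψ, he, ha, hb, hy, hac, hbc, hne, hψ⟩ := h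
  rcases pair h2 hM he ha hb hy hac hbc hne hψ with h | ⟨g, K, l, -, -, -, hstd⟩
  · exact h
  by_contra hng
  have hng' : ¬ Goal (conjG g M) := fun h => hng (goal_conjG h)
  haveI : Fact (Nat.Prime 2) := ⟨Nat.prime_two⟩
  haveI : CharP F 2 := (CharP.charP_iff_prime_eq_zero Nat.prime_two).2 (by exact_mod_cast h2)
  by_cases h4 : Nat.card K = 4
  · exact hcard (card_conjG g ▸ small_of_four h2 (conjG_le hM) (spread_conjG hs) hstd h4 hng')
  · refine hng' (goal_of_eight h2 (conjG_le hM) (spread_conjG hs) hstd ?_)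
    obtain ⟨a, -, hKa⟩ := CfsgLib.PSL2.natCard_eq_pow (p := 2) (K := K)
    have h4' := hstd.card
    rcases Nat.lt_or_ge a 3 with h3 | h3
    · interval_cases a <;> omega
    · rw [hKa]; exact Nat.pow_le_pow_right (show 0 < 2 by norm_num) h3

/-- K. -/
theorem fourStmt [Fintype F] : FourStmt F := by
  intro h2 M hM hirr hrank hcard
  have hs := spread_of_irr hirr
  have two : ∀ {N : Subgroup (GL (Fin 3) F)}, N ≤ sl3 F → Spread N → ¬ Nat.card N ∣ 181440 → TwoAxes N →
      Goal N := fun hN hsN hcN h =>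
    (pairable_or_small h2 hN hsN h).elim (goal_of_pairable h2 hN hsN hcN) (fun h => absurd h hcN)
  rcases four_cases h2 hrank with ⟨e, φ, ρ, he, hφ, h0, h1, ha, hb⟩ | h | h
  · exact (pairable_or_twoAxes hs he hφ h0 h1 ha hb).elim (goal_of_pairable h2 hM hs hcard) (two hM hs hcard)
  · exact two hM hs hcard h
  · exact goal_dual (two (dualG_le hM) (spread_dual hs) (by rwa [card_dualG]) h)

end CfsgLib.Dim3Max
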