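import Cfsg.Agent.Lib.Dim3Max.Calc

/-!
Frames, duality and commuting involutions in dimension three.
-/

set_option autoImplicit false

namespace CfsgLib.Dim3Max.Four

open Matrix CfsgLib.Maximal

universe u

variable {F : Type u} [Field F] {M : Subgroup (GL (Fin 3) F)}

/-- The conclusion: a root field of order at least four. -/
def Goal (M : Subgroup (GL (Fin 3) F)) : Prop :=
  ∃ (K : Subfield F) (c φ : Fin 3 → F), 4 ≤ Nat.card K ∧ RootField M K c φ

/-- Every orbit of non-zero vectors spans. -/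
def Spread (M : Subgroup (GL (Fin 3) F)) : Prop :=
  ∀ c η : Fin 3 → F, c ≠ 0 → η ≠ 0 → ∃ g ∈ M, η ⬝ᵥ ((g : Matrix (Fin 3) (Fin 3) F) *ᵥ c) ≠ 0

theorem spread_of_irr (h : Irr M) : Spread M := fun _ _ hc hη => exists_dot_orbit h hc hη

/-- The subgroup in the frame `g`. -/
def conjG (g : GL (Fin 3) F) (M : Subgroup (GL (Fin 3) F)) : Subgroup (GL (Fin 3) F) :=
  M.comap (MulAut.conj g).toMonoidHom

theorem mem_conjG {g m : GL (Fin 3) F} : m ∈ conjG g M ↔ g * m * g⁻¹ ∈ M := Iff.rfl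

theorem card_conjG (g : GL (Fin 3) F) : Nat.card (conjG g M) = Nat.card M :=
  Nat.card_congr
    { toFun := fun m => ⟨g * m.1 * g⁻¹, m.2⟩
      invFun := fun m => ⟨g⁻¹ * m.1 * g, by rw [mem_conjG]; convert m.2 using 1; group⟩
      left_inv := fun m => Subtype.ext (by group)
      right_inv := fun m => Subtype.ext (by group) }

theorem conjG_le {g : GL (Fin 3) F} (h : M ≤ sl3 F) : conjG g M ≤ sl3 F := fun m hm => by
  have := h (mem_conjG.1 hm)
  rw [mem_specialLinear_iff, Units.val_mul, Units.val_mul, Matrix.det_mul, Matrix.det_mul] at this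
  rw [mem_specialLinear_iff, ← this, mul_comm (g : Matrix (Fin 3) (Fin 3) F).det, mul_assoc, ← Matrix.det_mul,
    Units.mul_inv, Matrix.det_one, mul_one]

theorem has_conjG {g : GL (Fin 3) F} {a φ : Fin 3 → F} : Has (conjG g M) a φ ↔
    Has M ((g : Matrix (Fin 3) (Fin 3) F) *ᵥ a) (φ ᵥ* ((g⁻¹ : GL (Fin 3) F) : Matrix (Fin 3) (Fin 3) F)) := by
  constructor
  · rintro ⟨h, hm⟩
    obtain ⟨h', he⟩ := conj_tv g a φ h
    exact ⟨h', he ▸ hm⟩
  · rintro ⟨h', hm⟩
    have h : φ ⬝ᵥ a = 0 := by rw [← dot_vecMul_inv g φ a]; exact h'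
    obtain ⟨h'', he⟩ := conj_tv g a φ h
    exact ⟨h, mem_conjG.2 (he.symm ▸ hm)⟩

theorem vecMul_self_inv (g : GL (Fin 3) F) (φ : Fin 3 → F) :
    (φ ᵥ* (g : Matrix (Fin 3) (Fin 3) F)) ᵥ* ((g⁻¹ : GL (Fin 3) F) : Matrix (Fin 3) (Fin 3) F) = φ := by
  rw [Matrix.vecMul_vecMul, ← Units.val_mul, mul_inv_cancel, Units.val_one, Matrix.vecMul_one]

theorem has_conjG' {g : GL (Fin 3) F} {a φ : Fin 3 → F} :
    Has (conjG g M) a (φ ᵥ* (g : Matrix (Fin 3) (Fin 3) F)) ↔ Has M ((g : Matrix (Fin 3) (Fin 3) F) *ᵥ a) φ := by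
  rw [has_conjG, vecMul_self_inv]

theorem goal_conjG {g : GL (Fin 3) F} (h : Goal (conjG g M)) : Goal M := by
  obtain ⟨K, c, φ, hK, hc, hφ, hx⟩ := h
  refine ⟨K, (g : Matrix (Fin 3) (Fin 3) F) *ᵥ c, φ ᵥ* ((g⁻¹ : GL (Fin 3) F) : Matrix (Fin 3) (Fin 3) F), hK,
    mulVec_ne_zero g hc, vecMul_inv_ne_zero g hφ, fun x hxK => ?_⟩
  rw [← Matrix.mulVec_smul]
  exact has_conjG.1 (hx x hxK)

theorem spread_conjG {g : GL (Fin 3) F} (h : Spread M) : Spread (conjG g M) := by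
  intro c η hc hη
  obtain ⟨m, hm, hne⟩ := h _ _ (mulVec_ne_zero g hc) (vecMul_inv_ne_zero g hη)
  refine ⟨g⁻¹ * m * g, by rw [mem_conjG]; convert hm using 1; group, ?_⟩
  rw [← dot_vecMul_inv g]
  convert hne using 2
  rw [Matrix.mulVec_mulVec, Matrix.mulVec_mulVec, ← Units.val_mul, ← Units.val_mul]
  congr 1
  group

/-- Inverse transpose. -/
def dualHom : GL (Fin 3) F →* GL (Fin 3) F where
  toFun g := ⟨((g⁻¹ : GL (Fin 3) F) : Matrix (Fin 3) (Fin 3) F)ᵀ, (g : Matrix (Fin 3) (Fin 3) F)ᵀ,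
    by rw [← Matrix.transpose_mul, Units.mul_inv, Matrix.transpose_one],
    by rw [← Matrix.transpose_mul, Units.inv_mul, Matrix.transpose_one]⟩
  map_one' := Units.ext (by simp)
  map_mul' g h := Units.ext (by simp [Matrix.transpose_mul])

theorem dualHom_val (g : GL (Fin 3) F) : ((dualHom g : GL (Fin 3) F) : Matrix (Fin 3) (Fin 3) F) =
    ((g⁻¹ : GL (Fin 3) F) : Matrix (Fin 3) (Fin 3) F)ᵀ := rfl

theorem dualHom_dualHom (g : GL (Fin 3) F) : dualHom (dualHom g) = g :=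
  Units.ext (by rw [dualHom_val, ← map_inv, dualHom_val, inv_inv, Matrix.transpose_transpose])

/-- The dual subgroup. -/
def dualG (M : Subgroup (GL (Fin 3) F)) : Subgroup (GL (Fin 3) F) := M.comap dualHom

theorem mem_dualG {g : GL (Fin 3) F} : g ∈ dualG M ↔ dualHom g ∈ M := Iff.rfl

theorem card_dualG : Nat.card (dualG M) = Nat.card M :=
  Nat.card_congr
    { toFun := fun m => ⟨dualHom m.1, m.2⟩
      invFun := fun m => ⟨dualHom m.1, by rw [mem_dualG, dualHom_dualHom]; exact m.2⟩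
      left_inv := fun m => Subtype.ext (dualHom_dualHom _)
      right_inv := fun m => Subtype.ext (dualHom_dualHom _) }

theorem has_dual_of {a φ : Fin 3 → F} (h : Has M a φ) : Has (dualG M) φ a := by
  obtain ⟨h, hm⟩ := h.neg
  rw [dotProduct_neg, neg_eq_zero] at h
  have h' : a ⬝ᵥ φ = 0 := by rwa [dotProduct_comm]
  refine ⟨h', ?_⟩
  rw [mem_dualG]
  convert hm using 1
  refine Units.ext ?_
  rw [dualHom_val, show ((tv φ a h')⁻¹ : GL (Fin 3) F).val = 1 + Matrix.vecMulVec (-φ) a from rfl, tv_val,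
    Matrix.transpose_add, Matrix.transpose_one, Matrix.transpose_vecMulVec]
  ext i j
  simp [Matrix.vecMulVec_apply]

theorem has_of_dual {a φ : Fin 3 → F} (h : Has (dualG M) a φ) : Has M φ a := by
  obtain ⟨h1, h2⟩ := has_dual_of h
  exact ⟨h1, by simpa [dualG, Subgroup.mem_comap, dualHom_dualHom] using h2⟩

theorem goal_dual (h : Goal (dualG M)) : Goal M := by
  obtain ⟨K, c, φ, hK, hc, hφ, hx⟩ := h
  exact ⟨K, φ, c, hK, hφ, hc, fun x hxK => (Has.smul_iff x).2 (has_of_dual (hx x hxK))⟩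

theorem spread_dual (h : Spread M) : Spread (dualG M) := by
  intro c η hc hη
  obtain ⟨m, hm, hne⟩ := h η c hη hc
  refine ⟨dualHom m⁻¹, by rw [mem_dualG, dualHom_dualHom]; exact inv_mem hm, ?_⟩
  rwa [dualHom_val, inv_inv, Matrix.dotProduct_mulVec, Matrix.vecMul_transpose, dotProduct_comm]

theorem dualG_le (h : M ≤ sl3 F) : dualG M ≤ sl3 F := fun m hm => by
  have := h (mem_dualG.1 hm)
  rw [mem_specialLinear_iff, dualHom_val, Matrix.det_transpose] at this
  rw [mem_specialLinear_iff]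
  have e : ((m⁻¹ : GL (Fin 3) F) : Matrix (Fin 3) (Fin 3) F).det * (m : Matrix (Fin 3) (Fin 3) F).det = 1 := by
    rw [← Matrix.det_mul, Units.inv_mul, Matrix.det_one]
  rwa [this, one_mul] at e

theorem exists_off_span {e : Fin 3 → F} (he : e ≠ 0) : ∃ φ : Fin 3 → F, φ ⬝ᵥ e ≠ 0 := by
  obtain ⟨i, hi⟩ := Function.ne_iff.1 he
  exact ⟨Pi.single i 1, by simpa using hi⟩

/-- Functionals killing two independent vectors are proportional. -/
theorem prop_of_kill {c d φ ψ : Fin 3 → F} (hc : c ≠ 0) (hd : ∀ a : F, d ≠ a • c) (hφ : φ ≠ 0)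
    (h1 : φ ⬝ᵥ c = 0) (h2 : φ ⬝ᵥ d = 0) (h3 : ψ ⬝ᵥ c = 0) (h4 : ψ ⬝ᵥ d = 0) : ∃ a : F, ψ = a • φ := by
  obtain ⟨z, hz⟩ := exists_dot_ne_zero hφ
  obtain ⟨η, hη, hηd⟩ := exists_ann (Submodule.span F {c}) d fun h => by
    obtain ⟨a, ha⟩ := Submodule.mem_span_singleton.1 h
    exact hd a ha.symm
  refine ⟨ψ ⬝ᵥ z / φ ⬝ᵥ z, ext_three hc h1 h2 hz (hη c (Submodule.mem_span_singleton_self c))
    (hηd ▸ one_ne_zero) ?_ ?_ ?_⟩
  · simp [h1, h3]
  · simp [h2, h4]
  · simp [div_mul_cancel₀ _ hz]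

/-- Two independent axes through `e` meet only there. -/
theorem mem_of_two_axes {e x φ ψ : Fin 3 → F} (he : e ≠ 0) (hφ : φ ≠ 0) (hψ : ∀ a : F, ψ ≠ a • φ)
    (h1 : φ ⬝ᵥ e = 0) (h2 : ψ ⬝ᵥ e = 0) (h3 : φ ⬝ᵥ x = 0) (h4 : ψ ⬝ᵥ x = 0) : ∃ a : F, x = a • e := by
  by_contra hx
  push Not at hx
  obtain ⟨a, ha⟩ := prop_of_kill he hx hφ h1 h3 h2 h4
  exact hψ a ha

/-- Two independent axes with one centre. -/
def TwoAxes (M : Subgroup (GL (Fin 3) F)) : Prop :=
  ∃ e φ ψ : Fin 3 → F, e ≠ 0 ∧ φ ≠ 0 ∧ (∀ a : F, ψ ≠ a • φ) ∧ Has M e φ ∧ Has M e ψ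

theorem tv_congr {a b φ ψ : Fin 3 → F} {h : φ ⬝ᵥ a = 0} {h' : ψ ⬝ᵥ b = 0}
    (e : Matrix.vecMulVec a φ = Matrix.vecMulVec b ψ) : tv a φ h = tv b ψ h' :=
  Units.ext (by rw [tv_val, tv_val, e])

/-- An element of square one is an elation. -/
theorem exists_tv_of_sq (h2 : (2 : F) = 0) {x : GL (Fin 3) F} (hx : x * x = 1) (hx1 : x ≠ 1) :
    ∃ (c φ : Fin 3 → F) (h : φ ⬝ᵥ c = 0), c ≠ 0 ∧ φ ≠ 0 ∧ x = tv c φ h := by
  set N : Matrix (Fin 3) (Fin 3) F := (x : Matrix (Fin 3) (Fin 3) F) + 1 with hN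
  have hN0 : N * N = 0 := by
    have hxx : (x : Matrix (Fin 3) (Fin 3) F) * x = 1 := by rw [← Units.val_mul, hx, Units.val_one]
    rw [hN, mul_add, add_mul, mul_one, one_mul, hxx]
    ext i j; simp only [Matrix.add_apply, Matrix.zero_apply]
    linear_combination ((1 : Matrix (Fin 3) (Fin 3) F) i j + (x : Matrix (Fin 3) (Fin 3) F) i j) * h2
  have hval : (x : Matrix (Fin 3) (Fin 3) F) = 1 + N := by
    ext i j; simp only [hN, Matrix.add_apply]
    linear_combination -(1 : Matrix (Fin 3) (Fin 3) F) i j * h2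
  have hNne : N ≠ 0 := fun h => hx1 (Units.ext (by rw [hval, h, add_zero, Units.val_one]))
  set L := Matrix.mulVecLin N with hL
  have hle : LinearMap.range L ≤ LinearMap.ker L := by
    rintro _ ⟨v, rfl⟩
    rw [LinearMap.mem_ker, hL, Matrix.mulVecLin_apply, Matrix.mulVecLin_apply, Matrix.mulVec_mulVec, hN0,
      Matrix.zero_mulVec]
  have hdim := LinearMap.finrank_range_add_finrank_ker L
  have hle' := Submodule.finrank_mono hle
  rw [Module.finrank_fintype_fun_eq_card, Fintype.card_fin] at hdim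
  obtain ⟨i, j, hij⟩ : ∃ i j, N i j ≠ 0 := by
    by_contra h; push Not at h; exact hNne (Matrix.ext h)
  set c : Fin 3 → F := N *ᵥ Pi.single j 1 with hc
  have hc0 : c ≠ 0 := fun h => hij (by simpa [hc] using congrFun h i)
  have hspan : Submodule.span F {c} = LinearMap.range L := by
    refine Submodule.eq_of_le_of_finrank_le ?_ ?_
    · rw [Submodule.span_singleton_le_iff_mem]; exact ⟨Pi.single j 1, rfl⟩
    · rw [finrank_span_singleton hc0]; omega
  have hcol : ∀ k, ∃ a : F, a • c = N *ᵥ Pi.single k 1 := fun k =>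
    Submodule.mem_span_singleton.1 (hspan ▸ ⟨Pi.single k 1, rfl⟩)
  choose φ hφ using hcol
  have hNe : N = Matrix.vecMulVec c φ := by
    ext a b
    have := congrFun (hφ b) a
    simp only [Pi.smul_apply, smul_eq_mul, Matrix.mulVec_single_one, Matrix.col_apply] at this
    rw [Matrix.vecMulVec_apply, ← this, mul_comm]
  have hφ0 : φ ≠ 0 := fun h => hNne (by rw [hNe, h]; simp)
  have hdot : φ ⬝ᵥ c = 0 := by
    have : N *ᵥ c = 0 := by rw [hc, Matrix.mulVec_mulVec, hN0, Matrix.zero_mulVec]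
    rw [hNe, Matrix.vecMulVec_mulVec, op_smul_eq_smul, smul_eq_zero] at this
    exact this.resolve_right hc0
  exact ⟨c, φ, hdot, hc0, hφ0, Units.ext (by rw [hval, hNe, tv_val])⟩

/-- The three kinds of pairs of commuting involutions. -/
theorem four_cases (h2 : (2 : F) = 0) (h : ¬ RankOne M) :
    (∃ (e φ : Fin 3 → F) (ρ : F), e ≠ 0 ∧ φ ≠ 0 ∧ ρ ≠ 0 ∧ ρ ≠ 1 ∧ Has M e φ ∧ Has M e (ρ • φ)) ∨
      TwoAxes M ∨ TwoAxes (dualG M) := by
  simp only [RankOne, not_forall] at h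
  obtain ⟨x, hxM, y, hyM, hx, hy, hxy, hne⟩ := h
  have hsq : ∀ z : GL (Fin 3) F, orderOf z = 2 → z * z = 1 ∧ z ≠ 1 := fun z hz =>
    ⟨by rw [← pow_two, ← hz, pow_orderOf_eq_one], fun e => by simp [e] at hz⟩
  obtain ⟨c, φ, hcφ, hc, hφ, rfl⟩ := exists_tv_of_sq h2 (hsq x hx).1 (hsq x hx).2
  obtain ⟨d, ψ, hdψ, hd, hψ, rfl⟩ := exists_tv_of_sq h2 (hsq y hy).1 (hsq y hy).2
  have hcomm : (φ ⬝ᵥ d) • Matrix.vecMulVec c ψ = (ψ ⬝ᵥ c) • Matrix.vecMulVec d φ := by
    have := congrArg Units.val hxy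
    simp only [Units.val_mul, tv_val, mul_add, add_mul, mul_one, one_mul, Matrix.vecMulVec_mul_vecMulVec] at this
    rw [Matrix.vecMulVec_smul, Matrix.vecMulVec_smul] at this
    ext i j
    have := congrFun (congrFun this i) j
    simp only [Matrix.add_apply, Matrix.smul_apply, smul_eq_mul] at this ⊢
    linear_combination this
  have hφd : φ ⬝ᵥ d = 0 := by
    by_contra hne'
    have := congrArg (· *ᵥ d) hcomm
    simp only [Matrix.smul_mulVec, Matrix.vecMulVec_mulVec, op_smul_eq_smul, hdψ, zero_smul, smul_zero,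
      smul_smul] at this
    rcases smul_eq_zero.1 this.symm with h0 | h0
    · rcases mul_eq_zero.1 h0 with h0 | h0
      · rw [h0, zero_smul, smul_eq_zero] at hcomm
        rcases hcomm with h1 | h1
        · exact hne' h1
        · rcases Matrix.vecMulVec_eq_zero.1 h1 with h1 | h1
          · exact hc h1
          · exact hψ h1
      · exact hne' h0
    · exact hd h0
  have hψc : ψ ⬝ᵥ c = 0 := by
    rw [hφd, zero_smul, eq_comm, smul_eq_zero] at hcomm
    refine hcomm.resolve_right fun h1 => ?_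
    rcases Matrix.vecMulVec_eq_zero.1 h1 with h1 | h1
    · exact hd h1
    · exact hφ h1
  have hX : Has M c φ := ⟨hcφ, hxM⟩
  have hY : Has M d ψ := ⟨hdψ, hyM⟩
  by_cases hdc : ∃ a : F, d = a • c
  · obtain ⟨a, rfl⟩ := hdc
    have ha : a ≠ 0 := fun h0 => hd (by rw [h0, zero_smul])
    have hY' : Has M c (a • ψ) := (Has.smul_iff a).1 hY
    by_cases hp : ∃ b : F, a • ψ = b • φ
    · obtain ⟨b, hb⟩ := hp
      refine .inl ⟨c, φ, b, hc, hφ, fun h0 => ?_, fun h1 => hne (tv_congr ?_), hX, hb ▸ hY'⟩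
      · rw [h0, zero_smul, smul_eq_zero] at hb
        exact hψ (hb.resolve_left ha)
      · rw [h1, one_smul] at hb
        rw [Matrix.smul_vecMulVec, ← hb, Matrix.vecMulVec_smul]
    · push Not at hp
      exact .inr (.inl ⟨c, φ, a • ψ, hc, hφ, hp, hX, hY'⟩)
  · push Not at hdc
    obtain ⟨a, rfl⟩ := prop_of_kill hc hdc hφ hcφ hφd hψc hdψ
    have ha : a ≠ 0 := fun h0 => hψ (by rw [h0, zero_smul])
    refine .inr (.inr ⟨φ, c, a • d, hφ, hc, fun b hb => hdc (a⁻¹ * b) ?_, has_dual_of hX,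
      has_dual_of ((Has.smul_iff a).2 hY)⟩)
    rw [mul_smul, ← hb, inv_smul_smul₀ ha]

/-- A frame with given first two vectors. -/
theorem exists_frame {e c : Fin 3 → F} (he : e ≠ 0) (hc : ∀ a : F, c ≠ a • e) :
    ∃ g : GL (Fin 3) F, (g : Matrix (Fin 3) (Fin 3) F) *ᵥ ![1, 0, 0] = e ∧
      (g : Matrix (Fin 3) (Fin 3) F) *ᵥ ![0, 1, 0] = c := by
  obtain ⟨η, hη, hηc⟩ := exists_ann (Submodule.span F {e}) c fun h => by
    obtain ⟨a, ha⟩ := Submodule.mem_span_singleton.1 h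
    exact hc a ha.symm
  have hηe := hη e (Submodule.mem_span_singleton_self e)
  obtain ⟨P, hP⟩ : ∃ P, P ∉ Submodule.span F (Set.range ![e, c]) := by
    by_contra h; push Not at h
    have h1 : Submodule.span F (Set.range ![e, c]) = ⊤ := eq_top_iff.2 fun x _ => h x
    have h2 : (Set.range ![e, c]).finrank F ≤ Fintype.card (Fin 2) := finrank_range_le_card ![e, c]
    rw [Set.finrank, h1, finrank_top, Module.finrank_fintype_fun_eq_card, Fintype.card_fin, Fintype.card_fin] at h2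
    omega
  let A : Matrix (Fin 3) (Fin 3) F := Matrix.of fun i j => (![e, c, P] j) i
  have hA : ∀ v, A *ᵥ v = v 0 • e + v 1 • c + v 2 • P := fun v => by
    ext i; simp [A, Matrix.mulVec, dotProduct, Fin.sum_univ_three, mul_comm]
  have hunit : IsUnit A := by
    rw [← Matrix.mulVec_injective_iff_isUnit]
    intro v w hvw
    rw [← sub_eq_zero]
    have h0 : A *ᵥ (v - w) = 0 := by rw [Matrix.mulVec_sub, sub_eq_zero]; exact hvw
    rw [hA] at h0
    generalize v - w = z at h0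
    have hz2 : z 2 = 0 := by
      by_contra hne
      refine hP ?_
      have : P = (-(z 2)⁻¹ * z 0) • e + (-(z 2)⁻¹ * z 1) • c := by
        rw [mul_smul, mul_smul, ← smul_add, neg_smul, ← smul_neg, neg_eq_of_add_eq_zero_right h0,
          inv_smul_smul₀ hne]
      rw [this]
      exact add_mem (Submodule.smul_mem _ _ (Submodule.subset_span ⟨0, rfl⟩))
        (Submodule.smul_mem _ _ (Submodule.subset_span ⟨1, rfl⟩))
    rw [hz2, zero_smul, add_zero] at h0
    have hz1 : z 1 = 0 := by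
      simpa [hηe, hηc] using congrArg (η ⬝ᵥ ·) h0
    rw [hz1, zero_smul, add_zero, smul_eq_zero] at h0
    ext i; fin_cases i
    exacts [h0.resolve_right he, hz1, hz2]
  refine ⟨hunit.unit, ?_, ?_⟩ <;> rw [IsUnit.unit_spec, hA] <;> simp

end CfsgLib.Dim3Max.Four
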