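import Cfsg.Agent.Lib.PSL2.DicksonPSL
import Cfsg.Agent.Lib.PSL2.Icosa
import Cfsg.Agent.Lib.PSL2.Fields

/-!
A subgroup of `SL₂` in characteristic two with a four-group of unitriangular elements and an opposite
involution contains `SL₂` of a subfield of order at least four.
-/

set_option autoImplicit false

namespace CfsgLib.Dim3Max.Four

open Matrix CfsgLib.PSL2

universe u

variable {F : Type u} [Field F]

/-- The upper unitriangular element. -/
def uu (x : F) : Matrix.SpecialLinearGroup (Fin 2) F := ⟨!![1, x; 0, 1], by simp [Matrix.det_fin_two_of]⟩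

/-- The lower unitriangular element. -/
def ll (x : F) : Matrix.SpecialLinearGroup (Fin 2) F := ⟨!![1, 0; x, 1], by simp [Matrix.det_fin_two_of]⟩

theorem uu_val (x : F) : ((uu x : Matrix.SpecialLinearGroup (Fin 2) F) : Matrix (Fin 2) (Fin 2) F) = !![1, x; 0, 1] :=
  rfl

theorem ll_val (x : F) : ((ll x : Matrix.SpecialLinearGroup (Fin 2) F) : Matrix (Fin 2) (Fin 2) F) = !![1, 0; x, 1] :=
  rfl

theorem uu_add (x y : F) : uu (x + y) = uu x * uu y := by
  ext i j; fin_cases i <;> fin_cases j <;> simp [uu_val, Matrix.SpecialLinearGroup.coe_mul, Matrix.mul_apply, Fin.sum_univ_two, add_comm]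

theorem uu_zero : uu (0 : F) = 1 := by
  ext i j; fin_cases i <;> fin_cases j <;> simp [uu_val]

theorem uu_inj {x y : F} (h : uu x = uu y) : x = y := by
  simpa [uu_val] using congrArg (fun g : Matrix.SpecialLinearGroup (Fin 2) F => g.1 0 1) h

theorem sl2_eq_uu (h2 : (2 : F) = 0) {g : Matrix.SpecialLinearGroup (Fin 2) F} (h10 : g.1 1 0 = 0)
    (hd : g.1 0 0 = g.1 1 1) : g = uu (g.1 0 1) := by
  haveI := CharTwo.of_one_ne_zero_of_two_eq_zero (one_ne_zero (α := F)) h2
  have hdet := g.2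
  rw [Matrix.det_fin_two, h10, mul_zero, sub_zero, ← hd] at hdet
  have h00 : g.1 0 0 = 1 := CharTwo.sq_injective (by simpa [pow_two] using hdet)
  ext i j
  fin_cases i <;> fin_cases j <;> simp [uu_val, h10, ← hd, h00]

theorem eq_uu_of_comm (h2 : (2 : F) = 0) {g : Matrix.SpecialLinearGroup (Fin 2) F} {a : F} (ha : a ≠ 0)
    (h : g * uu a = uu a * g) : g = uu (g.1 0 1) := by
  have e1 := congrArg (fun g : Matrix.SpecialLinearGroup (Fin 2) F => g.1 0 0) h
  have e2 := congrArg (fun g : Matrix.SpecialLinearGroup (Fin 2) F => g.1 0 1) h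
  simp [uu_val, Matrix.SpecialLinearGroup.coe_mul, Matrix.mul_apply, Fin.sum_univ_two] at e1 e2
  have h10 : g.1 1 0 = 0 := e1.resolve_left ha
  refine sl2_eq_uu h2 h10 (mul_left_cancel₀ ha ?_)
  linear_combination e2

theorem struct [Finite F] (h2 : (2 : F) = 0) (H : Subgroup (Matrix.SpecialLinearGroup (Fin 2) F)) {ρ ψ : F}
    (hρ0 : ρ ≠ 0) (hρ1 : ρ ≠ 1) (hψ : ψ ≠ 0) (hu1 : uu 1 ∈ H) (hur : uu ρ ∈ H) (hl : ll ψ ∈ H) :
    ∃ K : Subfield F, 4 ≤ Nat.card K ∧ (∀ x, uu x ∈ H ↔ x ∈ K) ∧ ∀ x ∈ K, ll x ∈ H := by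
  classical
  haveI : Fact (Nat.Prime 2) := ⟨Nat.prime_two⟩
  haveI h2' : CharP F 2 := (CharP.charP_iff_prime_eq_zero Nat.prime_two).2 (by exact_mod_cast h2)
  have hu2 : ∀ x : F, uu x * uu x = 1 := fun x => by rw [← uu_add, CharTwo.add_self_eq_zero, uu_zero]
  -- the additive group of upper unitriangular elements of `H`
  let S : AddSubgroup F :=
    { carrier := {x | uu x ∈ H}
      zero_mem' := by simp only [Set.mem_setOf_eq, uu_zero]; exact one_mem H
      add_mem' := fun hx hy => by simp only [Set.mem_setOf_eq, uu_add] at *; exact mul_mem hx hy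
      neg_mem' := fun {x} hx => by simpa [CharTwo.neg_eq] using hx }
  have hSmem : ∀ x, x ∈ S ↔ uu x ∈ H := fun x => Iff.rfl
  let inc : Multiplicative S →* H :=
    { toFun := fun x => ⟨uu (x.toAdd : F), x.toAdd.2⟩
      map_one' := Subtype.ext uu_zero
      map_mul' := fun x y => Subtype.ext (uu_add _ _) }
  have hinc : Function.Injective inc := fun x y h =>
    Multiplicative.toAdd.injective (Subtype.ext (uu_inj (congrArg Subtype.val h)))
  have hSdvd : Nat.card S ∣ Nat.card H :=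
    (Subgroup.card_dvd_of_injective inc hinc : Nat.card (Multiplicative S) ∣ _)
  obtain ⟨a, -, ha⟩ : ∃ a, a ≤ Nat.log 2 (Nat.card F) ∧ Nat.card S = 2 ^ a := by
    haveI := Fintype.ofFinite F
    obtain ⟨n, -, hn⟩ := FiniteField.card F 2
    rw [Nat.card_eq_fintype_card (α := F), hn, Nat.log_pow (by norm_num)]
    exact (Nat.dvd_prime_pow Nat.prime_two).1
      (hn ▸ Nat.card_eq_fintype_card (α := F) ▸ AddSubgroup.card_addSubgroup_dvd_card S)
  have hS3 : 3 ≤ Nat.card S := by
    have : ({0, 1, ρ} : Finset F).card = 3 := by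
      rw [Finset.card_eq_three]; exact ⟨0, 1, ρ, zero_ne_one, hρ0.symm, hρ1.symm, rfl⟩
    rw [← this, ← Nat.card_eq_finsetCard]
    exact Nat.card_le_card_of_injective (fun x => (⟨x.1, by
      have := x.2
      simp only [Finset.mem_insert, Finset.mem_singleton] at this
      rcases this with h | h | h <;> rw [h]
      · exact S.zero_mem
      · exact hu1
      · exact hur⟩ : S)) fun x y h => Subtype.ext (congrArg (fun z : S => (z : F)) h)
  have ha2 : 2 ≤ a := by
    by_contra hlt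
    have : a = 0 ∨ a = 1 := by omega
    rcases this with rfl | rfl <;> omega
  have h4H : 4 ∣ Nat.card H := (show 2 ^ 2 ∣ Nat.card S by rw [ha]; exact pow_dvd_pow 2 ha2).trans hSdvd
  have h2H : 2 ∣ Nat.card H := (Dvd.intro 2 rfl : 2 ∣ 4).trans h4H
  -- Dickson
  have hι : Function.Injective (slToPG (F := F)) := by
    refine (injective_iff_map_eq_one _).2 fun s hs => Matrix.SpecialLinearGroup.ext _ _ fun i j => ?_
    have hneg : (-1 : Matrix (Fin 2) (Fin 2) F) = 1 := by
      ext i j; simp [Matrix.neg_apply, CharTwo.neg_eq]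
    rcases slToPG_eq_one_iff.1 hs with h | h
    · rw [h]; rfl
    · rw [h, hneg]; rfl
  obtain ⟨K, hK⟩ : ∃ K : Subfield F, Nat.card H = Nat.card (Matrix.ProjGenLinGroup (Fin 2) K) := by
    cases dickson (p := 2) slToPG hι H with
    | cyclic hc hp => exact absurd h2H hp
    | dihedral r hr k hk h2k hp hcard iso => rw [hcard] at h4H; omega
    | tetra hp iso => exact absurd h2H hp
    | octa hp iso => exact absurd h2H hp
    | icosa hp iso => exact absurd h2H (hp.resolve_right (by omega))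
    | borel P hpH hle =>
      exfalso
      have hmem : ∀ x ∈ H, x * x = 1 → x ∈ (P : Subgroup _) := by
        intro x hx hxx
        have hX : IsPGroup 2 (Subgroup.zpowers x) := by
          rintro ⟨y, hy⟩
          refine ⟨1, Subtype.ext ?_⟩
          obtain ⟨i, rfl⟩ := hy
          simp only [pow_one, SubmonoidClass.mk_pow, Subgroup.coe_one, pow_two, Subgroup.coe_mul]
          rw [← (Commute.refl x).mul_zpow, hxx, _root_.one_zpow]
        have hsup := IsPGroup.to_sup_of_normal_right' hX P.2 (Subgroup.zpowers_le.2 (hle hx))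
        have heq := P.3 hsup le_sup_right
        exact heq ▸ Subgroup.mem_sup_left (Subgroup.mem_zpowers x)
      have hl2 : ll ψ * ll ψ = 1 := by
        ext i j; fin_cases i <;> fin_cases j <;>
          simp [ll_val, Matrix.SpecialLinearGroup.coe_mul, Matrix.mul_apply, Fin.sum_univ_two, CharTwo.add_self_eq_zero]
      have huP := hmem _ hu1 (hu2 1)
      have hlP := hmem _ hl hl2
      haveI : Nontrivial (P : Subgroup (Matrix.SpecialLinearGroup (Fin 2) F)) :=
        ⟨⟨_, huP⟩, 1, fun e => one_ne_zero (uu_inj ((congrArg Subtype.val e).trans uu_zero.symm))⟩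
      haveI := P.2.center_nontrivial
      obtain ⟨⟨z, hz⟩, hz1⟩ := exists_ne (1 : Subgroup.center (P : Subgroup (Matrix.SpecialLinearGroup (Fin 2) F)))
      have hc := fun x hx => congrArg Subtype.val (Subgroup.mem_center_iff.1 hz ⟨x, hx⟩)
      have e := eq_uu_of_comm h2 one_ne_zero (hc _ huP).symm
      have e2 := congrArg (fun g : Matrix.SpecialLinearGroup (Fin 2) F => g.1 0 0) (hc _ hlP)
      simp only [Subgroup.coe_mul, Matrix.SpecialLinearGroup.coe_mul] at e2
      rw [e] at e2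
      simp [uu_val, ll_val, Matrix.SpecialLinearGroup.coe_mul, Matrix.mul_apply, Fin.sum_univ_two, hψ] at e2
      exact hz1 (Subtype.ext (Subtype.ext (by rw [e, e2, uu_zero]; rfl)))
    | subfield K iso =>
      refine ⟨K, ?_⟩
      rcases iso with ⟨⟨e⟩⟩ | ⟨hodd, -⟩
      · exact Nat.card_congr e.toEquiv
      · obtain ⟨b, hb, hKb⟩ := natCard_eq_pow (p := 2) (K := K)
        rw [hKb] at hodd
        exact absurd hodd (Nat.not_odd_iff_even.2 (Nat.even_pow.2 ⟨even_two, by omega⟩))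
  set Q := Nat.card K with hQdef
  obtain ⟨b, hb0, hQb⟩ : ∃ b, 0 < b ∧ Q = 2 ^ b := natCard_eq_pow (p := 2)
  have hQ2 : 2 ≤ Q := Finite.one_lt_card
  rw [card_pgl_two hQdef.symm] at hK
  have hQ4 : 4 ≤ Q := by
    by_contra hlt
    have hQe : Q = 2 := by
      rcases b with _ | _ | b
      · omega
      · simpa using hQb
      · rw [hQb] at hlt
        have := Nat.pow_le_pow_right (show 0 < 2 by norm_num) (show 2 ≤ b + 1 + 1 by omega)
        omega
    rw [hK, hQe] at h4H; omega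
  have hcopQ : ∀ k, Nat.Coprime (2 ^ k) ((Q + 1) * (Q - 1)) := by
    intro k
    refine Nat.Coprime.pow_left k ((Nat.Prime.coprime_iff_not_dvd Nat.prime_two).2 fun h => ?_)
    have hev : 2 ∣ Q := hQb ▸ dvd_pow_self 2 (by omega)
    rcases (Nat.Prime.dvd_mul Nat.prime_two).1 h with h | h <;> omega
  have hab : a ≤ b := by
    refine (Nat.pow_dvd_pow_iff_le_right (by norm_num : 1 < 2)).1 ((hcopQ a).dvd_of_dvd_mul_right ?_)
    rw [← hQb]
    have := ha ▸ hSdvd
    rw [hK] at this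
    convert this using 1; ring
  -- the Sylow subgroup of `H` is the group of upper unitriangular elements
  have hSQ : Nat.card S = Q := by
    obtain ⟨P, hP, hle⟩ := Sylow.exists_subgroup_card_pow_prime_le 2 (m := b) (n := a)
      (G := H) (by rw [← hQb, hK]; exact Dvd.intro_left _ (by ring : ((Q + 1) * (Q - 1)) * Q = _))
      inc.range (by
        rw [← ha]; exact (Nat.card_congr (MonoidHom.ofInjective hinc).toEquiv).symm) hab
    have hu1P : (⟨uu 1, hu1⟩ : H) ∈ P := hle ⟨Multiplicative.ofAdd ⟨1, hu1⟩, rfl⟩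
    have hPP : IsPGroup 2 P := IsPGroup.of_card hP
    haveI : Nontrivial P := ⟨⟨_, hu1P⟩, 1, fun e => one_ne_zero (uu_inj
      ((congrArg (fun z : P => ((z : H) : Matrix.SpecialLinearGroup (Fin 2) F)) e).trans uu_zero.symm))⟩
    haveI := hPP.center_nontrivial
    obtain ⟨⟨z, hz⟩, hz1⟩ := exists_ne (1 : Subgroup.center P)
    have hc := fun x : P => congrArg (fun w : P => ((w : H) : Matrix.SpecialLinearGroup (Fin 2) F))
      (Subgroup.mem_center_iff.1 hz x)
    have e := eq_uu_of_comm h2 one_ne_zero (hc ⟨_, hu1P⟩).symm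
    have hz0 : ((z : H) : Matrix.SpecialLinearGroup (Fin 2) F).1 0 1 ≠ 0 := fun h0 =>
      hz1 (Subtype.ext (Subtype.ext (Subtype.ext (by rw [e, h0, uu_zero]; rfl))))
    have hPU : P ≤ inc.range := by
      intro x hx
      have hx' := hc ⟨x, hx⟩
      simp only [Subgroup.coe_mul] at hx'
      rw [e] at hx'
      have hxe := eq_uu_of_comm h2 hz0 hx'
      exact ⟨Multiplicative.ofAdd ⟨_, (hSmem _).2 (hxe ▸ x.2)⟩, Subtype.ext hxe.symm⟩
    rw [le_antisymm hPU hle, Nat.card_congr (MonoidHom.ofInjective hinc).toEquiv.symm] at hP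
    exact (Nat.card_congr (Multiplicative.ofAdd (α := S))).trans (hP.trans hQb.symm)
  -- the triangular elements
  let B : Subgroup (Matrix.SpecialLinearGroup (Fin 2) F) :=
    { carrier := {g | g ∈ H ∧ g.1 1 0 = 0}
      one_mem' := ⟨one_mem H, by simp⟩
      mul_mem' := fun {g h} hg hh => ⟨mul_mem hg.1 hh.1, by
        simp [Matrix.mul_apply, Fin.sum_univ_two, hg.2, hh.2]⟩
      inv_mem' := fun {g} hg => ⟨inv_mem hg.1, by
        rw [Matrix.SpecialLinearGroup.coe_inv, Matrix.adjugate_fin_two]; simp [hg.2]⟩ }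
  have hBmem : ∀ g, g ∈ B ↔ g ∈ H ∧ g.1 1 0 = 0 := fun g => Iff.rfl
  have hBd : ∀ g : B, g.1.1 0 0 * g.1.1 1 1 = 1 := fun g => by
    have := g.1.2
    rwa [Matrix.det_fin_two, g.2.2, mul_zero, sub_zero] at this
  let τ : B →* F :=
    { toFun := fun g => g.1.1 0 0
      map_one' := by simp
      map_mul' := fun g h => by simp [Matrix.mul_apply, Fin.sum_univ_two, h.2.2] }
  let τu : B →* Fˣ := τ.toHomUnits
  have hτu : ∀ g : B, ((τu g : Fˣ) : F) = g.1.1 0 0 := fun g => rfl
  have hker : Nat.card τu.ker = Q := by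
    rw [← hSQ]
    refine Nat.card_congr
      { toFun := fun g => ⟨g.1.1.1 0 1, ?_⟩
        invFun := fun x => ⟨⟨uu x.1, x.2, by simp [uu_val]⟩, Units.ext (by simp [hτu, uu_val])⟩
        left_inv := fun g => ?_
        right_inv := fun x => by simp [uu_val] }
    · have h00 : g.1.1.1 0 0 = 1 := (hτu g.1).symm.trans (congrArg Units.val g.2)
      have h11 := hBd g.1
      rw [h00, one_mul] at h11
      rw [hSmem, ← sl2_eq_uu h2 g.1.2.2 (h00.trans h11.symm)]
      exact g.1.2.1
    · have h00 : g.1.1.1 0 0 = 1 := (hτu g.1).symm.trans (congrArg Units.val g.2)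
      have h11 := hBd g.1
      rw [h00, one_mul] at h11
      exact Subtype.ext (Subtype.ext (sl2_eq_uu h2 g.1.2.2 (h00.trans h11.symm)).symm)
  -- squares of the diagonal lie among the weights
  have hsq : ∀ t : τu.range, ((t : Fˣ) : F) ^ 2 ∈ S ∧ ((t : Fˣ) : F) ^ 2 ≠ 0 := by
    rintro ⟨_, g, rfl⟩
    refine ⟨?_, pow_ne_zero 2 (Units.ne_zero _)⟩
    have e : g.1 * uu 1 = uu (g.1.1 0 0 ^ 2) * g.1 := by
      have hd := hBd g
      ext i j
      fin_cases i <;> fin_cases j <;> simp [uu_val, Matrix.mul_apply, Fin.sum_univ_two, g.2.2]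
      rw [show g.1.1 0 0 ^ 2 * g.1.1 1 1 = g.1.1 0 0 * (g.1.1 0 0 * g.1.1 1 1) by ring, hd, mul_one]
      ring
    rw [hSmem, hτu]
    have : uu (g.1.1 0 0 ^ 2) = g.1 * uu 1 * g.1⁻¹ := by rw [e, mul_inv_cancel_right]
    rw [this]
    exact mul_mem (mul_mem g.2.1 hu1) (inv_mem g.2.1)
  let sqmap : τu.range → {x : F // x ∈ S ∧ x ≠ 0} := fun t => ⟨_, hsq t⟩
  have hsqinj : Function.Injective sqmap := fun t t' h =>
    Subtype.ext (Units.ext (CharTwo.sq_injective (congrArg Subtype.val h)))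
  have hS0 : Nat.card {x : F // x ∈ S ∧ x ≠ 0} + 1 = Q := by
    rw [← hSQ]
    change Nat.card {x : F // x ∈ ((S : Set F) \ {0})} + 1 = _
    rw [Nat.card_coe_set_eq, Set.ncard_diff_singleton_add_one S.zero_mem]
    exact (Nat.card_coe_set_eq _).symm
  set m := Nat.card τu.range with hm
  have hmle : m + 1 ≤ Q := by have := Nat.card_le_card_of_injective sqmap hsqinj; omega
  have hB : Nat.card B = Q * m := by
    rw [← hker, hm, ← Subgroup.index_ker τu, Subgroup.card_mul_index]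
  -- `U × B` acts freely on the other elements
  let U : Subgroup (Matrix.SpecialLinearGroup (Fin 2) F) :=
    { carrier := {g | ∃ x ∈ S, g = uu x}
      one_mem' := ⟨0, S.zero_mem, uu_zero.symm⟩
      mul_mem' := by rintro _ _ ⟨x, hx, rfl⟩ ⟨y, hy, rfl⟩; exact ⟨x + y, S.add_mem hx hy, (uu_add x y).symm⟩
      inv_mem' := by rintro _ ⟨x, hx, rfl⟩; exact ⟨x, hx, inv_eq_of_mul_eq_one_left (hu2 x)⟩ }
  have hU : Nat.card U = Q := by
    rw [← hSQ]
    refine (Nat.card_congr (Equiv.ofBijective (fun x : S => (⟨uu x.1, x.1, x.2, rfl⟩ : U)) ⟨fun x y h =>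
      Subtype.ext (uu_inj (congrArg Subtype.val h)), ?_⟩)).symm
    rintro ⟨_, x, hx, rfl⟩
    exact ⟨⟨x, hx⟩, rfl⟩
  let N := {g : Matrix.SpecialLinearGroup (Fin 2) F // g ∈ H ∧ g.1 1 0 ≠ 0}
  have hmem : ∀ (p : U × B) (g : N), p.1.1 * g.1 * p.2.1⁻¹ ∈ H ∧ (p.1.1 * g.1 * p.2.1⁻¹).1 1 0 ≠ 0 := by
    rintro ⟨⟨_, x, hx, rfl⟩, b⟩ g
    refine ⟨mul_mem (mul_mem ((hSmem x).1 hx) g.2.1) (inv_mem b.2.1), ?_⟩
    have hd := hBd b
    simp only [Matrix.SpecialLinearGroup.coe_mul, Matrix.SpecialLinearGroup.coe_inv, Matrix.adjugate_fin_two]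
    simp [uu_val, Matrix.mul_apply, Matrix.vecMul, dotProduct, Fin.sum_univ_two, b.2.2, g.2.2]
    exact right_ne_zero_of_mul_eq_one hd
  letI : MulAction (U × B) N :=
    { smul := fun p g => ⟨p.1.1 * g.1 * p.2.1⁻¹, hmem p g⟩
      one_smul := fun g => Subtype.ext (show (1 : Matrix.SpecialLinearGroup (Fin 2) F) * g.1 * 1⁻¹ = g.1 by group)
      mul_smul := fun p p' g => Subtype.ext (show (p.1.1 * p'.1.1) * g.1 * (p.2.1 * p'.2.1)⁻¹ =
        p.1.1 * (p'.1.1 * g.1 * p'.2.1⁻¹) * p.2.1⁻¹ by group) }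
  have hfree : ∀ g : N, MulAction.stabilizer (U × B) g = ⊥ := by
    intro g
    rw [Subgroup.eq_bot_iff_forall]
    rintro ⟨⟨u, x, hx, rfl⟩, b⟩ hp
    have hval : uu x * g.1 * b.1⁻¹ = g.1 := congrArg Subtype.val hp
    rw [mul_inv_eq_iff_eq_mul] at hval
    have hb : b.1 = g.1⁻¹ * uu x * g.1 := by rw [mul_assoc, hval, inv_mul_cancel_left]
    have h10 := b.2.2
    rw [hb] at h10
    simp only [Matrix.SpecialLinearGroup.coe_mul, Matrix.SpecialLinearGroup.coe_inv, Matrix.adjugate_fin_two] at h10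
    simp [uu_val, Matrix.mul_apply, Fin.sum_univ_two] at h10
    have hx0 : x = 0 := by
      have : g.1.1 1 0 ^ 2 * x = 0 := by linear_combination -h10
      exact (mul_eq_zero.1 this).resolve_left (pow_ne_zero 2 g.2.2)
    subst hx0
    rw [uu_zero, mul_one, inv_mul_cancel] at hb
    exact Prod.ext (Subtype.ext uu_zero) (Subtype.ext hb)
  have hN := Nat.card_congr (MulAction.selfEquivOrbitsQuotientProd hfree)
  rw [Nat.card_prod, Nat.card_prod, hU, hB] at hN
  set r := Nat.card (Quotient (MulAction.orbitRel (U × B) N))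
  have hsplit : Nat.card H = Nat.card B + Nat.card N := by
    rw [← Nat.card_sum]
    exact Nat.card_congr
      { toFun := fun g => if h : g.1.1 1 0 = 0 then .inl ⟨g.1, g.2, h⟩ else .inr ⟨g.1, g.2, h⟩
        invFun := Sum.elim (fun g => ⟨g.1, g.2.1⟩) (fun g => ⟨g.1, g.2.1⟩)
        left_inv := fun g => by by_cases h : g.1.1 1 0 = 0 <;> simp [h]
        right_inv := by
          rintro (g | g)
          · exact dif_pos g.2.2
          · exact dif_neg g.2.2 }
  rw [hK, hB, hN] at hsplit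
  have heq : (Q + 1) * (Q - 1) = m * (1 + r * Q) := by
    refine Nat.eq_of_mul_eq_mul_left (show 0 < Q by omega) ?_
    linear_combination hsplit
  obtain ⟨hm1, hr1⟩ : m + 1 = Q ∧ r = 1 := by
    obtain ⟨q, hq⟩ : ∃ q, Q = q + 1 := ⟨Q - 1, by omega⟩
    rw [hq, Nat.add_sub_cancel] at heq
    have hdvd : Q ∣ m + 1 := by
      have : ((m : ℤ) + 1) = Q * (Q - r * m) := by
        have : ((q : ℤ) + 1 + 1) * q = m * (1 + r * (q + 1)) := by exact_mod_cast heq
        have hq' : (Q : ℤ) = q + 1 := by exact_mod_cast hq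
        rw [hq']; linear_combination -this
      exact Int.natCast_dvd_natCast.1 ⟨_, by push_cast; exact this⟩
    have hm' : m + 1 = Q := le_antisymm hmle (Nat.le_of_dvd (by omega) hdvd)
    refine ⟨hm', ?_⟩
    have hmq : m = q := by omega
    subst hmq
    rw [mul_comm] at heq
    have h1 := Nat.eq_of_mul_eq_mul_left (show 0 < m by omega) heq
    have : r * (m + 1) = 1 * (m + 1) := by omega
    exact Nat.eq_of_mul_eq_mul_right (by omega) this
  have hSK : ∀ x, uu x ∈ H ↔ x ∈ K := by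
    have hle : ∀ x ∈ S, x ∈ K := by
      intro x hx
      by_cases hx0 : x = 0
      · exact hx0 ▸ zero_mem K
      obtain ⟨⟨t, ht⟩, htx⟩ := (hsqinj.bijective_of_nat_card_le (by omega)).2 ⟨x, hx, hx0⟩
      have hxt : x = (t : F) ^ 2 := (congrArg Subtype.val htx).symm
      rw [hxt]
      refine pow_mem (mem_of_pow_natCard ?_) 2
      have h1 : (⟨t, ht⟩ : τu.range) ^ m = 1 := pow_card_eq_one'
      have h2' : (t : F) ^ m = 1 := by
        have := congrArg (fun z : τu.range => ((z : Fˣ) : F)) h1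
        simpa using this
      rw [← hQdef, ← hm1, pow_succ, h2', one_mul]
    intro x
    have heqS : (S : Set F) = (K : Set F) := Set.eq_of_subset_of_ncard_le hle (by
      rw [← Nat.card_coe_set_eq, ← Nat.card_coe_set_eq]; exact le_of_eq hSQ.symm) (Set.toFinite _)
    exact Set.ext_iff.1 heqS x
  refine ⟨K, hQ4, hSK, ?_⟩
  have hψK : ψ ∈ K := by
    let g0 : N := ⟨ll ψ, hl, by simpa [ll_val] using hψ⟩
    let g1 : N := ⟨ll ψ * uu 1 * ll ψ, mul_mem (mul_mem hl hu1) hl, by
      simp only [Matrix.SpecialLinearGroup.coe_mul]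
      simp [uu_val, ll_val, Matrix.mul_apply, Fin.sum_univ_two]
      rw [show ψ + (ψ + 1) * ψ = ψ ^ 2 + (ψ + ψ) by ring, CharTwo.add_self_eq_zero, add_zero]
      exact pow_ne_zero 2 hψ⟩
    haveI : Subsingleton (Quotient (MulAction.orbitRel (U × B) N)) :=
      Finite.card_le_one_iff_subsingleton.1 (le_of_eq hr1)
    obtain ⟨⟨⟨u, x, hx, rfl⟩, b⟩, hp⟩ : g1 ∈ MulAction.orbit (U × B) g0 :=
      Quotient.exact (Subsingleton.elim (Quotient.mk (MulAction.orbitRel (U × B) N) g1) (Quotient.mk _ g0))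
    have hval : uu x * ll ψ * b.1⁻¹ = ll ψ * uu 1 * ll ψ := congrArg Subtype.val hp
    rw [mul_inv_eq_iff_eq_mul] at hval
    have c0 := congrArg (fun g : Matrix.SpecialLinearGroup (Fin 2) F => g.1 0 0) hval
    have c1 := congrArg (fun g : Matrix.SpecialLinearGroup (Fin 2) F => g.1 1 0) hval
    simp only [Matrix.SpecialLinearGroup.coe_mul] at c0 c1
    simp [uu_val, ll_val, Matrix.mul_apply, Fin.sum_univ_two, b.2.2] at c0 c1
    have hb : ψ * b.1.1 0 0 = 1 := by
      refine mul_left_cancel₀ hψ ?_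
      linear_combination -c1 - ψ * b.1.1 0 0 * h2
    have hxψ : x * ψ ^ 2 = 1 := by linear_combination ψ * c0 + (1 + ψ) * hb
    have hx' : ψ ^ 2 = x⁻¹ := eq_inv_of_mul_eq_one_right hxψ
    refine mem_of_pow_natCard (CharTwo.sq_injective ?_)
    change (ψ ^ Nat.card K) ^ 2 = ψ ^ 2
    rw [← pow_mul, mul_comm, pow_mul]
    exact pow_natCard_eq (hx' ▸ inv_mem ((hSK x).1 ((hSmem x).1 hx)))
  intro x hx
  have hw : uu ψ⁻¹ * ll ψ * uu ψ⁻¹ ∈ H :=
    mul_mem (mul_mem ((hSK _).2 (inv_mem hψK)) hl) ((hSK _).2 (inv_mem hψK))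
  have e : uu ψ⁻¹ * ll ψ * uu ψ⁻¹ * uu (x / ψ ^ 2) = ll x * (uu ψ⁻¹ * ll ψ * uu ψ⁻¹) := by
    ext i j
    fin_cases i <;> fin_cases j <;> simp [uu_val, ll_val, Matrix.mul_apply, Fin.sum_univ_two] 
    all_goals field_simp
    all_goals ring_nf
    all_goals first | simp [h2] | linear_combination (-1 - x) * h2 | linear_combination -x * h2
  have := mul_mem (mul_mem hw ((hSK _).2 (div_mem hx (pow_mem hψK 2)))) (inv_mem hw)
  rwa [e, mul_inv_cancel_right] at this

end CfsgLib.Dim3Max.Four
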