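import Cfsg.Agent.Lib.Dim3Max.FourFrame
import Cfsg.Agent.Lib.Dim3Max.FourSL2

/-!
Two elations with one centre and an opposite elation: a root field of order at least four, or the standard
group with functionals `(0, s², s)`.
-/

set_option autoImplicit false

namespace CfsgLib.Dim3Max.Four

open Matrix CfsgLib.Maximal

universe u

variable {F : Type u} [Field F]

/-- The standard configuration. -/
structure Std (N : Subgroup (GL (Fin 3) F)) (K : Subfield F) : Prop where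
  card : 4 ≤ Nat.card K
  swap : ∃ w ∈ N, ((w : GL (Fin 3) F) : Matrix (Fin 3) (Fin 3) F) = !![0, 1, 0; 1, 0, 0; 0, 0, 1]
  has : ∀ φ, Has N ![1, 0, 0] φ ↔ ∃ s ∈ K, φ = ![0, s ^ 2, s]

theorem conjG_mul (g g' : GL (Fin 3) F) (M : Subgroup (GL (Fin 3) F)) :
    conjG g' (conjG g M) = conjG (g * g') M := by
  ext m
  simp only [mem_conjG, _root_.mul_inv_rev, mul_assoc]

theorem exists_sqrt [Finite F] (h2 : (2 : F) = 0) (K : Subfield F) {x : F} (hx : x ∈ K) :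
    ∃ s ∈ K, s ^ 2 = x := by
  haveI := CharTwo.of_one_ne_zero_of_two_eq_zero (one_ne_zero (α := F)) h2
  have hinj : Function.Injective (fun y : K => (⟨(y : F) ^ 2, pow_mem y.2 2⟩ : K)) :=
    fun a b hab => Subtype.ext (CharTwo.sq_injective (congrArg Subtype.val hab))
  obtain ⟨⟨s, hs⟩, hsx⟩ := Finite.injective_iff_surjective.1 hinj ⟨x, hx⟩
  exact ⟨s, hs, congrArg Subtype.val hsx⟩

variable {N : Subgroup (GL (Fin 3) F)}

/-- The elements fixing the plane `x₂ = 0` and its functional. -/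
def planeGroup (N : Subgroup (GL (Fin 3) F)) : Subgroup (GL (Fin 3) F) where
  carrier := {m | m ∈ N ∧ ![0, 0, 1] ᵥ* (m : Matrix (Fin 3) (Fin 3) F) = ![0, 0, 1]}
  one_mem' := ⟨one_mem N, by simp⟩
  mul_mem' := fun {a b} ha hb => ⟨mul_mem ha.1 hb.1, by rw [Units.val_mul, ← Matrix.vecMul_vecMul, ha.2, hb.2]⟩
  inv_mem' := fun {a} ha => ⟨inv_mem ha.1, by
    nth_rw 1 [← ha.2]
    rw [vecMul_self_inv]⟩

theorem planeGroup_row (m : planeGroup N) :
    (m.1 : Matrix (Fin 3) (Fin 3) F) 2 0 = 0 ∧ (m.1 : Matrix (Fin 3) (Fin 3) F) 2 1 = 0 ∧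
      (m.1 : Matrix (Fin 3) (Fin 3) F) 2 2 = 1 := by
  have h := m.2.2
  refine ⟨?_, ?_, ?_⟩
  · simpa [Matrix.vecMul, dotProduct, Fin.sum_univ_three] using congrFun h 0
  · simpa [Matrix.vecMul, dotProduct, Fin.sum_univ_three] using congrFun h 1
  · simpa [Matrix.vecMul, dotProduct, Fin.sum_univ_three] using congrFun h 2

theorem blk_mul (m n : planeGroup N) :
    (!![((m * n).1 : Matrix (Fin 3) (Fin 3) F) 0 0, ((m * n).1 : Matrix (Fin 3) (Fin 3) F) 0 1;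
      ((m * n).1 : Matrix (Fin 3) (Fin 3) F) 1 0, ((m * n).1 : Matrix (Fin 3) (Fin 3) F) 1 1] :
      Matrix (Fin 2) (Fin 2) F) =
    !![(m.1 : Matrix (Fin 3) (Fin 3) F) 0 0, (m.1 : Matrix (Fin 3) (Fin 3) F) 0 1;
      (m.1 : Matrix (Fin 3) (Fin 3) F) 1 0, (m.1 : Matrix (Fin 3) (Fin 3) F) 1 1] *
    !![(n.1 : Matrix (Fin 3) (Fin 3) F) 0 0, (n.1 : Matrix (Fin 3) (Fin 3) F) 0 1;
      (n.1 : Matrix (Fin 3) (Fin 3) F) 1 0, (n.1 : Matrix (Fin 3) (Fin 3) F) 1 1] := by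
  obtain ⟨h0, h1, -⟩ := planeGroup_row n
  ext i j
  fin_cases i <;> fin_cases j <;> simp [Matrix.mul_apply, Fin.sum_univ_two, Fin.sum_univ_three, h0, h1]

/-- The action on the plane. -/
def blk (hN : N ≤ sl3 F) : planeGroup N →* Matrix.SpecialLinearGroup (Fin 2) F where
  toFun m := ⟨!![(m.1 : Matrix (Fin 3) (Fin 3) F) 0 0, (m.1 : Matrix (Fin 3) (Fin 3) F) 0 1;
      (m.1 : Matrix (Fin 3) (Fin 3) F) 1 0, (m.1 : Matrix (Fin 3) (Fin 3) F) 1 1], by
    have h := (mem_specialLinear_iff _).1 (hN m.2.1)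
    obtain ⟨h0, h1, h2⟩ := planeGroup_row m
    rw [Matrix.det_fin_three, h0, h1, h2] at h
    rw [Matrix.det_fin_two_of]
    linear_combination h⟩
  map_one' := by ext i j; fin_cases i <;> fin_cases j <;> simp
  map_mul' m n := Subtype.ext (blk_mul m n)

theorem blk_val (hN : N ≤ sl3 F) (m : planeGroup N) :
    ((blk hN m : Matrix.SpecialLinearGroup (Fin 2) F) : Matrix (Fin 2) (Fin 2) F) =
      !![(m.1 : Matrix (Fin 3) (Fin 3) F) 0 0, (m.1 : Matrix (Fin 3) (Fin 3) F) 0 1;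
        (m.1 : Matrix (Fin 3) (Fin 3) F) 1 0, (m.1 : Matrix (Fin 3) (Fin 3) F) 1 1] := rfl

theorem blk_apply (hN : N ≤ sl3 F) (m : planeGroup N) {a b c d : F} {g : Matrix.SpecialLinearGroup (Fin 2) F}
    (hg : (g : Matrix (Fin 2) (Fin 2) F) = !![a, b; c, d]) (h : blk hN m = g) :
    (m.1 : Matrix (Fin 3) (Fin 3) F) 0 0 = a ∧ (m.1 : Matrix (Fin 3) (Fin 3) F) 0 1 = b ∧
      (m.1 : Matrix (Fin 3) (Fin 3) F) 1 0 = c ∧ (m.1 : Matrix (Fin 3) (Fin 3) F) 1 1 = d := by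
  have e := (blk_val hN m).symm.trans ((congrArg (fun g : Matrix.SpecialLinearGroup (Fin 2) F =>
    (g : Matrix (Fin 2) (Fin 2) F)) h).trans hg)
  exact ⟨congrFun (congrFun e 0) 0, congrFun (congrFun e 0) 1, congrFun (congrFun e 1) 0,
    congrFun (congrFun e 1) 1⟩

theorem tv_apply {a φ : Fin 3 → F} (h : φ ⬝ᵥ a = 0) (i j : Fin 3) :
    (tv a φ h : Matrix (Fin 3) (Fin 3) F) i j = (1 : Matrix (Fin 3) (Fin 3) F) i j + a i * φ j := by
  rw [tv_val, Matrix.add_apply, Matrix.vecMulVec_apply]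

/-- The normalised pair. -/
theorem pair_normal [Finite F] (h2 : (2 : F) = 0) (hN : N ≤ sl3 F) {φa φb ψ : Fin 3 → F}
    (ha : Has N ![1, 0, 0] φa) (ha1 : φa 1 = 1) (hb : Has N ![1, 0, 0] φb) (hb0 : φb 1 ≠ 0) (hb1 : φb 1 ≠ 1)
    (hy : Has N ![0, 1, 0] ψ) (hψ : ψ 0 ≠ 0) :
    Goal N ∨ ∃ (g : GL (Fin 3) F) (K : Subfield F), (g : Matrix (Fin 3) (Fin 3) F) *ᵥ ![1, 0, 0] = ![1, 0, 0] ∧
      (g : Matrix (Fin 3) (Fin 3) F) *ᵥ ![0, 1, 0] = ![0, 1, 0] ∧ Std (conjG g N) K := by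
  haveI := CharTwo.of_one_ne_zero_of_two_eq_zero (one_ne_zero (α := F)) h2
  -- elations with centre `E0` and their action on the plane
  have hzero : ∀ {φ}, Has N ![1, 0, 0] φ → φ 0 = 0 := fun hφ => by
    simpa [dotProduct, Fin.sum_univ_three] using hφ.dot
  have hel : ∀ {φ}, Has N ![1, 0, 0] φ → ∃ m : planeGroup N, blk hN m = uu (φ 1) ∧
      (m.1 : Matrix (Fin 3) (Fin 3) F) = 1 + Matrix.vecMulVec ![1, 0, 0] φ := by
    intro φ hφ
    obtain ⟨h, hm⟩ := id hφ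
    refine ⟨⟨tv _ _ h, hm, ?_⟩, ?_, rfl⟩
    · ext j; fin_cases j <;> simp [Matrix.vecMul, dotProduct, Fin.sum_univ_three, tv_apply]
    · ext i j; fin_cases i <;> fin_cases j <;> simp [blk_val, uu_val, tv_apply, hzero hφ]
  obtain ⟨ma, hma, -⟩ := hel ha
  obtain ⟨mb, hmb, -⟩ := hel hb
  have hy1 : ψ 1 = 0 := by simpa [dotProduct, Fin.sum_univ_three] using hy.dot
  obtain ⟨my, hmy⟩ : ∃ m : planeGroup N, blk hN m = ll (ψ 0) := by
    obtain ⟨h, hm⟩ := id hy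
    refine ⟨⟨tv _ _ h, hm, ?_⟩, ?_⟩
    · ext j; fin_cases j <;> simp [Matrix.vecMul, dotProduct, Fin.sum_univ_three, tv_apply]
    · ext i j; fin_cases i <;> fin_cases j <;> simp [blk_val, ll_val, tv_apply, hy1]
  rw [ha1] at hma
  obtain ⟨K, hK4, hKu, hKl⟩ := struct h2 (blk hN).range hb0 hb1 hψ ⟨ma, hma⟩ ⟨mb, hmb⟩ ⟨my, hmy⟩
  -- the kernel
  have hkernel : ∀ a b : F, b ≠ 0 → Has N ![a, b, 0] ![0, 0, 1] → Goal N := by
    intro a b hb' hab
    refine ⟨K, ![b, 0, 0], ![0, 0, 1], hK4, fun h => hb' (by simpa using congrFun h 0),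
      fun h => one_ne_zero (α := F) (by simpa using congrFun h 2), fun x hx => ?_⟩
    obtain ⟨d, hd⟩ := MonoidHom.mem_range.1 ((hKu x).2 hx)
    obtain ⟨d00, d01, d10, d11⟩ := blk_apply hN d (uu_val x) hd
    obtain ⟨d20, d21, -⟩ := planeGroup_row d
    have hc := hab.conj d.2.1
    rw [(show ![0, 0, 1] ᵥ* ((d.1⁻¹ : GL (Fin 3) F) : Matrix (Fin 3) (Fin 3) F) = ![0, 0, 1] from
      (inv_mem d.2 : d.1⁻¹ ∈ planeGroup N).2)] at hc
    convert hc.add_left hab using 1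
    ext i
    fin_cases i <;> simp [Matrix.mulVec, dotProduct, Fin.sum_univ_three, d00, d01, d10, d11, d20, d21,
      CharTwo.add_self_eq_zero, add_assoc]
    rw [add_comm (x * b), ← add_assoc, CharTwo.add_self_eq_zero, zero_add]
  by_cases hinj : Function.Injective (blk hN)
  swap
  · left
    rw [injective_iff_map_eq_one] at hinj
    push Not at hinj
    obtain ⟨m, hm, hm1⟩ := hinj
    obtain ⟨m00, m01, m10, m11⟩ := blk_apply hN m (a := 1) (b := 0) (c := 0) (d := 1)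
      (by ext i j; fin_cases i <;> fin_cases j <;> simp) hm
    obtain ⟨m20, m21, m22⟩ := planeGroup_row m
    set a := (m.1 : Matrix (Fin 3) (Fin 3) F) 0 2 with hA
    set b := (m.1 : Matrix (Fin 3) (Fin 3) F) 1 2 with hB
    have hab : Has N ![a, b, 0] ![0, 0, 1] := by
      refine ⟨by simp [dotProduct, Fin.sum_univ_three], ?_⟩
      convert m.2.1 using 1
      ext i j
      fin_cases i <;> fin_cases j <;>
        simp [tv_apply, m00, m01, m10, m11, m20, m21, m22, ← hA, ← hB]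
    by_cases hb' : b = 0
    · have ha' : a ≠ 0 := by
        intro ha'
        refine hm1 (Subtype.ext (Units.ext (Matrix.ext fun i j => ?_)))
        fin_cases i <;> fin_cases j <;>
          simp [m00, m01, m10, m11, m20, m21, m22, ← hA, ← hB, ha', hb']
      obtain ⟨h, hmem⟩ := id hy
      have hc := hab.conj hmem
      have hrow : ![0, 0, 1] ᵥ* (((tv _ _ h)⁻¹ : GL (Fin 3) F) : Matrix (Fin 3) (Fin 3) F) = ![0, 0, 1] := by
        have hrow' : ![0, 0, 1] ᵥ* ((tv _ _ h : GL (Fin 3) F) : Matrix (Fin 3) (Fin 3) F) = ![0, 0, 1] := by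
          ext j; fin_cases j <;> simp [Matrix.vecMul, dotProduct, Fin.sum_univ_three, tv_apply]
        nth_rw 1 [← hrow']
        rw [vecMul_self_inv]
      rw [hrow] at hc
      refine hkernel a (ψ 0 * a) (mul_ne_zero hψ ha') ?_
      convert hc using 1
      ext i
      fin_cases i <;> simp [Matrix.mulVec, dotProduct, Fin.sum_univ_three, tv_apply, hb', hy1, mul_comm]
    · exact hkernel a b hb' hab
  have huniq : ∀ {φ φ'}, Has N ![1, 0, 0] φ → Has N ![1, 0, 0] φ' → φ 1 = φ' 1 → φ = φ' := by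
    intro φ φ' h h' he
    obtain ⟨m, hm, hmv⟩ := hel h
    obtain ⟨m', hm', hmv'⟩ := hel h'
    have e : (1 : Matrix (Fin 3) (Fin 3) F) + Matrix.vecMulVec ![1, 0, 0] φ = 1 + Matrix.vecMulVec ![1, 0, 0] φ' := by
      rw [← hmv, ← hmv', hinj (hm.trans ((congrArg uu he).trans hm'.symm))]
    funext j
    have e' := congrFun (congrFun e 0) j
    rw [Matrix.add_apply, Matrix.add_apply, Matrix.vecMulVec_apply, Matrix.vecMulVec_apply] at e'
    simpa using e' 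
  -- diagonal and antidiagonal elements
  have hdiag : ∀ s ∈ K, s ≠ 0 → ∃ d : planeGroup N, ((blk hN d : Matrix.SpecialLinearGroup (Fin 2) F) :
      Matrix (Fin 2) (Fin 2) F) = !![s, 0; 0, s⁻¹] := by
    intro s hs hs0
    obtain ⟨d1, hd1⟩ := MonoidHom.mem_range.1 ((hKu s).2 hs)
    obtain ⟨d2, hd2⟩ := MonoidHom.mem_range.1 (hKl s⁻¹ (inv_mem hs))
    obtain ⟨d3, hd3⟩ := MonoidHom.mem_range.1 (hKl 1 (one_mem K))
    refine ⟨d1 * d2 * d1 * (ma * d3 * ma), ?_⟩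
    simp only [map_mul, hd1, hd2, hd3, hma, Matrix.SpecialLinearGroup.coe_mul, uu_val, ll_val]
    ext i j
    fin_cases i <;> fin_cases j <;>
      simp [Matrix.mul_apply, Fin.sum_univ_two, hs0, CharTwo.add_self_eq_zero]
  obtain ⟨wd, hwd⟩ : ∃ d : planeGroup N, ((blk hN d : Matrix.SpecialLinearGroup (Fin 2) F) :
      Matrix (Fin 2) (Fin 2) F) = !![0, 1; 1, 0] := by
    obtain ⟨d3, hd3⟩ := MonoidHom.mem_range.1 (hKl 1 (one_mem K))
    refine ⟨ma * d3 * ma, ?_⟩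
    simp only [map_mul, hd3, hma, Matrix.SpecialLinearGroup.coe_mul, uu_val, ll_val]
    ext i j
    fin_cases i <;> fin_cases j <;> simp [Matrix.mul_apply, Fin.sum_univ_two, CharTwo.add_self_eq_zero]
  obtain ⟨t, htK, ht0, ht1⟩ : ∃ t ∈ K, t ≠ 0 ∧ t ≠ 1 := by
    by_contra h
    push Not at h
    have : Nat.card K ≤ 2 := by
      rw [← SetLike.coe_sort_coe, Nat.card_coe_set_eq]
      refine (Set.ncard_le_ncard (t := {0, 1}) fun x hx => ?_).trans ?_
      · by_cases hx0 : x = 0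
        · exact .inl hx0
        · exact .inr (h x hx hx0)
      · exact (Set.ncard_insert_le _ _).trans (by rw [Set.ncard_singleton])
    omega
  obtain ⟨h0, hh0⟩ := hdiag t htK ht0
  -- the fixed point
  have hfixuniq : ∀ (d : planeGroup N) {s s' : F}, ((blk hN d : Matrix.SpecialLinearGroup (Fin 2) F) :
      Matrix (Fin 2) (Fin 2) F) = !![s, 0; 0, s'] → s ≠ 1 → s' ≠ 1 → ∀ x y : Fin 3 → F,
      (d.1 : Matrix (Fin 3) (Fin 3) F) *ᵥ x = x → (d.1 : Matrix (Fin 3) (Fin 3) F) *ᵥ y = y → x 2 = 1 → y 2 = 1 →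
      x = y := by
    intro d s s' hd hs hs' x y hx hy hx2 hy2
    obtain ⟨d00, d01, d10, d11⟩ := blk_apply hN d hd rfl
    obtain ⟨d20, d21, d22⟩ := planeGroup_row d
    have x0 := congrFun hx 0
    have x1 := congrFun hx 1
    have y0 := congrFun hy 0
    have y1 := congrFun hy 1
    simp [Matrix.mulVec, dotProduct, Fin.sum_univ_three, d00, d01, d10, d11, hx2, hy2] at x0 x1 y0 y1
    funext i
    fin_cases i
    · show x 0 = y 0
      exact mul_left_cancel₀ (sub_ne_zero.2 hs) (by linear_combination x0 - y0)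
    · show x 1 = y 1
      exact mul_left_cancel₀ (sub_ne_zero.2 hs') (by linear_combination x1 - y1)
    · exact hx2.trans hy2.symm
  have hti1 : t⁻¹ ≠ 1 := fun h => ht1 (by rw [← inv_inv t, h, inv_one])
  obtain ⟨a00, a01, a10, a11⟩ := blk_apply hN h0 hh0 rfl
  obtain ⟨a20, a21, a22⟩ := planeGroup_row h0
  obtain ⟨p, r, hfix0⟩ : ∃ p r : F, (h0.1 : Matrix (Fin 3) (Fin 3) F) *ᵥ ![p, r, 1] = ![p, r, 1] := by
    refine ⟨(h0.1 : Matrix (Fin 3) (Fin 3) F) 0 2 / (1 - t), (h0.1 : Matrix (Fin 3) (Fin 3) F) 1 2 / (1 - t⁻¹), ?_⟩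
    have n1 : 1 - t ≠ 0 := sub_ne_zero.2 (Ne.symm ht1)
    have n2 : 1 - t⁻¹ ≠ 0 := sub_ne_zero.2 (Ne.symm hti1)
    ext i
    fin_cases i <;> simp [Matrix.mulVec, dotProduct, Fin.sum_univ_three, a00, a01, a10, a11, a20, a21, a22]
    · linear_combination -(mul_div_cancel₀ ((h0.1 : Matrix (Fin 3) (Fin 3) F) 0 2) n1)
    · linear_combination -(mul_div_cancel₀ ((h0.1 : Matrix (Fin 3) (Fin 3) F) 1 2) n2)
  have hlast : ∀ d : planeGroup N, ((d.1 : Matrix (Fin 3) (Fin 3) F) *ᵥ ![p, r, 1]) 2 = 1 := fun d => by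
    obtain ⟨e20, e21, e22⟩ := planeGroup_row d
    simp [Matrix.mulVec, dotProduct, Fin.sum_univ_three, e20, e21, e22]
  have hmove : ∀ d d' : planeGroup N, d' * d = d * h0 →
      (d'.1 : Matrix (Fin 3) (Fin 3) F) *ᵥ ((d.1 : Matrix (Fin 3) (Fin 3) F) *ᵥ ![p, r, 1]) =
        (d.1 : Matrix (Fin 3) (Fin 3) F) *ᵥ ![p, r, 1] := by
    intro d d' hc
    rw [Matrix.mulVec_mulVec, ← Units.val_mul, ← Subgroup.coe_mul, hc, Subgroup.coe_mul, Units.val_mul,
      ← Matrix.mulVec_mulVec, hfix0]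
  have hfixd : ∀ (d : planeGroup N) {s s' : F}, ((blk hN d : Matrix.SpecialLinearGroup (Fin 2) F) :
      Matrix (Fin 2) (Fin 2) F) = !![s, 0; 0, s'] → (d.1 : Matrix (Fin 3) (Fin 3) F) *ᵥ ![p, r, 1] = ![p, r, 1] := by
    intro d s s' hd
    have hc : h0 * d = d * h0 := hinj (Matrix.SpecialLinearGroup.ext _ _ fun i j => by
      simp only [map_mul, Matrix.SpecialLinearGroup.coe_mul, hd, hh0]
      fin_cases i <;> fin_cases j <;> simp [Matrix.mul_apply, Fin.sum_univ_two, mul_comm])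
    exact hfixuniq h0 hh0 ht1 hti1 _ _ (hmove d h0 hc) hfix0 (hlast d) (by simp)
  have hwfix : (wd.1 : Matrix (Fin 3) (Fin 3) F) *ᵥ ![p, r, 1] = ![p, r, 1] := by
    obtain ⟨h1, hh1⟩ := hdiag t⁻¹ (inv_mem htK) (inv_ne_zero ht0)
    have hc : h1 * wd = wd * h0 := hinj (Matrix.SpecialLinearGroup.ext _ _ fun i j => by
      simp only [map_mul, Matrix.SpecialLinearGroup.coe_mul, hh1, hwd, hh0]
      fin_cases i <;> fin_cases j <;> simp [Matrix.mul_apply, Fin.sum_univ_two])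
    exact hfixuniq h1 hh1 hti1 (by rwa [inv_inv]) _ _ (hmove wd h1 hc) (hfixd h1 hh1) (hlast wd) (by simp)
  -- the root group
  set γ := φa ⬝ᵥ ![p, r, 1] with hγ
  have hroot : ∀ s ∈ K, Has N ![1, 0, 0] ![0, s ^ 2, s * γ + s ^ 2 * r] := by
    intro s hs
    by_cases hs0 : s = 0
    · exact has_of_zero (.inr (by subst hs0; ext i; fin_cases i <;> simp))
    obtain ⟨d, hd⟩ := hdiag s hs hs0
    obtain ⟨d00, d01, d10, d11⟩ := blk_apply hN d hd rfl
    obtain ⟨d20, d21, -⟩ := planeGroup_row d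
    have h3 : Has N ![1, 0, 0] (s • (φa ᵥ* ((d.1⁻¹ : GL (Fin 3) F) : Matrix (Fin 3) (Fin 3) F))) := by
      refine (Has.smul_iff s).1 ?_
      convert ha.conj d.2.1 using 1
      ext i
      fin_cases i <;> simp [Matrix.mulVec, dotProduct, Fin.sum_univ_three, d00, d10, d20]
    convert h3 using 1
    set χ := φa ᵥ* ((d.1⁻¹ : GL (Fin 3) F) : Matrix (Fin 3) (Fin 3) F) with hχ
    have hev : ∀ v, χ ⬝ᵥ ((d.1 : Matrix (Fin 3) (Fin 3) F) *ᵥ v) = φa ⬝ᵥ v := fun v => dot_vecMul_inv _ _ _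
    have q0 := hev ![1, 0, 0]
    have q1 := hev ![0, 1, 0]
    have q2 := hev ![p, r, 1]
    rw [hfixd d hd] at q2
    simp [Matrix.mulVec, dotProduct, Fin.sum_univ_three, d00, d01, d10, d11, d20, d21, hzero ha, ha1, hs0] at q0 q1
    rw [← hγ] at q2
    simp [dotProduct, Fin.sum_univ_three, q0] at q2
    have q1' : χ 1 = s := by rw [← mul_inv_eq_one₀ hs0]; exact q1
    rw [q1'] at q2
    ext i
    fin_cases i
    · simp [q0]
    · simp [q1']; ring
    · simp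
      linear_combination -s * q2 + s ^ 2 * r * h2
  have hall : ∀ φ, Has N ![1, 0, 0] φ → ∃ s ∈ K, φ = ![0, s ^ 2, s * γ + s ^ 2 * r] := by
    intro φ hφ
    obtain ⟨m, hm, -⟩ := hel hφ
    obtain ⟨s, hs, hs2⟩ := exists_sqrt h2 K ((hKu _).1 ⟨m, hm⟩)
    exact ⟨s, hs, huniq hφ (hroot s hs) (by simpa using hs2.symm)⟩
  by_cases hγ0 : γ = 0
  · left
    refine ⟨K, ![1, 0, 0], ![0, 1, r], hK4, fun h => one_ne_zero (α := F) (by simpa using congrFun h 0),
      fun h => one_ne_zero (α := F) (by simpa using congrFun h 1), fun x hx => ?_⟩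
    obtain ⟨s, hs, rfl⟩ := exists_sqrt h2 K hx
    refine (Has.smul_iff _).2 ?_
    convert hroot s hs using 1
    ext i; fin_cases i <;> simp [hγ0]
  right
  let g : GL (Fin 3) F :=
    ⟨!![1, 0, p / γ; 0, 1, r / γ; 0, 0, γ⁻¹], !![1, 0, p; 0, 1, r; 0, 0, γ], by
      ext i j; fin_cases i <;> fin_cases j <;>
        simp [Matrix.mul_apply, Fin.sum_univ_three, hγ0, CharTwo.add_self_eq_zero], by
      ext i j; fin_cases i <;> fin_cases j <;>
        simp [Matrix.mul_apply, Fin.sum_univ_three, hγ0]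
      all_goals field_simp
      all_goals simp [CharTwo.add_self_eq_zero]⟩
  have hgv : (g : Matrix (Fin 3) (Fin 3) F) = !![1, 0, p / γ; 0, 1, r / γ; 0, 0, γ⁻¹] := rfl
  have hgE0 : (g : Matrix (Fin 3) (Fin 3) F) *ᵥ ![1, 0, 0] = ![1, 0, 0] := by
    ext i; fin_cases i <;> simp [hgv, Matrix.mulVec, dotProduct, Fin.sum_univ_three]
  refine ⟨g, K, hgE0, by ext i; fin_cases i <;> simp [hgv, Matrix.mulVec, dotProduct, Fin.sum_univ_three],
    hK4, ?_, ?_⟩
  · refine ⟨g⁻¹ * wd.1 * g, by rw [mem_conjG]; convert wd.2.1 using 1; group, ?_⟩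
    obtain ⟨w00, w01, w10, w11⟩ := blk_apply hN wd hwd rfl
    obtain ⟨w20, w21, w22⟩ := planeGroup_row wd
    have e0 := congrFun hwfix 0
    have e1 := congrFun hwfix 1
    simp [Matrix.mulVec, dotProduct, Fin.sum_univ_three, w00, w01, w10, w11] at e0 e1
    have e : (wd.1 : Matrix (Fin 3) (Fin 3) F) * (g : Matrix (Fin 3) (Fin 3) F) =
        (g : Matrix (Fin 3) (Fin 3) F) * !![0, 1, 0; 1, 0, 0; 0, 0, 1] := by
      ext i j
      fin_cases i <;> fin_cases j <;>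
        simp [hgv, Matrix.mul_apply, Fin.sum_univ_three, w00, w01, w10, w11, w20, w21, w22]
      · field_simp; linear_combination e0
      · field_simp; linear_combination e1
    rw [Units.val_mul, Units.val_mul, mul_assoc, e, ← mul_assoc, Units.inv_mul, one_mul]
  · intro φ
    constructor
    · intro hφ
      have h := has_conjG.1 hφ
      rw [hgE0] at h
      obtain ⟨s, hs, he⟩ := hall _ h
      refine ⟨s, hs, ?_⟩
      have := congrArg (· ᵥ* (g : Matrix (Fin 3) (Fin 3) F)) he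
      rw [Matrix.vecMul_vecMul, ← Units.val_mul, inv_mul_cancel, Units.val_one, Matrix.vecMul_one] at this
      rw [this]
      ext i
      fin_cases i <;> simp [hgv, Matrix.vecMul, dotProduct, Fin.sum_univ_three]
      field_simp
      linear_combination s ^ 2 * r * h2
    · rintro ⟨s, hs, rfl⟩
      rw [has_conjG, hgE0]
      convert hroot s hs using 1
      ext i
      fin_cases i <;>
        simp [show ((g⁻¹ : GL (Fin 3) F) : Matrix (Fin 3) (Fin 3) F) = !![1, 0, p; 0, 1, r; 0, 0, γ] from rfl,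
          Matrix.vecMul, dotProduct, Fin.sum_univ_three]
      ring

/-- The pair lemma. -/
theorem pair [Finite F] (h2 : (2 : F) = 0) {M : Subgroup (GL (Fin 3) F)} (hM : M ≤ sl3 F)
    {e c φa φb ψ : Fin 3 → F} (he : e ≠ 0) (ha : Has M e φa) (hb : Has M e φb) (hy : Has M c ψ)
    (hac : φa ⬝ᵥ c ≠ 0) (hbc : φb ⬝ᵥ c ≠ 0) (hne : φa ⬝ᵥ c ≠ φb ⬝ᵥ c) (hψ : ψ ⬝ᵥ e ≠ 0) :
    Goal M ∨ ∃ (g : GL (Fin 3) F) (K : Subfield F) (l : F), l ≠ 0 ∧
      (g : Matrix (Fin 3) (Fin 3) F) *ᵥ ![1, 0, 0] = e ∧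
      (g : Matrix (Fin 3) (Fin 3) F) *ᵥ ![0, 1, 0] = l • c ∧ Std (conjG g M) K := by
  set l := (φa ⬝ᵥ c)⁻¹ with hl
  have hl0 : l ≠ 0 := inv_ne_zero hac
  obtain ⟨g, hg0, hg1⟩ := exists_frame he (c := l • c) fun a h => hac (by
    have := congrArg (φa ⬝ᵥ ·) h
    simpa [dotProduct_smul, ha.dot, hl0] using this)
  have hent : ∀ φ : Fin 3 → F, (φ ᵥ* (g : Matrix (Fin 3) (Fin 3) F)) 0 = φ ⬝ᵥ e ∧
      (φ ᵥ* (g : Matrix (Fin 3) (Fin 3) F)) 1 = l * (φ ⬝ᵥ c) := by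
    intro φ
    constructor
    · rw [← hg0, Matrix.dotProduct_mulVec]; simp [dotProduct, Fin.sum_univ_three]
    · rw [← smul_eq_mul, ← dotProduct_smul, ← hg1, Matrix.dotProduct_mulVec]
      simp [dotProduct, Fin.sum_univ_three]
  have h1 : φa ⬝ᵥ c * l = 1 := mul_inv_cancel₀ hac
  rcases pair_normal h2 (conjG_le hM) (φa := φa ᵥ* (g : Matrix (Fin 3) (Fin 3) F))
      (φb := φb ᵥ* (g : Matrix (Fin 3) (Fin 3) F)) (ψ := (l⁻¹ • ψ) ᵥ* (g : Matrix (Fin 3) (Fin 3) F))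
      (has_conjG'.2 (hg0.symm ▸ ha)) (by rw [(hent φa).2, mul_comm, h1]) (has_conjG'.2 (hg0.symm ▸ hb))
      (by rw [(hent φb).2]; exact mul_ne_zero hl0 hbc)
      (by rw [(hent φb).2, hl]; intro h; exact hne ((inv_mul_eq_one₀ hac).1 h))
      (has_conjG'.2 (by rw [hg1, Has.smul_iff, smul_smul, mul_inv_cancel₀ hl0, one_smul]; exact hy))
      (by rw [(hent _).1, smul_dotProduct]; exact smul_ne_zero (inv_ne_zero hl0) hψ) with h | ⟨g', K, hg'0, hg'1, hstd⟩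
  · exact .inl (goal_conjG h)
  · refine .inr ⟨g * g', K, l, hl0, ?_, ?_, conjG_mul g g' M ▸ hstd⟩
    · rw [Units.val_mul, ← Matrix.mulVec_mulVec, hg'0, hg0]
    · rw [Units.val_mul, ← Matrix.mulVec_mulVec, hg'1, hg1]

end CfsgLib.Dim3Max.Four
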