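import Cfsg.Agent.Lib.Dim3Max.FourFrame

/-!
Commuting involutions give a pair, except in a group with at most seven centres.
-/

set_option autoImplicit false

namespace CfsgLib.Dim3Max.Four

open Matrix CfsgLib.Maximal

universe u

variable {F : Type u} [Field F] {M : Subgroup (GL (Fin 3) F)}

/-- The hypothesis of the pair lemma. -/
def Pairable (M : Subgroup (GL (Fin 3) F)) : Prop :=
  ∃ e c φa φb ψ : Fin 3 → F, e ≠ 0 ∧ Has M e φa ∧ Has M e φb ∧ Has M c ψ ∧ φa ⬝ᵥ c ≠ 0 ∧ φb ⬝ᵥ c ≠ 0 ∧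
    φa ⬝ᵥ c ≠ φb ⬝ᵥ c ∧ ψ ⬝ᵥ e ≠ 0

theorem exists_axis {e φ ψ : Fin 3 → F} (he : e ≠ 0) (hφ : φ ≠ 0) (hψ : ∀ a : F, ψ ≠ a • φ) (h1 : Has M e φ)
    (h2 : Has M e ψ) {g : GL (Fin 3) F} (hg : g ∈ M) {x : Fin 3 → F}
    (hx : ∀ a : F, x ≠ a • ((g : Matrix (Fin 3) (Fin 3) F) *ᵥ e)) :
    ∃ χ, Has M ((g : Matrix (Fin 3) (Fin 3) F) *ᵥ e) χ ∧ χ ⬝ᵥ x ≠ 0 := by
  by_contra hcon
  push Not at hcon
  obtain ⟨y, rfl⟩ := mulVec_surj g x
  have e1 := hcon _ (h1.conj hg)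
  have e2 := hcon _ (h2.conj hg)
  rw [dot_vecMul_inv] at e1 e2
  obtain ⟨a, ha⟩ := mem_of_two_axes he hφ hψ h1.dot h2.dot e1 e2
  exact hx a (by show _ *ᵥ y = _; rw [ha, Matrix.mulVec_smul])

theorem pairable_or_twoAxes (hs : Spread M) {e φ : Fin 3 → F} {ρ : F} (he : e ≠ 0) (hφ : φ ≠ 0) (hρ0 : ρ ≠ 0)
    (hρ1 : ρ ≠ 1) (h : Has M e φ) (h' : Has M e (ρ • φ)) : Pairable M ∨ TwoAxes M := by
  obtain ⟨g, hg, hne⟩ := hs e φ he hφ
  set ψ := φ ᵥ* ((g⁻¹ : GL (Fin 3) F) : Matrix (Fin 3) (Fin 3) F)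
  have hc := h.conj hg
  by_cases hψ : ψ ⬝ᵥ e = 0
  · refine .inr ⟨e, φ, (φ ⬝ᵥ ((g : Matrix (Fin 3) (Fin 3) F) *ᵥ e)) • ψ, he, hφ, fun a ha => ?_, h,
      (Has.smul_iff _).1 (h.comm_left hc hψ)⟩
    have := congrArg (· ⬝ᵥ ((g : Matrix (Fin 3) (Fin 3) F) *ᵥ e)) ha
    simp only [smul_dotProduct, smul_eq_mul] at this
    rw [hc.dot, mul_zero, eq_comm, mul_eq_zero] at this
    rw [this.resolve_right hne, zero_smul, smul_eq_zero] at ha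
    exact vecMul_inv_ne_zero g hφ (ha.resolve_left hne)
  · refine .inl ⟨e, _, φ, ρ • φ, ψ, he, h, h', hc, hne, ?_, ?_, hψ⟩ <;> rw [smul_dotProduct, smul_eq_mul]
    · exact mul_ne_zero hρ0 hne
    · exact fun h0 => hρ1 ((mul_eq_right₀ hne).1 h0.symm)

theorem card_dvd_three {G : Type*} [Group G] [Finite G] (f : G →* F) (hf : Function.Injective f)
    (h3 : ∀ g, f g ^ 3 = 1) : Nat.card G ∣ 3 := by
  have hinj : Function.Injective f.toHomUnits := fun a b h => hf (congrArg Units.val h)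
  rw [Nat.card_congr (MonoidHom.ofInjective hinj).toEquiv]
  haveI : Finite f.toHomUnits.range := Finite.of_surjective _ f.toHomUnits.rangeRestrict_surjective
  rw [← IsCyclic.exponent_eq_card]
  refine Monoid.exponent_dvd_of_forall_pow_eq_one ?_
  rintro ⟨_, g, rfl⟩
  exact Subtype.ext (Units.ext (by simpa using h3 g))

/-- The values lie on three lines. -/
def ThreeLines (M : Subgroup (GL (Fin 3) F)) (e φ ψ : Fin 3 → F) : Prop :=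
  ∀ g ∈ M, φ ⬝ᵥ ((g : Matrix (Fin 3) (Fin 3) F) *ᵥ e) = 0 ∨ ψ ⬝ᵥ ((g : Matrix (Fin 3) (Fin 3) F) *ᵥ e) = 0 ∨
    φ ⬝ᵥ ((g : Matrix (Fin 3) (Fin 3) F) *ᵥ e) = ψ ⬝ᵥ ((g : Matrix (Fin 3) (Fin 3) F) *ᵥ e)

theorem ThreeLines.sum [CharP F 2] {e φ ψ : Fin 3 → F} (h : ThreeLines M e φ ψ) :
    ThreeLines M e φ (φ + ψ) ∧ ThreeLines M e (φ + ψ) ψ := by
  constructor <;> intro g hg <;> rcases h g hg with h0 | h0 | h0 <;>
    simp [add_dotProduct, h0, CharTwo.add_self_eq_zero]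

theorem small_core [Fintype F] [CharP F 2] (hM : M ≤ sl3 F) {e φ ψ : Fin 3 → F} (he : e ≠ 0) (hφ : φ ≠ 0)
    (hψφ : ∀ a : F, ψ ≠ a • φ) (h1 : Has M e φ) (h2 : Has M e ψ) (hl : ThreeLines M e φ ψ) {gd : GL (Fin 3) F}
    (hgd : gd ∈ M) (hd1 : φ ⬝ᵥ ((gd : Matrix (Fin 3) (Fin 3) F) *ᵥ e) ≠ 0)
    (hd2 : ψ ⬝ᵥ ((gd : Matrix (Fin 3) (Fin 3) F) *ᵥ e) = 0) {gd' : GL (Fin 3) F} (hgd' : gd' ∈ M)
    (hd'1 : φ ⬝ᵥ ((gd' : Matrix (Fin 3) (Fin 3) F) *ᵥ e) = 0)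
    (hd'2 : ψ ⬝ᵥ ((gd' : Matrix (Fin 3) (Fin 3) F) *ᵥ e) ≠ 0) : Nat.card M ∣ 181440 := by
  classical
  let Ω : Set (Submodule F (Fin 3 → F)) :=
    {W | ∃ g ∈ M, W = Submodule.span F {(g : Matrix (Fin 3) (Fin 3) F) *ᵥ e}}
  -- the bound
  have hA : ∀ (η : Fin 3 → F) (g' : GL (Fin 3) F), g' ∈ M → η ⬝ᵥ ((g' : Matrix (Fin 3) (Fin 3) F) *ᵥ e) ≠ 0 →
      ({W ∈ Ω | ∀ w ∈ W, η ⬝ᵥ w = 0}).ncard ≤ 3 := by
    intro η g' hg' hη
    set i' := ((g'⁻¹ : GL (Fin 3) F) : Matrix (Fin 3) (Fin 3) F)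
    have hsub : ∀ χ₀ : Fin 3 → F, χ₀ ⬝ᵥ e = 0 → χ₀ ≠ 0 →
        ({W ∈ Ω | (∀ w ∈ W, η ⬝ᵥ w = 0) ∧ ∀ w ∈ W, (χ₀ ᵥ* i') ⬝ᵥ w = 0}).ncard ≤ 1 := by
      intro χ₀ hχe hχ
      refine (Set.ncard_le_one (Set.toFinite _)).2 ?_
      rintro _ ⟨⟨g, hg, rfl⟩, e1, e2⟩ _ ⟨⟨g2, hg2, rfl⟩, e3, e4⟩
      have hχ' : χ₀ ᵥ* i' ≠ 0 := vecMul_inv_ne_zero g' hχ
      obtain ⟨a, ha⟩ := mem_of_two_axes (φ := χ₀ ᵥ* i') (ψ := η) (x := (g2 : Matrix (Fin 3) (Fin 3) F) *ᵥ e)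
        (mulVec_ne_zero g he) hχ'
        (fun a ha => hη (by rw [ha, smul_dotProduct, dot_vecMul_inv, hχe, smul_zero]))
        (e2 _ (Submodule.mem_span_singleton_self _)) (e1 _ (Submodule.mem_span_singleton_self _))
        (e4 _ (Submodule.mem_span_singleton_self _)) (e3 _ (Submodule.mem_span_singleton_self _))
      have ha0 : a ≠ 0 := fun h0 => mulVec_ne_zero g2 he (by rw [ha, h0, zero_smul])
      rw [ha, Submodule.span_singleton_smul_eq (IsUnit.mk0 a ha0)]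
    have hψ0 : ψ ≠ 0 := fun h0 => hψφ 0 (by rw [h0, zero_smul])
    have hs0 : φ + ψ ≠ 0 := fun h0 => hψφ 1 (by rw [one_smul]; exact (CharTwo.add_eq_zero.1 h0).symm)
    refine (Set.ncard_le_ncard (t :=
      {W ∈ Ω | (∀ w ∈ W, η ⬝ᵥ w = 0) ∧ ∀ w ∈ W, (φ ᵥ* i') ⬝ᵥ w = 0} ∪
      ({W ∈ Ω | (∀ w ∈ W, η ⬝ᵥ w = 0) ∧ ∀ w ∈ W, (ψ ᵥ* i') ⬝ᵥ w = 0} ∪
        {W ∈ Ω | (∀ w ∈ W, η ⬝ᵥ w = 0) ∧ ∀ w ∈ W, ((φ + ψ) ᵥ* i') ⬝ᵥ w = 0})) ?_ (Set.toFinite _)).trans ?_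
    · rintro _ ⟨⟨g, hg, rfl⟩, hW⟩
      have key : ∀ χ₀ : Fin 3 → F, χ₀ ⬝ᵥ (((g'⁻¹ * g : GL (Fin 3) F) : Matrix (Fin 3) (Fin 3) F) *ᵥ e) = 0 →
          ∀ w ∈ Submodule.span F {(g : Matrix (Fin 3) (Fin 3) F) *ᵥ e}, (χ₀ ᵥ* i') ⬝ᵥ w = 0 := by
        intro χ₀ hχ w hw
        obtain ⟨a, rfl⟩ := Submodule.mem_span_singleton.1 hw
        rw [dotProduct_smul, ← Matrix.dotProduct_mulVec, Matrix.mulVec_mulVec, ← Units.val_mul, hχ, smul_zero]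
      have hm : Submodule.span F {(g : Matrix (Fin 3) (Fin 3) F) *ᵥ e} ∈ Ω := ⟨g, hg, rfl⟩
      rcases hl (g'⁻¹ * g) (mul_mem (inv_mem hg') hg) with h0 | h0 | h0
      · exact .inl ⟨hm, hW, key _ h0⟩
      · exact .inr (.inl ⟨hm, hW, key _ h0⟩)
      · exact .inr (.inr ⟨hm, hW, key _ (by rw [add_dotProduct, h0, CharTwo.add_self_eq_zero])⟩)
    · refine (Set.ncard_union_le _ _).trans ?_
      have u1 := hsub φ h1.dot hφ
      have u2 := hsub ψ h2.dot hψ0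
      have u3 := hsub (φ + ψ) (h1.add_right h2).dot hs0
      have u23 := Set.ncard_union_le {W ∈ Ω | (∀ w ∈ W, η ⬝ᵥ w = 0) ∧ ∀ w ∈ W, (ψ ᵥ* i') ⬝ᵥ w = 0}
        {W ∈ Ω | (∀ w ∈ W, η ⬝ᵥ w = 0) ∧ ∀ w ∈ W, ((φ + ψ) ᵥ* i') ⬝ᵥ w = 0}
      omega
  have hcard : Nat.card Ω ≤ 7 := by
    rw [Nat.card_coe_set_eq]
    set E := Submodule.span F {e} with hE
    have hEm : ∀ η : Fin 3 → F, η ⬝ᵥ e = 0 → E ∈ {W ∈ Ω | ∀ w ∈ W, η ⬝ᵥ w = 0} := fun η hη =>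
      ⟨⟨1, one_mem M, by simp [hE]⟩, fun w hw => by
        obtain ⟨a, rfl⟩ := Submodule.mem_span_singleton.1 hw
        rw [dotProduct_smul, hη, smul_zero]⟩
    have b1 := hA φ gd hgd hd1
    have b2 := hA ψ gd' hgd' hd'2
    have b3 := hA (φ + ψ) gd hgd (by rw [add_dotProduct, hd2, add_zero]; exact hd1)
    have c2 := Set.ncard_diff_singleton_add_one (hEm ψ h2.dot) (Set.toFinite _)
    have c3 := Set.ncard_diff_singleton_add_one (hEm (φ + ψ) (h1.add_right h2).dot) (Set.toFinite _)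
    have hcov : Ω ⊆ {W ∈ Ω | ∀ w ∈ W, φ ⬝ᵥ w = 0} ∪ (({W ∈ Ω | ∀ w ∈ W, ψ ⬝ᵥ w = 0} \ {E}) ∪
        ({W ∈ Ω | ∀ w ∈ W, (φ + ψ) ⬝ᵥ w = 0} \ {E})) := by
      rintro W hW
      by_cases hWE : W = E
      · exact .inl (hWE ▸ hEm φ h1.dot)
      obtain ⟨g, hg, rfl⟩ := id hW
      have key : ∀ η : Fin 3 → F, η ⬝ᵥ ((g : Matrix (Fin 3) (Fin 3) F) *ᵥ e) = 0 →
          ∀ w ∈ Submodule.span F {(g : Matrix (Fin 3) (Fin 3) F) *ᵥ e}, η ⬝ᵥ w = 0 := fun η hη w hw => by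
        obtain ⟨a, rfl⟩ := Submodule.mem_span_singleton.1 hw
        rw [dotProduct_smul, hη, smul_zero]
      rcases hl g hg with h0 | h0 | h0
      · exact .inl ⟨hW, key _ h0⟩
      · exact .inr (.inl ⟨⟨hW, key _ h0⟩, hWE⟩)
      · exact .inr (.inr ⟨⟨hW, key _ (by rw [add_dotProduct, h0, CharTwo.add_self_eq_zero])⟩, hWE⟩)
    have t1 := Set.ncard_le_ncard hcov (Set.toFinite _)
    have t2 := Set.ncard_union_le {W ∈ Ω | ∀ w ∈ W, φ ⬝ᵥ w = 0} (({W ∈ Ω | ∀ w ∈ W, ψ ⬝ᵥ w = 0} \ {E}) ∪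
        ({W ∈ Ω | ∀ w ∈ W, (φ + ψ) ⬝ᵥ w = 0} \ {E}))
    have t3 := Set.ncard_union_le ({W ∈ Ω | ∀ w ∈ W, ψ ⬝ᵥ w = 0} \ {E})
      ({W ∈ Ω | ∀ w ∈ W, (φ + ψ) ⬝ᵥ w = 0} \ {E})
    omega
  -- the action
  have hmap : ∀ (g : GL (Fin 3) F) (z : Fin 3 → F), (Submodule.span F {z}).map
      (Matrix.toLin' (g : Matrix (Fin 3) (Fin 3) F)) = Submodule.span F {(g : Matrix (Fin 3) (Fin 3) F) *ᵥ z} :=
    fun g z => by rw [Submodule.map_span, Set.image_singleton, Matrix.toLin'_apply]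
  have hact : ∀ (g : M) (W : Ω), W.1.map (Matrix.toLin' (g.1 : Matrix (Fin 3) (Fin 3) F)) ∈ Ω := by
    rintro g ⟨_, h, hh, rfl⟩
    exact ⟨g.1 * h, mul_mem g.2 hh, by rw [hmap, Matrix.mulVec_mulVec, ← Units.val_mul]⟩
  letI : MulAction M Ω :=
    { smul := fun g W => ⟨_, hact g W⟩
      one_smul := fun W => Subtype.ext (show W.1.map (Matrix.toLin' ((1 : M).1 : Matrix (Fin 3) (Fin 3) F)) = W.1 by
        simp)
      mul_smul := fun g h W => Subtype.ext (show W.1.map (Matrix.toLin' ((g * h).1 : Matrix (Fin 3) (Fin 3) F)) =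
        (W.1.map (Matrix.toLin' (h.1 : Matrix (Fin 3) (Fin 3) F))).map (Matrix.toLin' (g.1 : Matrix (Fin 3) (Fin 3) F)) by
        rw [← Submodule.map_comp, ← Matrix.toLin'_mul, ← Units.val_mul]; rfl) }
  let f := MulAction.toPermHom M Ω
  have hrange : Nat.card f.range ∣ 5040 := by
    refine (Subgroup.card_subgroup_dvd_card _).trans ?_
    rw [Nat.card_perm]
    exact (Nat.factorial_dvd_factorial hcard).trans (by norm_num [Nat.factorial])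
  -- four points in general position
  set d := (gd : Matrix (Fin 3) (Fin 3) F) *ᵥ e with hd
  obtain ⟨χ, hχ, hχe⟩ := exists_axis he hφ hψφ h1 h2 hgd (x := e) fun a ha => by
    have := congrArg (φ ⬝ᵥ ·) ha
    simp only [dotProduct_smul, h1.dot, smul_eq_mul] at this
    rcases mul_eq_zero.1 this.symm with h0 | h0
    · exact he (by rw [ha, h0, zero_smul])
    · exact hd1 h0
  have horb : ∀ {a η x : Fin 3 → F}, Has M a η → (∃ g ∈ M, (g : Matrix (Fin 3) (Fin 3) F) *ᵥ e = x) →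
      ∃ g ∈ M, (g : Matrix (Fin 3) (Fin 3) F) *ᵥ e = x + (η ⬝ᵥ x) • a := by
    rintro a η x ⟨h, hm⟩ ⟨g, hg, rfl⟩
    exact ⟨_, mul_mem hm hg, by rw [Units.val_mul, ← Matrix.mulVec_mulVec, tv_mulVec]⟩
  set ν := ψ ⬝ᵥ ((gd' : Matrix (Fin 3) (Fin 3) F) *ᵥ e)
  obtain ⟨d0, hd0, hd01, hd02, hμ⟩ : ∃ d0, (∃ g ∈ M, (g : Matrix (Fin 3) (Fin 3) F) *ᵥ e = d0) ∧
      φ ⬝ᵥ d0 = 0 ∧ ψ ⬝ᵥ d0 = ν ∧ χ ⬝ᵥ d0 ≠ 0 := by
    by_cases h0 : χ ⬝ᵥ ((gd' : Matrix (Fin 3) (Fin 3) F) *ᵥ e) = 0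
    · refine ⟨_, horb h2 ⟨gd', hgd', rfl⟩, ?_, ?_, ?_⟩
      · simp [dotProduct_add, hd'1, h1.dot]
      · simp [dotProduct_add, h2.dot, ν]
      · simp [dotProduct_add, h0, hχe]
        exact hd'2
    · exact ⟨_, ⟨gd', hgd', rfl⟩, hd'1, rfl, h0⟩
  obtain ⟨g4, hg4, hz4⟩ := horb h2 (horb hχ hd0)
  have hz4' : ψ ⬝ᵥ (d0 + (χ ⬝ᵥ d0) • d) = ν := by simp [dotProduct_add, hd02, hd2]
  rw [hz4'] at hz4
  obtain ⟨g0, hg0, hd0'⟩ := hd0
  have hind : LinearIndependent F ![e, d, d0] := by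
    rw [Fintype.linearIndependent_iff]
    intro c hc
    simp only [Fin.sum_univ_three, Matrix.cons_val_zero, Matrix.cons_val_one, Matrix.cons_val] at hc
    have c1 : c 1 = 0 := by
      simpa [dotProduct_add, h1.dot, hd1, hd01] using congrArg (φ ⬝ᵥ ·) hc
    have c2 : c 2 = 0 := by
      simpa [dotProduct_add, h2.dot, hd2, hd02, hd'2] using congrArg (ψ ⬝ᵥ ·) hc
    rw [c1, c2, zero_smul, zero_smul, add_zero, add_zero, smul_eq_zero] at hc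
    intro i; fin_cases i
    exacts [hc.resolve_right he, c1, c2]
  have hscal : ∀ g : f.ker, ∃ ε : F, ((g.1.1 : GL (Fin 3) F) : Matrix (Fin 3) (Fin 3) F) = ε • 1 := by
    intro g
    have hline : ∀ z, (∃ h ∈ M, ((h : GL (Fin 3) F) : Matrix (Fin 3) (Fin 3) F) *ᵥ e = z) →
        ∃ a : F, a • z = (g.1.1 : Matrix (Fin 3) (Fin 3) F) *ᵥ z := by
      rintro z ⟨h, hh, rfl⟩
      have := congrArg Subtype.val (Equiv.Perm.ext_iff.1 (MonoidHom.mem_ker.1 g.2) ⟨_, h, hh, rfl⟩)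
      change Submodule.map _ _ = Submodule.span F {(h : Matrix (Fin 3) (Fin 3) F) *ᵥ e} at this
      rw [hmap] at this
      exact Submodule.mem_span_singleton.1 (this ▸ Submodule.mem_span_singleton_self _)
    obtain ⟨α, hα⟩ := hline e ⟨1, one_mem M, by simp⟩
    obtain ⟨β, hβ⟩ := hline d ⟨gd, hgd, rfl⟩
    obtain ⟨δ, hδ⟩ := hline d0 ⟨g0, hg0, hd0'⟩
    obtain ⟨ε, hε⟩ := hline _ ⟨g4, hg4, hz4⟩
    have hz : (ε - δ) • d0 + ((ε - β) * (χ ⬝ᵥ d0)) • d + ((ε - α) * ν) • e = 0 := by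
      rw [hd] at hβ ⊢
      simp only [hd, Matrix.mulVec_add, Matrix.mulVec_smul] at hε
      rw [← hα, ← hβ, ← hδ] at hε
      linear_combination (norm := module) hε
    have hcoef := Fintype.linearIndependent_iff.1 hind ![(ε - α) * ν, (ε - β) * (χ ⬝ᵥ d0), ε - δ] (by
      simp only [Fin.sum_univ_three, Matrix.cons_val_zero, Matrix.cons_val_one, Matrix.cons_val]
      rw [← hz]; abel)
    have eα : ε = α := sub_eq_zero.1 ((mul_eq_zero.1 (hcoef 0)).resolve_right hd'2)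
    have eβ : ε = β := sub_eq_zero.1 ((mul_eq_zero.1 (hcoef 1)).resolve_right hμ)
    have eδ : ε = δ := sub_eq_zero.1 (hcoef 2)
    refine ⟨ε, Matrix.toLin'.injective (LinearMap.ext fun x => ?_)⟩
    rw [Matrix.toLin'_apply, Matrix.toLin'_apply, Matrix.smul_mulVec, Matrix.one_mulVec]
    have hx : x ∈ Submodule.span F (Set.range ![e, d, d0]) := by
      rw [hind.span_eq_top_of_card_eq_finrank (by simp)]; exact Submodule.mem_top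
    induction hx using Submodule.span_induction with
    | mem y hy =>
      obtain ⟨i, rfl⟩ := hy
      fin_cases i
      · exact (eα ▸ hα).symm
      · exact (eβ ▸ hβ).symm
      · exact (eδ ▸ hδ).symm
    | zero => simp
    | add a b _ _ ha hb => rw [Matrix.mulVec_add, ha, hb, smul_add]
    | smul a y _ hy => rw [Matrix.mulVec_smul, hy, smul_comm]
  have hker : Nat.card f.ker ∣ 3 := by
    let f0 : f.ker →* F :=
      { toFun := fun g => (g.1.1 : Matrix (Fin 3) (Fin 3) F) 0 0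
        map_one' := by simp
        map_mul' := fun g h => by
          obtain ⟨a, ha⟩ := hscal g
          obtain ⟨b, hb⟩ := hscal h
          simp [ha, hb, mul_comm] }
    refine card_dvd_three f0 ((injective_iff_map_eq_one f0).2 fun g hg => ?_) fun g => ?_
    · obtain ⟨a, ha⟩ := hscal g
      have : a = 1 := by simpa [f0, ha] using hg
      exact Subtype.ext (Subtype.ext (Units.ext (by rw [ha, this, one_smul]; rfl)))
    · obtain ⟨a, ha⟩ := hscal g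
      have := (mem_specialLinear_iff _).1 (hM g.1.2)
      rw [ha, Matrix.det_smul, Matrix.det_one, mul_one, Fintype.card_fin] at this
      simpa [f0, ha] using this
  rw [← Subgroup.card_mul_index f.ker, Subgroup.index_ker]
  exact (Nat.mul_dvd_mul hker hrange).trans (by norm_num)

/-- Two axes at one centre give a pair, or the group is small. -/
theorem pairable_or_small [Fintype F] (h2 : (2 : F) = 0) (hM : M ≤ sl3 F) (hs : Spread M) (h : TwoAxes M) :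
    Pairable M ∨ Nat.card M ∣ 181440 := by
  haveI : Fact (Nat.Prime 2) := ⟨Nat.prime_two⟩
  haveI : CharP F 2 := (CharP.charP_iff_prime_eq_zero Nat.prime_two).2 (by exact_mod_cast h2)
  obtain ⟨e, φ, ψ, he, hφ, hψφ, h1, h1'⟩ := h
  by_cases hl : ThreeLines M e φ ψ
  · right
    obtain ⟨gd, hgd, hd⟩ := hs e φ he hφ
    obtain ⟨ψ₁, hψ₁, h1'', hl₁, hd2⟩ : ∃ ψ₁ : Fin 3 → F, (∀ a : F, ψ₁ ≠ a • φ) ∧ Has M e ψ₁ ∧
        ThreeLines M e φ ψ₁ ∧ ψ₁ ⬝ᵥ ((gd : Matrix (Fin 3) (Fin 3) F) *ᵥ e) = 0 := by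
      rcases hl gd hgd with h0 | h0 | h0
      · exact absurd h0 hd
      · exact ⟨ψ, hψφ, h1', hl, h0⟩
      · refine ⟨φ + ψ, fun a ha => hψφ (a - 1) ?_, h1.add_right h1', hl.sum.1,
          by rw [add_dotProduct, h0, CharTwo.add_self_eq_zero]⟩
        rw [sub_smul, one_smul, ← ha, add_sub_cancel_left]
    obtain ⟨gd', hgd', hd'⟩ := hs e ψ₁ he fun h0 => hψ₁ 0 (by rw [h0, zero_smul])
    rcases hl₁ gd' hgd' with h0 | h0 | h0
    · exact small_core hM he hφ hψ₁ h1 h1'' hl₁ hgd hd hd2 hgd' h0 hd'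
    · exact absurd h0 hd'
    · have hd1' : (φ + ψ₁) ⬝ᵥ ((gd : Matrix (Fin 3) (Fin 3) F) *ᵥ e) ≠ 0 := by
        rw [add_dotProduct, hd2, add_zero]; exact hd
      refine small_core hM he (fun h => hd1' (by rw [h, zero_dotProduct])) (fun a ha => ?_) (h1.add_right h1'') h1''
        hl₁.sum.2 hgd hd1' hd2 hgd' (by rw [add_dotProduct, h0, CharTwo.add_self_eq_zero]) hd'
      by_cases ha1 : a = 1
      · rw [ha1, one_smul, right_eq_add] at ha; exact hφ ha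
      · refine hψ₁ ((1 - a)⁻¹ * a) ?_
        rw [mul_smul, eq_inv_smul_iff₀ (sub_ne_zero.2 (Ne.symm ha1)), sub_smul, one_smul, sub_eq_iff_eq_add,
          ← smul_add]
        exact ha
  · left
    simp only [ThreeLines, not_forall, not_or] at hl
    obtain ⟨g, hg, n1, n2, n3⟩ := hl
    obtain ⟨χ, hχ, hχe⟩ := exists_axis he hφ hψφ h1 h1' hg (x := e) fun a ha => by
      have := congrArg (φ ⬝ᵥ ·) ha
      simp only [dotProduct_smul, h1.dot, smul_eq_mul] at this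
      rcases mul_eq_zero.1 this.symm with h0 | h0
      · exact he (by rw [ha, h0, zero_smul])
      · exact n1 h0
    exact ⟨e, _, φ, ψ, χ, he, h1, h1', hχ, n1, n2, n3, hχe⟩

end CfsgLib.Dim3Max.Four
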