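import Cfsg.Agent.Lib.Dim3Max.FourPair
import Cfsg.Agent.Lib.Dim3Max.FourSmall

/-!
The standard group: over a field with at least eight elements it gives a root field, over four elements the
group is rational over the field with four elements up to scalars.
-/

set_option autoImplicit false

namespace CfsgLib.Dim3Max.Four

open Matrix CfsgLib.Maximal CfsgLib.PSL2

universe u

variable {F : Type u} [Field F] {M : Subgroup (GL (Fin 3) F)} {K : Subfield F}

theorem exists_avoid [Finite F] (s : Finset F) (h : s.card < Nat.card K) : ∃ x ∈ K, x ∉ s := by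
  by_contra hcon
  push Not at hcon
  have h1 : (K : Set F).ncard ≤ (s : Set F).ncard := Set.ncard_le_ncard (fun x hx => hcon x hx) (Set.toFinite _)
  rw [Set.ncard_coe_finset, ← Nat.card_coe_set_eq] at h1
  exact absurd h (not_lt.2 h1)

theorem Std.axis [Finite F] (hstd : Std M K) {g : GL (Fin 3) F} (hg : g ∈ M) {x : Fin 3 → F}
    (hx : ∀ a : F, x ≠ a • ((g : Matrix (Fin 3) (Fin 3) F) *ᵥ ![1, 0, 0])) :
    ∃ χ, Has M ((g : Matrix (Fin 3) (Fin 3) F) *ᵥ ![1, 0, 0]) χ ∧ χ ⬝ᵥ x ≠ 0 := by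
  classical
  obtain ⟨s, hs, hs'⟩ := exists_avoid (K := K) {0, 1} (by
    have := hstd.card; have := (Finset.card_le_two (a := (0 : F)) (b := 1)); omega)
  simp only [Finset.mem_insert, Finset.mem_singleton, not_or] at hs'
  refine exists_axis (fun h => one_ne_zero (α := F) (by simpa using congrFun h 0))
    (fun h => one_ne_zero (α := F) (by simpa using congrFun h 1)) (fun a ha => ?_)
    ((hstd.has ![0, 1, 1]).2 ⟨1, one_mem K, by simp⟩) ((hstd.has _).2 ⟨s, hs, rfl⟩) hg hx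
  have e1 : s ^ 2 = a := by simpa using congrFun ha 1
  have e2 : s = a := by simpa using congrFun ha 2
  rw [pow_two, ← e2] at e1
  exact hs'.2 ((mul_eq_right₀ hs'.1).1 e1)

/-- The pair lemma at a centre `d` off the axes. -/
theorem Std.pair_at [Finite F] (h2 : (2 : F) = 0) (hM : M ≤ sl3 F) (hstd : Std M K) (hng : ¬ Goal M)
    {d : Fin 3 → F} (hd : ∃ g ∈ M, ((g : GL (Fin 3) F) : Matrix (Fin 3) (Fin 3) F) *ᵥ ![1, 0, 0] = d)
    {s t : F} (hs : s ∈ K) (ht : t ∈ K) (hμs : s ^ 2 * d 1 + s * d 2 ≠ 0) (hμt : t ^ 2 * d 1 + t * d 2 ≠ 0)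
    (hne : s ^ 2 * d 1 + s * d 2 ≠ t ^ 2 * d 1 + t * d 2) :
    ∃ (g : GL (Fin 3) F) (K' : Subfield F) (l : F) (P : Fin 3 → F), l ≠ 0 ∧ Std (conjG g M) K' ∧
      ∀ x ∈ K, l * (x ^ 2 * d 1 + x * d 2) ∈ K' ∧ (x ^ 2 * P 1 + x * P 2) ^ 2 = l * (x ^ 2 * d 1 + x * d 2) := by
  obtain ⟨g0, hg0, rfl⟩ := hd
  set d := (g0 : Matrix (Fin 3) (Fin 3) F) *ᵥ ![1, 0, 0]
  have hdot : ∀ (s : F) (v : Fin 3 → F), ![0, s ^ 2, s] ⬝ᵥ v = s ^ 2 * v 1 + s * v 2 := fun s v => by
    simp [dotProduct, Fin.sum_univ_three]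
  obtain ⟨ψ, hψ, hψe⟩ := hstd.axis hg0 (x := ![1, 0, 0]) fun a ha => hμs (by
    have e1 := congrFun ha 1
    have e2 := congrFun ha 2
    have ha0 : a ≠ 0 := fun h0 => one_ne_zero (α := F) (by simpa [h0] using congrFun ha 0)
    simp at e1 e2
    have f1 : d 1 = 0 := e1.resolve_left ha0
    have f2 : d 2 = 0 := e2.resolve_left ha0
    rw [f1, f2]; ring)
  rcases pair h2 hM (fun h => one_ne_zero (α := F) (by simpa using congrFun h 0)) ((hstd.has _).2 ⟨s, hs, rfl⟩)
      ((hstd.has _).2 ⟨t, ht, rfl⟩) hψ (by rwa [hdot]) (by rwa [hdot]) (by rwa [hdot, hdot]) hψe with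
    h | ⟨g, K', l, hl, hg1, hg2, hstd'⟩
  · exact absurd h hng
  refine ⟨g, K', l, (g : Matrix (Fin 3) (Fin 3) F) *ᵥ ![0, 0, 1], hl, hstd', fun x hx => ?_⟩
  obtain ⟨s', hs', he⟩ := (hstd'.has _).1 (has_conjG'.2 (hg1.symm ▸ (hstd.has _).2 ⟨x, hx, rfl⟩))
  have e1 : ![0, x ^ 2, x] ⬝ᵥ (l • d) = s' ^ 2 := by
    rw [← hg2, Matrix.dotProduct_mulVec, he]; simp [dotProduct, Fin.sum_univ_three]
  have e2 : ![0, x ^ 2, x] ⬝ᵥ ((g : Matrix (Fin 3) (Fin 3) F) *ᵥ ![0, 0, 1]) = s' := by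
    rw [Matrix.dotProduct_mulVec, he]; simp [dotProduct, Fin.sum_univ_three]
  rw [dotProduct_smul, hdot, smul_eq_mul] at e1
  rw [hdot] at e2
  exact ⟨e1 ▸ pow_mem hs' 2, by rw [e2, e1]⟩

theorem goal_of_eight [Fintype F] (h2 : (2 : F) = 0) (hM : M ≤ sl3 F) (hsp : Spread M) (hstd : Std M K)
    (h8 : 8 ≤ Nat.card K) : Goal M := by
  classical
  by_contra hng
  haveI := CharTwo.of_one_ne_zero_of_two_eq_zero (one_ne_zero (α := F)) h2
  obtain ⟨g0, hg0, hd2⟩ := hsp ![1, 0, 0] ![0, 0, 1] (fun h => one_ne_zero (α := F) (by simpa using congrFun h 0))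
    (fun h => one_ne_zero (α := F) (by simpa using congrFun h 2))
  set d := (g0 : Matrix (Fin 3) (Fin 3) F) *ᵥ ![1, 0, 0] with hd
  have hd2' : d 2 ≠ 0 := by simpa [dotProduct, Fin.sum_univ_three] using hd2
  have hroot : ∀ s, s ≠ 0 → s ≠ d 2 / d 1 → s ^ 2 * d 1 + s * d 2 ≠ 0 := by
    intro s hs0 hs1 h
    have e : s * d 1 + d 2 = 0 := mul_left_cancel₀ hs0 (by linear_combination h)
    have hd1 : d 1 ≠ 0 := fun h0 => hd2' (by rw [h0, mul_zero, zero_add] at e; exact e)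
    exact hs1 (by rw [eq_div_iff hd1]; exact CharTwo.add_eq_zero.1 e)
  obtain ⟨s, hs, hsn⟩ := exists_avoid (K := K) {0, d 2 / d 1}
    (lt_of_le_of_lt Finset.card_le_two (by omega))
  simp only [Finset.mem_insert, Finset.mem_singleton, not_or] at hsn
  obtain ⟨t, ht, htn⟩ := exists_avoid (K := K) ({0, d 2 / d 1, s, s + d 2 / d 1} : Finset F)
    (lt_of_le_of_lt Finset.card_le_four (by omega))
  simp only [Finset.mem_insert, Finset.mem_singleton, not_or] at htn
  have hne : s ^ 2 * d 1 + s * d 2 ≠ t ^ 2 * d 1 + t * d 2 := by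
    intro h
    refine hroot (s + t) (fun h0 => htn.2.2.1 (CharTwo.add_eq_zero.1 h0).symm) (fun h0 => htn.2.2.2 ?_) ?_
    · rw [← h0]; linear_combination -s * h2
    · linear_combination h + (s * t * d 1 + t ^ 2 * d 1 + t * d 2) * h2
  obtain ⟨g, K', l, P, hl, -, hP⟩ := hstd.pair_at h2 hM hng ⟨g0, hg0, rfl⟩ hs ht (hroot s hsn.1 hsn.2)
    (hroot t htn.1 htn.2.1) hne
  let p : Polynomial F := Polynomial.C (P 1 ^ 2) * Polynomial.X ^ 4 +
    Polynomial.C (P 2 ^ 2 - l * d 1) * Polynomial.X ^ 2 + Polynomial.C (-(l * d 2)) * Polynomial.X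
  have hp : p = 0 := by
    refine Polynomial.eq_zero_of_natDegree_lt_card_of_eval_eq_zero p (f := fun x : K => (x : F))
      Subtype.val_injective (fun x => ?_) ?_
    · have := (hP x x.2).2
      simp only [p, Polynomial.eval_add, Polynomial.eval_mul, Polynomial.eval_C, Polynomial.eval_pow,
        Polynomial.eval_X]
      linear_combination this - (x : F) ^ 3 * P 1 * P 2 * h2
    · have : p.natDegree ≤ 4 := by simp only [p]; compute_degree
      rw [← Nat.card_eq_fintype_card]; omega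
  have := congrArg (Polynomial.coeff · 1) hp
  simp only [p, Polynomial.coeff_add, Polynomial.coeff_C_mul, Polynomial.coeff_X_pow, Polynomial.coeff_X_one,
    Polynomial.coeff_zero] at this
  norm_num at this
  exact this.elim (fun h => hl h) (fun h => hd2' h)

/-- All coordinates lie in `K`. -/
def RV (K : Subfield F) (x : Fin 3 → F) : Prop := ∀ i, x i ∈ K

theorem coeff_mem {v w x : Fin 3 → F} (hv : RV K v) (hw : RV K w) (hx : RV K x) (hv0 : v ≠ 0)
    (hind : ∀ a : F, w ≠ a • v) {a b : F} (h : a • v + b • w = x) : a ∈ K ∧ b ∈ K := by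
  obtain ⟨i, j, hij⟩ : ∃ i j, v i * w j - v j * w i ≠ 0 := by
    by_contra hcon
    push Not at hcon
    obtain ⟨i, hi⟩ := Function.ne_iff.1 hv0
    refine hind (w i / v i) (funext fun j => ?_)
    rw [Pi.smul_apply, smul_eq_mul, div_mul_eq_mul_div, eq_div_iff hi]
    linear_combination hcon i j
  have ei : a * v i + b * w i = x i := congrFun h i
  have ej : a * v j + b * w j = x j := congrFun h j
  constructor
  · rw [show a = (x i * w j - x j * w i) / (v i * w j - v j * w i) by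
      rw [eq_div_iff hij, ← ei, ← ej]; ring]
    exact div_mem (sub_mem (mul_mem (hx i) (hw j)) (mul_mem (hx j) (hw i)))
      (sub_mem (mul_mem (hv i) (hw j)) (mul_mem (hv j) (hw i)))
  · rw [show b = (v i * x j - v j * x i) / (v i * w j - v j * w i) by
      rw [eq_div_iff hij, ← ei, ← ej]; ring]
    exact div_mem (sub_mem (mul_mem (hv i) (hx j)) (mul_mem (hv j) (hx i)))
      (sub_mem (mul_mem (hv i) (hw j)) (mul_mem (hv j) (hw i)))

theorem pow_three [Finite F] [CharP F 2] (h4 : Nat.card K = 4) {x : F} (hx : x ∈ K) (hx0 : x ≠ 0) : x ^ 3 = 1 := by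
  have h := pow_natCard_eq hx
  rw [h4] at h
  exact mul_left_cancel₀ hx0 (by linear_combination h)

theorem small_of_four [Fintype F] (h2 : (2 : F) = 0) (hM : M ≤ sl3 F) (hsp : Spread M) (hstd : Std M K)
    (h4 : Nat.card K = 4) (hng : ¬ Goal M) : Nat.card M ∣ 181440 := by
  classical
  haveI : Fact (Nat.Prime 2) := ⟨Nat.prime_two⟩
  haveI : CharP F 2 := (CharP.charP_iff_prime_eq_zero Nat.prime_two).2 (by exact_mod_cast h2)
  have hE0 : (![1, 0, 0] : Fin 3 → F) ≠ 0 := fun h => one_ne_zero (α := F) (by simpa using congrFun h 0)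
  obtain ⟨w, hwK, hw⟩ := exists_avoid (K := K) {0, 1} (lt_of_le_of_lt Finset.card_le_two (by omega))
  simp only [Finset.mem_insert, Finset.mem_singleton, not_or] at hw
  have hww : w ^ 2 + w + 1 = 0 :=
    mul_left_cancel₀ (sub_ne_zero.2 hw.2) (by linear_combination pow_three h4 hwK hw.1)
  -- centres and their last two coordinates
  have hline : ∀ g ∈ M, ((g : GL (Fin 3) F) : Matrix (Fin 3) (Fin 3) F) 2 0 ≠ 0 →
      (g : Matrix (Fin 3) (Fin 3) F) 1 0 / (g : Matrix (Fin 3) (Fin 3) F) 2 0 ∈ K := by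
    intro g hg hd2
    set d := (g : Matrix (Fin 3) (Fin 3) F) *ᵥ ![1, 0, 0] with hd
    have e1 : d 1 = (g : Matrix (Fin 3) (Fin 3) F) 1 0 := by
      simp [hd, Matrix.mulVec, dotProduct, Fin.sum_univ_three]
    have e2 : d 2 = (g : Matrix (Fin 3) (Fin 3) F) 2 0 := by
      simp [hd, Matrix.mulVec, dotProduct, Fin.sum_univ_three]
    rw [← e1, ← e2]; rw [← e2] at hd2
    by_cases hz : ∃ s ∈ K, s ≠ 0 ∧ s ^ 2 * d 1 + s * d 2 = 0
    · obtain ⟨s, hs, hs0, h⟩ := hz
      have e : s * d 1 + d 2 = 0 := mul_left_cancel₀ hs0 (by linear_combination h)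
      have he : d 1 / d 2 = s⁻¹ := by
        rw [CharTwo.add_eq_zero] at e
        have hd1 : d 1 ≠ 0 := fun h0 => hd2 (by rw [← e, h0, mul_zero])
        rw [← e, div_mul_cancel_right₀ hd1]
      rw [he]; exact inv_mem hs
    · push Not at hz
      have hne : (1 : F) ^ 2 * d 1 + 1 * d 2 ≠ w ^ 2 * d 1 + w * d 2 := by
        intro h
        refine hz (1 + w) (add_mem (one_mem K) hwK) (fun h0 => hw.2 (CharTwo.add_eq_zero.1 h0).symm) ?_
        linear_combination h + (w * d 1 + w ^ 2 * d 1 + w * d 2) * h2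
      obtain ⟨g', K', l, P, hl, hstd', hP⟩ := hstd.pair_at h2 hM hng ⟨g, hg, rfl⟩ (one_mem K) hwK
        (hz 1 (one_mem K) one_ne_zero) (hz w hwK hw.1) hne
      have hK' : K' = K := by
        refine subfield_eq_of_card (Eq.trans ?_ h4.symm)
        by_contra hne4
        obtain ⟨a, ha, hKa⟩ := natCard_eq_pow (p := 2) (K := K')
        have h8 : 8 ≤ Nat.card K' := by
          have h4' := hstd'.card
          rcases Nat.lt_or_ge a 3 with h3 | h3
          · interval_cases a <;> omega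
          · rw [hKa]; exact Nat.pow_le_pow_right (show 0 < 2 by norm_num) h3
        exact hng (goal_conjG (goal_of_eight h2 (conjG_le hM) (spread_conjG hsp) hstd' h8))
      subst hK'
      have a1 := (hP 1 (one_mem _)).1
      have aw := (hP w hwK).1
      have f1 : l * d 1 ∈ K' := by
        have : l * d 1 = w * (l * (1 ^ 2 * d 1 + 1 * d 2)) + l * (w ^ 2 * d 1 + w * d 2) := by
          linear_combination -(l * d 1) * hww + l * (d 1 - w * d 2) * h2
        rw [this]; exact add_mem (mul_mem hwK a1) aw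
      have f2 : l * d 2 ∈ K' := by
        have : l * d 2 = l * (1 ^ 2 * d 1 + 1 * d 2) + l * d 1 := by linear_combination -(l * d 1) * h2
        rw [this]; exact add_mem a1 f1
      rw [← mul_div_mul_left _ _ hl]
      exact div_mem f1 f2
  obtain ⟨sw, hswM, hsw⟩ := hstd.swap
  have hoff : ∀ d, (∃ g ∈ M, ((g : GL (Fin 3) F) : Matrix (Fin 3) (Fin 3) F) *ᵥ ![1, 0, 0] = d) → d 2 ≠ 0 →
      RV K ((d 2)⁻¹ • d) := by
    rintro _ ⟨g, hg, rfl⟩ hd2
    have ev : ∀ (h : GL (Fin 3) F) i, ((h : Matrix (Fin 3) (Fin 3) F) *ᵥ ![1, 0, 0]) i =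
        (h : Matrix (Fin 3) (Fin 3) F) i 0 := fun h i => by
      simp [Matrix.mulVec, dotProduct, Fin.sum_univ_three]
    rw [ev] at hd2
    have h0 := hline (sw * g) (mul_mem hswM hg)
    simp [Units.val_mul, hsw, Matrix.mul_apply, Fin.sum_univ_three] at h0
    intro i
    rw [Pi.smul_apply, smul_eq_mul, ev, ev, inv_mul_eq_div]
    fin_cases i
    · exact h0 hd2
    · exact hline g hg hd2
    · simp [hd2]
  -- a rational centre off the plane
  obtain ⟨g0, hg0, hq⟩ := hsp ![1, 0, 0] ![0, 0, 1] hE0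
    (fun h => one_ne_zero (α := F) (by simpa using congrFun h 2))
  set d0 := (g0 : Matrix (Fin 3) (Fin 3) F) *ᵥ ![1, 0, 0] with hd0
  have hd02 : d0 2 ≠ 0 := by simpa [dotProduct, Fin.sum_univ_three] using hq
  set q := (d0 2)⁻¹ • d0 with hqd
  have hqK : RV K q := hoff _ ⟨g0, hg0, rfl⟩ hd02
  have hq2 : q 2 = 1 := by simp [hqd, hd02]
  have hrat : ∀ d, (∃ g ∈ M, ((g : GL (Fin 3) F) : Matrix (Fin 3) (Fin 3) F) *ᵥ ![1, 0, 0] = d) →
      ∃ c : F, c ≠ 0 ∧ RV K (c • d) := by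
    rintro d ⟨g, hg, rfl⟩
    set d := (g : Matrix (Fin 3) (Fin 3) F) *ᵥ ![1, 0, 0] with hd
    by_cases hd2 : d 2 = 0
    · obtain ⟨χ, ⟨hχ0, hχM⟩, hχd⟩ := hstd.axis hg0 (x := d) fun a ha => by
        have h2' := congrFun ha 2
        rw [hd2, Pi.smul_apply, smul_eq_mul, eq_comm, mul_eq_zero] at h2'
        exact mulVec_ne_zero g hE0 (by
          rw [← hd, ha, h2'.resolve_right hd02, zero_smul])
      have hd' := hoff (d + (χ ⬝ᵥ d) • d0) ⟨tv _ _ hχ0 * g, mul_mem hχM hg, by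
        rw [Units.val_mul, ← Matrix.mulVec_mulVec, tv_mulVec]⟩
        (by simp [hd2, hχd, hd02])
      refine ⟨((d + (χ ⬝ᵥ d) • d0) 2)⁻¹, inv_ne_zero (by simp [hd2, hχd, hd02]), fun i => ?_⟩
      have e : (((d + (χ ⬝ᵥ d) • d0) 2)⁻¹ • d) i =
          (((d + (χ ⬝ᵥ d) • d0) 2)⁻¹ • (d + (χ ⬝ᵥ d) • d0)) i - q i := by
        simp [hd2, hqd]; field_simp; ring
      rw [e]; exact sub_mem (hd' i) (hqK i)
    · exact ⟨_, inv_ne_zero hd2, hoff _ ⟨g, hg, rfl⟩ hd2⟩
  -- the matrices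
  obtain ⟨hu1, hu1M⟩ := (hstd.has ![0, 1, 1]).2 ⟨1, one_mem K, by simp⟩
  obtain ⟨s, hs, hk⟩ : ∃ s ∈ K, s ^ 2 * q 1 + s ≠ 0 := by
    by_contra h
    push Not at h
    have a1 := h 1 (one_mem K)
    have aw := h w hwK
    exact hw.2 (mul_left_cancel₀ hw.1 (by linear_combination -aw + w ^ 2 * a1))
  obtain ⟨hus, husM⟩ := (hstd.has ![0, s ^ 2, s]).2 ⟨s, hs, rfl⟩
  set k := s ^ 2 * q 1 + s with hkd
  have hkK : k ∈ K := add_mem (mul_mem (pow_mem hs 2) (hqK 1)) hs
  have hall : ∀ g ∈ M, ∃ α : F, α ≠ 0 ∧ ∀ i j, ((g : GL (Fin 3) F) : Matrix (Fin 3) (Fin 3) F) i j / α ∈ K := by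
    intro g hg
    have img : ∀ v, (∃ h ∈ M, ((h : GL (Fin 3) F) : Matrix (Fin 3) (Fin 3) F) *ᵥ ![1, 0, 0] = v) →
        ∃ c : F, c ≠ 0 ∧ RV K (c • ((g : Matrix (Fin 3) (Fin 3) F) *ᵥ v)) := by
      rintro v ⟨h, hh, rfl⟩
      exact hrat _ ⟨g * h, mul_mem hg hh, by rw [Units.val_mul, ← Matrix.mulVec_mulVec]⟩
    obtain ⟨a, ha, hav⟩ := img ![1, 0, 0] ⟨1, one_mem M, by simp⟩
    obtain ⟨b, hb, hbv⟩ := img ![0, 1, 0] ⟨sw, hswM, by
      ext i; fin_cases i <;> simp [hsw, Matrix.mulVec, dotProduct, Fin.sum_univ_three]⟩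
    obtain ⟨c, hc, hcv⟩ := img ![1, 1, 0] ⟨tv _ _ hu1 * sw, mul_mem hu1M hswM, by
      rw [Units.val_mul, ← Matrix.mulVec_mulVec, tv_mulVec]
      ext i; fin_cases i <;> simp [hsw, Matrix.mulVec, dotProduct, Fin.sum_univ_three]⟩
    obtain ⟨e', he', hev'⟩ := img d0 ⟨g0, hg0, rfl⟩
    obtain ⟨e, he, hev⟩ : ∃ e : F, e ≠ 0 ∧ RV K (e • ((g : Matrix (Fin 3) (Fin 3) F) *ᵥ q)) := by
      refine ⟨e' * d0 2, mul_ne_zero he' hd02, ?_⟩
      rw [hqd, Matrix.mulVec_smul, smul_smul, mul_assoc, mul_inv_cancel₀ hd02, mul_one]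
      exact hev'
    obtain ⟨f', hf', hfv'⟩ := img (d0 + (![0, s ^ 2, s] ⬝ᵥ d0) • ![1, 0, 0]) ⟨tv _ _ hus * g0, mul_mem husM hg0, by
      rw [Units.val_mul, ← Matrix.mulVec_mulVec, tv_mulVec]⟩
    set gm := (g : Matrix (Fin 3) (Fin 3) F) with hgm
    have indg : ∀ {v v' : Fin 3 → F}, v ≠ 0 → (∀ x : F, v' ≠ x • v) → ∀ y z : F, y ≠ 0 → z ≠ 0 →
        y • (gm *ᵥ v) ≠ 0 ∧ ∀ x : F, z • (gm *ᵥ v') ≠ x • (y • (gm *ᵥ v)) := by
      intro v v' hv hv' y z hy hz
      refine ⟨smul_ne_zero hy (mulVec_ne_zero g hv), fun x hx => hv' (z⁻¹ * x * y) (mulVec_inj g ?_)⟩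
      show gm *ᵥ v' = gm *ᵥ _
      rw [Matrix.mulVec_smul, mul_smul, mul_smul, ← hx, inv_smul_smul₀ hz]
    have r1 : c / a ∈ K ∧ c / b ∈ K := by
      obtain ⟨i1, i2⟩ := indg hE0 (v' := ![0, 1, 0])
        (fun x h => one_ne_zero (α := F) (by simpa using congrFun h 1)) a b ha hb
      refine coeff_mem hav hbv hcv i1 i2 ?_
      rw [smul_smul, smul_smul, div_mul_cancel₀ _ ha, div_mul_cancel₀ _ hb, ← smul_add, ← Matrix.mulVec_add]
      congr 2; ext i; fin_cases i <;> simp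
    have r2 : f' * d0 2 * k / a ∈ K ∧ f' * d0 2 / e ∈ K := by
      obtain ⟨i1, i2⟩ := indg hE0 (v' := q) (fun x h => one_ne_zero (α := F) (by
        have := congrFun h 2
        rw [hq2] at this
        simpa using this)) a e ha he
      refine coeff_mem hav hev hfv' i1 i2 ?_
      rw [smul_smul, smul_smul, div_mul_cancel₀ _ ha, div_mul_cancel₀ _ he, mul_smul, mul_smul, mul_smul,
        ← smul_add, ← smul_add, ← Matrix.mulVec_smul, ← Matrix.mulVec_add, ← Matrix.mulVec_smul]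
      congr 2
      rw [smul_add, smul_smul, hqd, smul_smul, mul_inv_cancel₀ hd02, one_smul, add_comm]
      congr 2
      rw [hkd, hqd]
      simp [dotProduct, Fin.sum_univ_three]
      field_simp
    have hca : c / a ≠ 0 := div_ne_zero hc ha
    have hcb : c / b ≠ 0 := div_ne_zero hc hb
    have hab : a / b ∈ K := by
      have : a / b = (c / b) / (c / a) := by field_simp
      rw [this]; exact div_mem r1.2 r1.1
    have hae : a / e ∈ K := by
      have : a / e = (f' * d0 2 / e) / (f' * d0 2 * k / a) * k := by field_simp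
      rw [this]; exact mul_mem (div_mem r2.2 r2.1) hkK
    have col0 : RV K (a • (gm *ᵥ ![1, 0, 0])) := hav
    have col1 : RV K (a • (gm *ᵥ ![0, 1, 0])) := fun i => by
      have : (a • (gm *ᵥ ![0, 1, 0])) i = a / b * (b • (gm *ᵥ ![0, 1, 0])) i := by
        simp only [Pi.smul_apply, smul_eq_mul]; field_simp
      rw [this]; exact mul_mem hab (hbv i)
    have colq : RV K (a • (gm *ᵥ q)) := fun i => by
      have : (a • (gm *ᵥ q)) i = a / e * (e • (gm *ᵥ q)) i := by
        simp only [Pi.smul_apply, smul_eq_mul]; field_simp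
      rw [this]; exact mul_mem hae (hev i)
    refine ⟨a⁻¹, inv_ne_zero ha, fun i j => ?_⟩
    rw [div_inv_eq_mul]
    have c0 : gm i 0 * a = (a • (gm *ᵥ ![1, 0, 0])) i := by
      simp [Matrix.mulVec, dotProduct, Fin.sum_univ_three, mul_comm]
    have c1 : gm i 1 * a = (a • (gm *ᵥ ![0, 1, 0])) i := by
      simp [Matrix.mulVec, dotProduct, Fin.sum_univ_three, mul_comm]
    fin_cases j
    · exact c0 ▸ col0 i
    · exact c1 ▸ col1 i
    · have e : gm i 2 * a = (a • (gm *ᵥ q)) i - q 0 * (gm i 0 * a) - q 1 * (gm i 1 * a) := by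
        simp [Matrix.mulVec, dotProduct, Fin.sum_univ_three, hq2]; ring
      show gm i 2 * a ∈ K
      rw [e, c0, c1]
      exact sub_mem (sub_mem (colq i) (mul_mem (hqK 0) (col0 i))) (mul_mem (hqK 1) (col1 i))
  choose α hα0 hα using hall
  have hwell : ∀ g (hg : g ∈ M) (β : F), β ≠ 0 → (∀ i j, ((g : GL (Fin 3) F) : Matrix (Fin 3) (Fin 3) F) i j / β ∈ K) →
      α g hg ^ 3 = β ^ 3 := by
    intro g hg β hβ hβK
    obtain ⟨i, hi⟩ : ∃ i, (g : Matrix (Fin 3) (Fin 3) F) i 0 ≠ 0 := by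
      by_contra h; push Not at h
      exact mulVec_ne_zero g hE0 (funext fun i => by simp [Matrix.mulVec, dotProduct, Fin.sum_univ_three, h i])
    have hr : α g hg / β ∈ K := by
      have : α g hg / β = ((g : Matrix (Fin 3) (Fin 3) F) i 0 / β) / ((g : Matrix (Fin 3) (Fin 3) F) i 0 / α g hg) := by
        field_simp [hα0 g hg]
      rw [this]; exact div_mem (hβK i 0) (hα g hg i 0)
    have := pow_three h4 hr (div_ne_zero (hα0 g hg) hβ)
    rwa [div_pow, div_eq_one_iff_eq (pow_ne_zero 3 hβ)] at this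
  have hcube : ∀ g (hg : g ∈ M), (α g hg ^ 3) ^ 3 = 1 := by
    intro g hg
    have hdet : (α g hg ^ 3)⁻¹ ∈ K := by
      have h1 := (mem_specialLinear_iff _).1 (hM hg)
      let A : Matrix (Fin 3) (Fin 3) K := Matrix.of fun i j => ⟨_, hα g hg i j⟩
      have : A.map K.subtype = (α g hg)⁻¹ • (g : Matrix (Fin 3) (Fin 3) F) := by
        ext i j; simp [A, div_eq_inv_mul]
      have e : ((A.det : K) : F) = (α g hg ^ 3)⁻¹ := by
        rw [show ((A.det : K) : F) = K.subtype A.det from rfl, RingHom.map_det, RingHom.mapMatrix_apply, this,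
          Matrix.det_smul, h1, mul_one, Fintype.card_fin, inv_pow]
      exact e ▸ A.det.2
    have := pow_three h4 hdet (inv_ne_zero (pow_ne_zero 3 (hα0 g hg)))
    rwa [inv_pow, inv_eq_one] at this
  let f : M →* F :=
    { toFun := fun g => α g.1 g.2 ^ 3
      map_one' := by
        rw [hwell _ _ 1 one_ne_zero fun i j => by
          rw [div_one, Subgroup.coe_one, Units.val_one, Matrix.one_apply]
          split_ifs
          exacts [one_mem K, zero_mem K], one_pow]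
      map_mul' := fun g h => by
        rw [hwell _ _ (α g.1 g.2 * α h.1 h.2) (mul_ne_zero (hα0 _ g.2) (hα0 _ h.2)) fun i j => by
          rw [Subgroup.coe_mul, Units.val_mul, Matrix.mul_apply, Finset.sum_div]
          refine sum_mem fun k _ => ?_
          rw [mul_div_mul_comm]
          exact mul_mem (hα _ g.2 i k) (hα _ h.2 k j), mul_pow] }
  have hrange : Nat.card f.toHomUnits.range ∣ 3 := by
    refine card_dvd_three ((Units.coeHom F).comp f.toHomUnits.range.subtype) (fun a b h => ?_) ?_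
    · exact Subtype.ext (Units.ext h)
    · rintro ⟨_, g, rfl⟩
      exact hcube g.1 g.2
  have hmem : ∀ g : f.toHomUnits.ker, ∀ i j, (g.1.1 : Matrix (Fin 3) (Fin 3) F) i j ∈ K := by
    intro g i j
    have h3 : α g.1.1 g.1.2 ^ 3 = 1 := congrArg Units.val (MonoidHom.mem_ker.1 g.2)
    have hαK : α g.1.1 g.1.2 ∈ K := mem_of_pow_natCard (by rw [h4, pow_succ, h3, one_mul])
    have := mul_mem (hα g.1.1 g.1.2 i j) hαK
    rwa [div_mul_cancel₀ _ (hα0 _ g.1.2)] at this
  have hker : Nat.card f.toHomUnits.ker ∣ 60480 := by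
    have hdet : ∀ g : f.toHomUnits.ker, (Matrix.of fun i j => (⟨_, hmem g i j⟩ : K)).det = 1 := fun g =>
      Subtype.ext (by
        rw [show (((Matrix.of fun i j => (⟨_, hmem g i j⟩ : K)).det : K) : F) =
          K.subtype (Matrix.of fun i j => (⟨_, hmem g i j⟩ : K)).det from rfl, RingHom.map_det]
        exact (mem_specialLinear_iff _).1 (hM g.1.2))
    let ι : f.toHomUnits.ker →* Matrix.SpecialLinearGroup (Fin 3) K :=
      { toFun := fun g => ⟨_, hdet g⟩
        map_one' := Subtype.ext (by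
          ext i j
          by_cases h : i = j <;> simp [h, Matrix.one_apply])
        map_mul' := fun g h => Subtype.ext (by
          refine Matrix.ext fun i j => Subtype.ext ?_
          show ((g * h).1.1 : Matrix (Fin 3) (Fin 3) F) i j =
            ((Matrix.of (fun i j => (⟨_, hmem g i j⟩ : K)) * Matrix.of (fun i j => (⟨_, hmem h i j⟩ : K))) i j : F)
          simp [Matrix.mul_apply]) }
    have hι : Function.Injective ι := fun g h e => Subtype.ext (Subtype.ext (Units.ext (Matrix.ext fun i j => by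
      exact congrArg (fun A : Matrix.SpecialLinearGroup (Fin 3) K => ((A.1 i j : K) : F)) e)))
    have := Subgroup.card_dvd_of_injective ι hι
    rw [CfsgLib.Classical.card_SL_fin', h4] at this
    simp only [Finset.prod_range_succ, Finset.prod_range_zero] at this
    norm_num1 at this
    exact this
  rw [← Subgroup.card_mul_index f.toHomUnits.ker, Subgroup.index_ker]
  exact (Nat.mul_dvd_mul hker hrange).trans (by norm_num)

end CfsgLib.Dim3Max.Four
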