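import Cfsg.Agent.Lib.Dim3Max.FrobCore

/-!
An elation and a semisimple element with unstable ratios of eigenvalues give a full root group.
-/

set_option autoImplicit false

namespace CfsgLib.Dim3Max

open scoped Matrix MatrixGroups
open CfsgLib.Maximal

universe u

variable {F : Type u} [Field F] {M : Subgroup (GL (Fin 3) F)}

/-- The elements of the prime field are natural numbers. -/
theorem exists_natCast_of_mem_bot [Finite F] {x : F} (hx : x ∈ (⊥ : Subfield F)) : ∃ n : ℕ, (n : F) = x := by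
  obtain ⟨p, hp⟩ := CharP.exists F
  haveI : Fact p.Prime := ⟨CharP.char_is_prime F p⟩
  obtain ⟨z, rfl⟩ := (bot_le : (⊥ : Subfield F) ≤ (ZMod.castHom dvd_rfl F : ZMod p →+* F).fieldRange) hx
  exact ⟨z.val, by simp⟩

/-- An elation generates the root field of the prime field. -/
theorem rootField_bot [Finite F] {c φ : Fin 3 → F} (hc : c ≠ 0) (hφ : φ ≠ 0) (h : Has M c φ) :
    RootField M ⊥ c φ := by
  refine ⟨hc, hφ, fun x hx => ?_⟩
  obtain ⟨n, rfl⟩ := exists_natCast_of_mem_bot hx
  induction n with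
  | zero => simpa using has_of_zero (M := M) (φ := φ) (Or.inl rfl)
  | succ n ih =>
    rw [Nat.cast_succ, add_smul, one_smul]
    exact (ih (natCast_mem _ n)).add_left h

/-- The fixed field of the ninth power contains the enlargement of the field with three elements. -/
theorem exists_nine [Finite F] {L : Subfield F} (hL : Nat.card L = 3) :
    ∃ N : Subfield F, L ≤ N ∧ Nat.card N ≤ 9 ∧ ∀ x : F, (x ∈ N ↔ x ^ 9 = x) := by
  haveI := Fintype.ofFinite F
  haveI := Fintype.ofFinite L
  haveI : Fact (Nat.Prime 3) := ⟨Nat.prime_three⟩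
  have hpow : ∀ x : L, x ^ 3 = x := fun x => by
    conv_lhs => rw [← hL, Nat.card_eq_fintype_card]
    exact FiniteField.pow_card x
  haveI : CharP F 3 := by
    obtain ⟨p, hp⟩ := CharP.exists L
    obtain ⟨n, hpp, hn⟩ := FiniteField.card L p
    have h3 : p ∣ 3 := by
      rw [← hL, Nat.card_eq_fintype_card, hn]; exact dvd_pow_self p n.pos.ne'
    rw [(Nat.prime_dvd_prime_iff_eq hpp Nat.prime_three).1 h3] at hp
    exact (RingHom.charP_iff (L.subtype) Subtype.val_injective 3).1 hp
  refine ⟨(iterateFrobenius F 3 2).eqLocusField (RingHom.id F), fun x hx => ?_, ?_, fun x => ?_⟩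
  · have h1 : x ^ 3 = x := congrArg Subtype.val (hpow ⟨x, hx⟩)
    show iterateFrobenius F 3 2 x = x
    rw [iterateFrobenius_def, pow_succ, pow_one, pow_mul, h1, h1]
  · classical
    set N := (iterateFrobenius F 3 2).eqLocusField (RingHom.id F)
    have hsub : ∀ x : N, (x : F) ∈ ((Polynomial.X ^ 9 - Polynomial.X : Polynomial F).roots.toFinset) := by
      intro x
      have hx : (x : F) ^ 9 = x := by
        have := x.2
        change iterateFrobenius F 3 2 (x : F) = x at this
        rwa [iterateFrobenius_def] at this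
      rw [Multiset.mem_toFinset, Polynomial.mem_roots (FiniteField.X_pow_card_sub_X_ne_zero F (by norm_num))]
      simp [hx]
    calc Nat.card N ≤ Nat.card ↥((Polynomial.X ^ 9 - Polynomial.X : Polynomial F).roots.toFinset) :=
          Nat.card_le_card_of_injective (fun x : N => (⟨(x : F), hsub x⟩ :
            ↥((Polynomial.X ^ 9 - Polynomial.X : Polynomial F).roots.toFinset))) fun a b h => by
              exact Subtype.ext (congrArg (fun z : ↥((Polynomial.X ^ 9 - Polynomial.X : Polynomial F).roots.toFinset) => (z : F)) h)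
      _ ≤ 9 := by
        rw [Nat.card_eq_fintype_card, Fintype.card_coe]
        exact (Multiset.toFinset_card_le _).trans ((Polynomial.card_roots' _).trans
          (le_of_eq (FiniteField.X_pow_card_sub_X_natDegree_eq F (by norm_num))))
  · show iterateFrobenius F 3 2 x = x ↔ _
    rw [iterateFrobenius_def]
    norm_num

/-- A root field of maximal order. -/
theorem exists_max_rootField [Finite F] (h : HasElation M) : ∃ (L : Subfield F) (c φ : Fin 3 → F),
    RootField M L c φ ∧ ∀ (K : Subfield F) (c' φ' : Fin 3 → F), RootField M K c' φ' → Nat.card K ≤ Nat.card L := by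
  classical
  obtain ⟨c, φ, hc, hφ, h⟩ := h
  set S := {n : ℕ | ∃ (K : Subfield F) (c' φ' : Fin 3 → F), RootField M K c' φ' ∧ Nat.card K = n}
  have hne : S.Nonempty := ⟨_, ⊥, c, φ, rootField_bot hc hφ h, rfl⟩
  have hb : BddAbove S := ⟨Nat.card F, by
    rintro n ⟨K, -, -, -, rfl⟩
    exact Nat.card_le_card_of_injective _ Subtype.val_injective⟩
  obtain ⟨L, c', φ', hL, hcard⟩ := Nat.sSup_mem hne hb
  exact ⟨L, c', φ', hL, fun K c'' φ'' hK => hcard ▸ le_csSup hb ⟨K, c'', φ'', hK, rfl⟩⟩

/-- The products lie in the field of the weights, or in the field with nine elements. -/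
theorem exists_field_of_products [Finite F] {L : Subfield F} (hb2 : Nat.card L ≠ 2) (s : ℕ → F)
    (hs : ∀ m, s m ≠ 0 → (Nat.card L = 3 → s m ^ 2 ≠ -1) → s m ∈ L) :
    ∃ N : Subfield F, (∀ m, s m ∈ N) ∧ (N = L ∨ Nat.card L = 3 ∧ Nat.card N = 9) := by
  by_cases hcase : ∀ m, s m ∈ L
  · exact ⟨L, hcase, Or.inl rfl⟩
  push Not at hcase
  obtain ⟨m, hm⟩ := hcase
  obtain ⟨h3, hm2⟩ : Nat.card L = 3 ∧ s m ^ 2 = -1 := by
    by_contra hh
    push Not at hh
    exact hm (hs m (fun h0 => hm (by rw [h0]; exact L.zero_mem)) hh)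
  obtain ⟨N, hLN, hle, hN⟩ := exists_nine h3
  have hmem : ∀ k, s k ∈ N := by
    intro k
    by_cases h0 : s k = 0
    · rw [h0]; exact N.zero_mem
    by_cases h2 : s k ^ 2 = -1
    · rw [hN, show s k ^ 9 = (s k ^ 2) ^ 4 * s k by ring, h2]; ring
    · exact hLN (hs k h0 fun _ => h2)
  refine ⟨N, hmem, Or.inr ⟨h3, ?_⟩⟩
  letI : Algebra L N := (Subfield.inclusion hLN).toAlgebra
  haveI := Fintype.ofFinite L
  haveI := Fintype.ofFinite N
  have hc : Fintype.card N = Fintype.card L ^ Module.finrank L N := Module.card_eq_pow_finrank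
  rw [← Nat.card_eq_fintype_card, ← Nat.card_eq_fintype_card, h3] at hc
  rw [hc] at hle ⊢
  have h1 : Module.finrank L N ≤ 2 := by
    by_contra hlt
    have := Nat.pow_le_pow_right (show 0 < 3 by norm_num) (show 3 ≤ Module.finrank L N by omega)
    omega
  have h2 : 2 ≤ Module.finrank L N := by
    by_contra hlt
    have hlt' : Fintype.card N ≤ Fintype.card L := by
      rw [← Nat.card_eq_fintype_card, ← Nat.card_eq_fintype_card, hc, h3]
      exact (Nat.pow_le_pow_right (show 0 < 3 by norm_num) (show Module.finrank L N ≤ 1 by omega)).trans (le_of_eq (pow_one 3))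
    have hsurj := ((Subfield.inclusion hLN).injective.bijective_of_nat_card_le
      (by rw [Nat.card_eq_fintype_card, Nat.card_eq_fintype_card]; exact hlt')).2 ⟨s m, hmem m⟩
    obtain ⟨y, hy⟩ := hsurj
    have hy' : (y : F) = s m := congrArg Subtype.val hy
    exact hm (hy' ▸ y.2)
  rw [le_antisymm h1 h2]
  norm_num

/-- FULL for one semisimple element, with the condition on the ratios only for fields with three elements and more. -/
theorem cyclic_core [Fintype F] (hroot : FullRootStmt F) (hpair : PairStmt F) (hfour : FourStmt F)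
    (hMS : M ≤ sl3 F) (hirr : Irr M) (hsmall : (2 : F) = 0 → ¬ Nat.card M ∣ 181440) (hel : HasElation M)
    {a : GL (Fin 3) F} (ha : a ∈ M) {K : Type u} [Field K] [Algebra F K] {d : Fin 3 → K} (hd : EigenData a K d)
    (hun : ∀ L : Subfield F, L ≠ ⊤ → 3 ≤ Nat.card L → RatioUnstable d (Nat.card L)) (hmov : MovesFlags M a) :
    sl3 F ≤ M ∨ ((2 : F) = 0 ∧ RankOne M) ∨ Fintype.card F = 9 := by
  obtain ⟨L, c, φ, hL, hmax⟩ := exists_max_rootField hel
  by_cases htop : L = ⊤
  · subst htop
    exact Or.inl (hroot M hirr c φ (fullRoot_iff.2 hL))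
  by_cases hb2 : Nat.card L = 2
  · have h20 : (2 : F) = 0 := by
      haveI := Fintype.ofFinite L
      have h := FiniteField.cast_card_eq_zero L
      rw [← Nat.card_eq_fintype_card, hb2] at h
      have h' := congrArg L.subtype h
      rw [map_natCast, map_zero] at h'
      exact_mod_cast h'
    by_cases hR : RankOne M
    · exact Or.inr (Or.inl ⟨h20, hR⟩)
    · obtain ⟨K', c', φ', h4, hK'⟩ := hfour h20 M hMS hirr hR (hsmall h20)
      have := hmax K' c' φ' hK'
      omega
  have hLpos : 2 ≤ Nat.card L := Finite.one_lt_card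
  have hcφ : Has M c φ := by simpa using hL.2.2 1 L.one_mem
  have hmove : ∀ m : ℕ, flagProd (a ^ m) c φ ≠ 0 →
      (Nat.card L = 3 → flagProd (a ^ m) c φ ^ 2 ≠ -1) → flagProd (a ^ m) c φ ∈ L := by
    intro m hm0 hm3
    have hg : a ^ m ∈ M := pow_mem ha m
    have hconj := hcφ.conj hg
    have hξ : φ ⬝ᵥ (((a ^ m : GL (Fin 3) F) : Matrix (Fin 3) (Fin 3) F) *ᵥ c) *
        ((φ ᵥ* (((a ^ m)⁻¹ : GL (Fin 3) F) : Matrix (Fin 3) (Fin 3) F)) ⬝ᵥ c) = flagProd (a ^ m) c φ := by
      rw [← Matrix.dotProduct_mulVec]; rfl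
    have henl := hpair M L c φ _ _ hL hconj (by rw [hξ]; exact hm0) hb2 (fun h3 => by rw [hξ]; exact hm3 h3)
    rw [hξ] at henl
    have hcard := hmax _ _ _ henl
    have hle : L ≤ Subfield.closure (↑L ∪ {flagProd (a ^ m) c φ}) := fun y hy =>
      Subfield.subset_closure (Or.inl hy)
    have heq : L = Subfield.closure (↑L ∪ {flagProd (a ^ m) c φ}) :=
      SetLike.coe_injective (Set.eq_of_subset_of_ncard_le hle
        (by rw [← Nat.card_coe_set_eq, ← Nat.card_coe_set_eq]; exact hcard) (Set.toFinite _))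
    rw [heq]
    exact Subfield.subset_closure (Or.inr rfl)
  obtain ⟨m, hm⟩ := hmov c φ hL.1 hL.2.1 hcφ
  obtain ⟨N, hN, hNL⟩ := exists_field_of_products hb2 (fun m => flagProd (a ^ m) c φ) hmove
  by_cases hNtop : N = ⊤
  · rcases hNL with hNL | ⟨-, h9⟩
    · exact absurd (hNL ▸ hNtop) htop
    · refine Or.inr (Or.inr ?_)
      rw [hNtop] at h9
      rwa [← Nat.card_eq_fintype_card, ← Nat.card_congr Subfield.topEquiv.toEquiv]
  have hN3 : 3 ≤ Nat.card N := by rcases hNL with rfl | ⟨-, h9⟩ <;> omega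
  obtain ⟨i, j, k, l, hij, he⟩ := ratio_stable hd hcφ.dot N hN ⟨m, hm⟩
  exact absurd he (hun N hNtop hN3 i j k l hij)

/-- FULL for one semisimple element. -/
theorem cyclicStmt [Fintype F] (hroot : FullRootStmt F) (hpair : PairStmt F) (hfour : FourStmt F) : CyclicStmt F :=
  fun _ hMS hirr hsmall hel _ ha _ _ _ _ hd hun hmov =>
    cyclic_core hroot hpair hfour hMS hirr hsmall hel ha hd (fun L hL _ => hun L hL) hmov

/-- The quadratic sum of the eigen-coordinates is not zero at all roots of unity of a large enough order. -/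
theorem exists_pow_sum_ne_zero {K : Type*} [Field K] {v : K} {n : ℕ} (hv : orderOf v = n) (hn : 5 ≤ n)
    (x₀ x₁ x₂ : K) (hx : x₀ ≠ 0 ∨ x₁ ≠ 0 ∨ x₂ ≠ 0) :
    ∃ m : ℕ, (x₀ * v ^ m + x₁ + x₂ / v ^ m) * (x₀ / v ^ m + x₁ + x₂ * v ^ m) ≠ 0 := by
  classical
  by_contra hcon
  push Not at hcon
  have hv0 : v ≠ 0 := by
    rintro rfl
    rw [orderOf_eq_zero (by rw [isOfFinOrder_iff_pow_eq_one]; push Not; intro k hk; simp [hk.ne'])] at hv
    omega
  set P : Polynomial K := Polynomial.C x₀ * Polynomial.X ^ 2 + Polynomial.C x₁ * Polynomial.X + Polynomial.C x₂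
  set Q : Polynomial K := Polynomial.C x₂ * Polynomial.X ^ 2 + Polynomial.C x₁ * Polynomial.X + Polynomial.C x₀
  have hP : P ≠ 0 := fun h => by
    have h2 := congrArg (Polynomial.coeff · 2) h
    have h1 := congrArg (Polynomial.coeff · 1) h
    have h0 := congrArg (Polynomial.coeff · 0) h
    simp [P] at h2 h1 h0
    simp [h2, h1, h0] at hx
  have hQ : Q ≠ 0 := fun h => by
    have h2 := congrArg (Polynomial.coeff · 2) h
    have h1 := congrArg (Polynomial.coeff · 1) h
    have h0 := congrArg (Polynomial.coeff · 0) h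
    simp [Q] at h2 h1 h0
    simp [h2, h1, h0] at hx
  have hroot : ∀ m : ℕ, v ^ m ∈ (P * Q).roots.toFinset := by
    intro m
    rw [Multiset.mem_toFinset, Polynomial.mem_roots (mul_ne_zero hP hQ), Polynomial.IsRoot, Polynomial.eval_mul]
    have h0 : (v ^ m) ≠ 0 := pow_ne_zero _ hv0
    have := hcon m
    rcases mul_eq_zero.1 this with h | h
    · refine mul_eq_zero.2 (Or.inl ?_)
      field_simp at h
      simp [P]
      linear_combination h
    · refine mul_eq_zero.2 (Or.inr ?_)
      field_simp at h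
      simp [Q]
      linear_combination h
  have hsub : (Finset.range n).image (fun m => v ^ m) ⊆ (P * Q).roots.toFinset := fun y hy => by
    obtain ⟨m, -, rfl⟩ := Finset.mem_image.1 hy
    exact hroot m
  have hc := Finset.card_le_card hsub
  rw [Finset.card_image_of_injOn (fun a ha b hb hab => pow_injOn_Iio_orderOf
    (by rw [hv]; simpa using ha) (by rw [hv]; simpa using hb) hab), Finset.card_range] at hc
  have hdeg : (P * Q).natDegree ≤ 4 := by
    refine Polynomial.natDegree_mul_le.trans ?_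
    have hP2 : P.natDegree ≤ 2 := by simp only [P]; compute_degree
    have hQ2 : Q.natDegree ≤ 2 := by simp only [Q]; compute_degree
    omega
  have := (Multiset.toFinset_card_le _).trans (Polynomial.card_roots' (P * Q))
  omega

/-- The ratios of `(v, 1, v⁻¹)` other than one are moved out by a power of exponent `b`. -/
theorem ratioUnstable_three {K : Type u} [Field K] {v : K} {n b : ℕ} (hv : orderOf v = n) (hb : 3 ≤ b)
    (hn : 2 * b + 2 < n) : RatioUnstable ![v, 1, v⁻¹] b := by
  have hv0 : v ≠ 0 := by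
    rintro rfl
    rw [orderOf_eq_zero (by rw [isOfFinOrder_iff_pow_eq_one]; push Not; intro k hk; simp [hk.ne'])] at hv
    omega
  let e : Fin 3 → ℤ := ![1, 0, -1]
  have hd : ∀ i, (![v, 1, v⁻¹] : Fin 3 → K) i = v ^ e i := fun i => by fin_cases i <;> simp [e]
  have he : ∀ i, -1 ≤ e i ∧ e i ≤ 1 := fun i => by fin_cases i <;> simp [e]
  intro i j k l hij heq
  rw [hd, hd] at hij
  have hne : e i - e j ≠ 0 := fun h => hij (by rw [sub_eq_zero.1 h])
  rw [hd, hd, hd, hd, ← zpow_sub₀ hv0, ← zpow_sub₀ hv0, ← zpow_natCast, ← zpow_mul] at heq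
  have hu : orderOf (Units.mk0 v hv0) = n := by rw [← orderOf_units, Units.val_mk0, hv]
  have h1 : (Units.mk0 v hv0) ^ ((e i - e j) * (b : ℤ) - (e k - e l)) = 1 := by
    rw [zpow_sub, mul_inv_eq_one]
    refine Units.ext ?_
    simpa using heq
  have hdvd := orderOf_dvd_iff_zpow_eq_one.2 h1
  rw [hu] at hdvd
  obtain ⟨hi1, hi2⟩ := he i
  obtain ⟨hj1, hj2⟩ := he j
  obtain ⟨hk1, hk2⟩ := he k
  obtain ⟨hl1, hl2⟩ := he l
  have hb' : (3 : ℤ) ≤ b := by exact_mod_cast hb
  have hn' : 2 * (b : ℤ) + 2 < n := by exact_mod_cast hn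
  have hX : (e i - e j) * (b : ℤ) - (e k - e l) = 0 := by
    refine Int.eq_zero_of_abs_lt_dvd hdvd (abs_lt.2 ⟨?_, ?_⟩) <;> nlinarith
  rcases lt_or_gt_of_ne hne with hneg | hpos <;> nlinarith

/-- FULL for the split torus. -/
theorem splitStmt [Fintype F] (hroot : FullRootStmt F) (hpair : PairStmt F) (hfour : FourStmt F) : SplitStmt F := by
  intro hq M hMS hirr g hT hsmall hel hoff
  by_cases hp : (Fintype.card F).Prime
  · refine Or.inl ?_
    obtain ⟨c, φ, hc, hφ, h⟩ := hel
    refine hroot M hirr c φ ⟨hc, hφ, fun x => (rootField_bot hc hφ h).2.2 x ?_⟩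
    haveI : Fact (Nat.card F).Prime := ⟨by rwa [Nat.card_eq_fintype_card]⟩
    obtain ⟨k, hk⟩ := (AddSubmonoid.mem_multiples_iff _ _).1
      (mem_multiples_of_prime_card (p := Nat.card F) rfl (one_ne_zero : (1 : F) ≠ 0) (g' := x))
    rw [← hk, nsmul_eq_mul, mul_one]
    exact natCast_mem _ k
  classical
  obtain ⟨u, hu⟩ := IsCyclic.exists_ofOrder_eq_natCard (α := Fˣ)
  have hn : orderOf (u : F) = Fintype.card F - 1 := by
    rw [orderOf_units, hu, Nat.card_eq_fintype_card, Fintype.card_units]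
  have hu0 : (u : F) ≠ 0 := u.ne_zero
  obtain ⟨a, ha, hag⟩ := hT ![(u : F), 1, (u : F)⁻¹] (by simp)
  have hd : EigenData a F ![(u : F), 1, (u : F)⁻¹] := ⟨g, by simpa using hag⟩
  by_cases h9 : Fintype.card F = 9
  · exact Or.inr (Or.inr h9)
  refine cyclic_core hroot hpair hfour hMS hirr hsmall hel ha hd (fun L hL h3 => ?_) ?_
  · refine ratioUnstable_three hn h3 ?_
    haveI := Fintype.ofFinite L
    have hc : Fintype.card F = Fintype.card L ^ Module.finrank L F := Module.card_eq_pow_finrank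
    rw [← Nat.card_eq_fintype_card (α := L)] at hc
    have h2 : 2 ≤ Module.finrank L F := by
      by_contra hlt
      refine hL (SetLike.coe_injective (Set.eq_of_subset_of_ncard_le (Set.subset_univ _) ?_ Set.finite_univ))
      rw [show ((⊤ : Subfield F) : Set F) = Set.univ from Subfield.coe_top, Set.ncard_univ, ← Nat.card_coe_set_eq,
        Nat.card_eq_fintype_card (α := F), hc]
      exact (Nat.pow_le_pow_right (by omega) (show Module.finrank L F ≤ 1 by omega)).trans (le_of_eq (pow_one _))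
    have hsq : Nat.card L ^ 2 ≤ Fintype.card F := hc ▸ Nat.pow_le_pow_right (by omega) h2
    rcases eq_or_lt_of_le h3 with hb | hb
    · rcases eq_or_lt_of_le h2 with hf | hf
      · exact absurd (by rw [hc, ← hb, ← hf]; norm_num) h9
      · have : 3 ^ 3 ≤ Fintype.card F := by rw [hc, ← hb]; exact Nat.pow_le_pow_right (by norm_num) hf
        omega
    · have : 4 * Nat.card L ≤ Nat.card L ^ 2 := by rw [sq]; exact Nat.mul_le_mul_right _ hb
      omega
  · intro c φ hc hφ h
    obtain ⟨i, hi⟩ := hoff c φ hc hφ h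
    have h5 : 5 ≤ Fintype.card F - 1 := by
      rcases eq_or_lt_of_le hq with h | h
      · exact absurd (h ▸ (by norm_num)) hp
      · omega
    set x := fun i => (φ ᵥ* (g : Matrix (Fin 3) (Fin 3) F)) i *
      (((g⁻¹ : GL (Fin 3) F) : Matrix (Fin 3) (Fin 3) F) *ᵥ c) i with hx
    obtain ⟨m, hm⟩ := exists_pow_sum_ne_zero hn h5 (x 0) (x 1) (x 2) (by fin_cases i <;> simp_all)
    refine ⟨m, ?_⟩
    have hgen : ∀ k : ℤ, φ ⬝ᵥ (((a ^ k : GL (Fin 3) F) : Matrix (Fin 3) (Fin 3) F) *ᵥ c) =
        x 0 * (u : F) ^ k + x 1 + x 2 / (u : F) ^ k := by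
      intro k
      have hunit : IsUnit (Matrix.diagonal ![(u : F), 1, (u : F)⁻¹]) := by
        rw [Matrix.isUnit_diagonal, Pi.isUnit_iff]
        intro j; fin_cases j <;> simp
      set D : GL (Fin 3) F := hunit.unit
      have hak : a = g * D * g⁻¹ := by
        rw [eq_mul_inv_iff_mul_eq]
        exact Units.ext hag
      have hDk : ((D ^ k : GL (Fin 3) F) : Matrix (Fin 3) (Fin 3) F) =
          Matrix.diagonal ![(u : F) ^ k, 1, ((u : F) ^ k)⁻¹] := by
        induction k with
        | zero =>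
          rw [zpow_zero, Units.val_one, ← Matrix.diagonal_one]
          congr 1; funext j; fin_cases j <;> simp
        | succ k ih =>
          rw [zpow_add_one, Units.val_mul, ih, show (D : Matrix (Fin 3) (Fin 3) F) = _ from hunit.unit_spec,
            Matrix.diagonal_mul_diagonal]
          congr 1; funext j; fin_cases j <;> simp [zpow_add_one₀ hu0, mul_comm]
        | pred k ih =>
          have hDi : ((D⁻¹ : GL (Fin 3) F) : Matrix (Fin 3) (Fin 3) F) = Matrix.diagonal ![(u : F)⁻¹, 1, (u : F)] := by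
            refine Units.inv_eq_of_mul_eq_one_left ?_
            rw [show (D : Matrix (Fin 3) (Fin 3) F) = _ from hunit.unit_spec, Matrix.diagonal_mul_diagonal,
              ← Matrix.diagonal_one]
            congr 1; funext j; fin_cases j <;> simp [hu0]
          rw [zpow_sub_one, Units.val_mul, ih, hDi, Matrix.diagonal_mul_diagonal]
          congr 1; funext j; fin_cases j <;> simp [zpow_sub_one₀ hu0, mul_comm]
      rw [hak, conj_zpow, Units.val_mul, Units.val_mul, hDk, ← Matrix.mulVec_mulVec, ← Matrix.mulVec_mulVec,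
        Matrix.dotProduct_mulVec, dotProduct, Fin.sum_univ_three]
      simp only [Matrix.mulVec_diagonal, hx]
      simp
      ring
    have e1 := hgen (m : ℤ)
    have e2 := hgen (-(m : ℤ))
    rw [zpow_natCast] at e1
    rw [zpow_neg, zpow_natCast] at e2
    rw [e1, e2]
    simpa [zpow_natCast, div_inv_eq_mul, div_eq_mul_inv] using hm

end CfsgLib.Dim3Max
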