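import Cfsg.Agent.Lib.Dim3Max.Calc

/-!
The products of an elation with its conjugates under a semisimple element and the Frobenius map of their field.
-/

set_option autoImplicit false

namespace CfsgLib.Dim3Max

open scoped Matrix MatrixGroups
open CfsgLib.Maximal Polynomial

universe u

variable {F : Type u} [Field F]

/-- Distinct geometric sequences are independent. -/
theorem coef_eq_zero {K : Type*} [Field K] [DecidableEq K] {ι : Type*} (S : Finset ι) (y ρ : ι → K)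
    (h : ∀ m : ℕ, ∑ p ∈ S, y p * ρ p ^ m = 0) (v : K) : ∑ p ∈ S with ρ p = v, y p = 0 := by
  classical
  set P : K[X] := ∏ w ∈ (S.image ρ).erase v, (X - C w)
  have h0 : ∑ p ∈ S, y p * P.eval (ρ p) = 0 := by
    simp only [eval_eq_sum_range, Finset.mul_sum]
    rw [Finset.sum_comm]
    refine Finset.sum_eq_zero fun m _ => ?_
    simp_rw [show ∀ p, y p * (P.coeff m * ρ p ^ m) = P.coeff m * (y p * ρ p ^ m) from fun p => by ring]
    rw [← Finset.mul_sum, h, mul_zero]
  have h1 : ∑ p ∈ S, y p * P.eval (ρ p) = ∑ p ∈ S with ρ p = v, y p * P.eval v := by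
    rw [← Finset.sum_filter_add_sum_filter_not S (fun p => ρ p = v), add_eq_left.2 ?_]
    · exact Finset.sum_congr rfl fun p hp => by rw [(Finset.mem_filter.1 hp).2]
    · refine Finset.sum_eq_zero fun p hp => ?_
      obtain ⟨hpS, hpv⟩ := Finset.mem_filter.1 hp
      rw [eval_prod, Finset.prod_eq_zero (Finset.mem_erase.2 ⟨hpv, Finset.mem_image_of_mem ρ hpS⟩) (by simp),
        mul_zero]
  rw [h0, ← Finset.sum_mul] at h1
  refine (mul_eq_zero.1 h1.symm).resolve_right ?_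
  rw [eval_prod, Finset.prod_eq_zero_iff]
  rintro ⟨w, hw, he⟩
  exact (Finset.mem_erase.1 hw).1 (by simpa [sub_eq_zero, eq_comm] using he)

/-- The product of the elation `(c, φ)` and its conjugate by `g`. -/
def flagProd (g : GL (Fin 3) F) (c φ : Fin 3 → F) : F :=
  (φ ⬝ᵥ ((g : Matrix (Fin 3) (Fin 3) F) *ᵥ c)) *
    (φ ⬝ᵥ (((g⁻¹ : GL (Fin 3) F) : Matrix (Fin 3) (Fin 3) F) *ᵥ c))

/-- The products are an exponential sum in the ratios of the eigenvalues. -/
theorem flagProd_pow {a : GL (Fin 3) F} {K : Type u} [Field K] [Algebra F K] {d : Fin 3 → K}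
    (hd : EigenData a K d) (c φ : Fin 3 → F) :
    (∀ i, d i ≠ 0) ∧ ∃ x : Fin 3 → K, ∀ m : ℕ, algebraMap F K (flagProd (a ^ m) c φ) =
      ∑ i, ∑ j, x i * x j * (d i / d j) ^ m := by
  obtain ⟨g, hg⟩ := hd
  set f := algebraMap F K
  set A : GL (Fin 3) K := Matrix.GeneralLinearGroup.map f a
  have hA : (A : Matrix (Fin 3) (Fin 3) K) = (a : Matrix (Fin 3) (Fin 3) F).map f := rfl
  have hdiag : (Matrix.diagonal d : Matrix (Fin 3) (Fin 3) K) =
      ((g⁻¹ * A * g : GL (Fin 3) K) : Matrix (Fin 3) (Fin 3) K) := by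
    rw [Units.val_mul, Units.val_mul, mul_assoc, hA, hg, ← mul_assoc, ← Units.val_mul, inv_mul_cancel,
      Units.val_one, one_mul]
  have hd0 : ∀ i, d i ≠ 0 := by
    intro i hi
    have := (g⁻¹ * A * g).isUnit.map (Matrix.detMonoidHom)
    rw [← hdiag] at this
    simp [Finset.prod_eq_zero (Finset.mem_univ i) hi] at this
  set D : GL (Fin 3) K := g⁻¹ * A * g
  have hpos : ∀ m : ℕ, ((A ^ m : GL (Fin 3) K) : Matrix (Fin 3) (Fin 3) K) =
      (g : Matrix (Fin 3) (Fin 3) K) * Matrix.diagonal (d ^ m) * ((g⁻¹ : GL (Fin 3) K) : Matrix (Fin 3) (Fin 3) K) := by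
    intro m
    rw [show A ^ m = g * D ^ m * g⁻¹ by rw [← conj_pow]; simp [D, mul_assoc], Units.val_mul, Units.val_mul,
      Units.val_pow_eq_pow_val, ← hdiag, Matrix.diagonal_pow]
  have hneg : ∀ m : ℕ, (((A ^ m)⁻¹ : GL (Fin 3) K) : Matrix (Fin 3) (Fin 3) K) =
      (g : Matrix (Fin 3) (Fin 3) K) * Matrix.diagonal ((d ^ m)⁻¹) *
        ((g⁻¹ : GL (Fin 3) K) : Matrix (Fin 3) (Fin 3) K) := by
    intro m
    refine Units.inv_eq_of_mul_eq_one_left ?_
    rw [hpos]
    calc (g : Matrix (Fin 3) (Fin 3) K) * Matrix.diagonal ((d ^ m)⁻¹) * ((g⁻¹ : GL (Fin 3) K) : Matrix (Fin 3) (Fin 3) K) *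
          ((g : Matrix (Fin 3) (Fin 3) K) * Matrix.diagonal (d ^ m) * ((g⁻¹ : GL (Fin 3) K) : Matrix (Fin 3) (Fin 3) K))
        = (g : Matrix (Fin 3) (Fin 3) K) * (Matrix.diagonal ((d ^ m)⁻¹) *
            (((g⁻¹ : GL (Fin 3) K) : Matrix (Fin 3) (Fin 3) K) * (g : Matrix (Fin 3) (Fin 3) K)) * Matrix.diagonal (d ^ m)) *
            ((g⁻¹ : GL (Fin 3) K) : Matrix (Fin 3) (Fin 3) K) := by simp only [mul_assoc]
      _ = 1 := by
        rw [← Units.val_mul, inv_mul_cancel, Units.val_one, mul_one, Matrix.diagonal_mul_diagonal]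
        have : (fun i => ((d ^ m)⁻¹) i * (d ^ m) i) = fun _ => (1 : K) := funext fun i => by
          simp [inv_mul_cancel₀ (pow_ne_zero m (hd0 i))]
        rw [this, Matrix.diagonal_one, mul_one, ← Units.val_mul, mul_inv_cancel, Units.val_one]
  refine ⟨hd0, fun i => ((f ∘ φ) ᵥ* (g : Matrix (Fin 3) (Fin 3) K)) i *
    (((g⁻¹ : GL (Fin 3) K) : Matrix (Fin 3) (Fin 3) K) *ᵥ (f ∘ c)) i, fun m => ?_⟩
  have hmap : ∀ h : GL (Fin 3) F, f (φ ⬝ᵥ ((h : Matrix (Fin 3) (Fin 3) F) *ᵥ c)) =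
      (f ∘ φ) ⬝ᵥ (((Matrix.GeneralLinearGroup.map f h : GL (Fin 3) K) : Matrix (Fin 3) (Fin 3) K) *ᵥ (f ∘ c)) := by
    intro h
    rw [RingHom.map_dotProduct]
    congr 1
    funext i
    exact RingHom.map_mulVec f _ c i
  have hev : ∀ e : Fin 3 → K, (f ∘ φ) ⬝ᵥ (((g : Matrix (Fin 3) (Fin 3) K) * Matrix.diagonal e *
      ((g⁻¹ : GL (Fin 3) K) : Matrix (Fin 3) (Fin 3) K)) *ᵥ (f ∘ c)) =
      ∑ i, ((f ∘ φ) ᵥ* (g : Matrix (Fin 3) (Fin 3) K)) i *
        (((g⁻¹ : GL (Fin 3) K) : Matrix (Fin 3) (Fin 3) K) *ᵥ (f ∘ c)) i * e i := by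
    intro e
    rw [← Matrix.mulVec_mulVec, ← Matrix.mulVec_mulVec, Matrix.dotProduct_mulVec, dotProduct]
    simp only [Matrix.mulVec_diagonal]
    exact Finset.sum_congr rfl fun i _ => by ring
  rw [flagProd, map_mul, hmap, hmap, map_inv, map_pow, hpos, hneg, hev, hev, Finset.sum_mul_sum]
  refine Finset.sum_congr rfl fun i _ => Finset.sum_congr rfl fun j _ => ?_
  simp only [Pi.pow_apply, Pi.inv_apply, div_pow]
  ring

theorem flagProd_one {c φ : Fin 3 → F} (h : φ ⬝ᵥ c = 0) : flagProd 1 c φ = 0 := by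
  simp [flagProd, h]

/-- Products in a subfield make the `b`th power permute some ratios of eigenvalues. -/
theorem ratio_stable [Finite F] {a : GL (Fin 3) F} {K : Type u} [Field K] [Algebra F K] {d : Fin 3 → K}
    (hd : EigenData a K d) {c φ : Fin 3 → F} (h0 : φ ⬝ᵥ c = 0) (L : Subfield F)
    (hL : ∀ m : ℕ, flagProd (a ^ m) c φ ∈ L) (hne : ∃ m : ℕ, flagProd (a ^ m) c φ ≠ 0) :
    ∃ i j k l, d i ≠ d j ∧ (d i / d j) ^ Nat.card L = d k / d l := by
  classical
  by_contra hcon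
  push Not at hcon
  obtain ⟨hd0, x, hx⟩ := flagProd_pow hd c φ
  obtain ⟨p, hp⟩ := CharP.exists F
  haveI := hp
  haveI : Fact p.Prime := ⟨CharP.char_is_prime F p⟩
  haveI : CharP K p := charP_of_injective_algebraMap (algebraMap F K).injective p
  haveI := Fintype.ofFinite L
  haveI : CharP L p := (RingHom.charP_iff (L.subtype) Subtype.val_injective p).2 hp
  obtain ⟨n, -, hn⟩ := FiniteField.card L p
  set b := Nat.card L with hb
  have hbp : b = p ^ (n : ℕ) := by rw [hb, Nat.card_eq_fintype_card, hn]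
  set y : Fin 3 × Fin 3 → K := fun e => x e.1 * x e.2
  set ρ : Fin 3 × Fin 3 → K := fun e => d e.1 / d e.2
  have hs : ∀ m : ℕ, algebraMap F K (flagProd (a ^ m) c φ) = ∑ e, y e * ρ e ^ m := fun m => by
    rw [hx, Fintype.sum_prod_type]
  have hfix : ∀ m : ℕ, ∑ e, y e ^ b * (ρ e ^ b) ^ m = ∑ e, y e * ρ e ^ m := by
    intro m
    have e1 : flagProd (a ^ m) c φ ^ b = flagProd (a ^ m) c φ := by
      have := congrArg Subtype.val (FiniteField.pow_card (⟨_, hL m⟩ : L))
      rwa [SubmonoidClass.coe_pow, ← Nat.card_eq_fintype_card] at this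
    rw [← hs]
    conv_rhs => rw [← e1, map_pow, hs, hbp, sum_pow_char_pow]
    refine Finset.sum_congr rfl fun e _ => ?_
    simp only [y, hbp, mul_pow, ← pow_mul, mul_comm (p ^ (n : ℕ)) m]
  have hzero : ∀ v, v ≠ 1 → ∑ e with ρ e = v, y e = 0 := by
    intro v hv
    by_cases hmem : ∀ e, ρ e ≠ v
    · rw [Finset.filter_false_of_mem fun e _ => hmem e, Finset.sum_empty]
    push Not at hmem
    obtain ⟨⟨i, j⟩, rfl⟩ := hmem
    have hij : d i ≠ d j := fun h => hv (by simp [ρ, h, hd0 j])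
    have key := coef_eq_zero (Finset.univ : Finset ((Fin 3 × Fin 3) ⊕ (Fin 3 × Fin 3)))
      (Sum.elim (fun e => y e ^ b) (fun e => -y e)) (Sum.elim (fun e => ρ e ^ b) ρ) (fun m => by
        rw [Fintype.sum_sum_type]
        simp only [Sum.elim_inl, Sum.elim_inr, neg_mul, Finset.sum_neg_distrib, hfix m, add_neg_cancel])
      (ρ (i, j) ^ b)
    rw [Finset.sum_filter, Fintype.sum_sum_type] at key
    simp only [Sum.elim_inl, Sum.elim_inr] at key
    have hnot : ∀ e : Fin 3 × Fin 3, ρ e ≠ ρ (i, j) ^ b := fun e => (hcon i j e.1 e.2 hij).symm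
    simp only [hnot, if_false, Finset.sum_const_zero, add_zero] at key
    have hinj : ∀ e, (ρ e ^ b = ρ (i, j) ^ b) ↔ ρ e = ρ (i, j) := fun e => by
      rw [hbp]
      exact (iterateFrobenius_inj K p n).eq_iff
    simp only [hinj] at key
    rw [← Finset.sum_filter, hbp, ← sum_pow_char_pow] at key
    exact eq_zero_of_pow_eq_zero key
  obtain ⟨m, hm⟩ := hne
  apply hm
  have h00 : flagProd (a ^ 0) c φ = 0 := by rw [pow_zero]; exact flagProd_one h0
  have hdiff : algebraMap F K (flagProd (a ^ m) c φ) = algebraMap F K (flagProd (a ^ 0) c φ) := by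
    rw [hs, hs, ← sub_eq_zero, ← Finset.sum_sub_distrib,
      ← Finset.sum_fiberwise_of_maps_to (t := Finset.univ.image ρ) (g := ρ) (fun e he => Finset.mem_image_of_mem ρ he)]
    refine Finset.sum_eq_zero fun v _ => ?_
    rw [Finset.sum_congr rfl (g := fun e => y e * (v ^ m - 1)) fun e he => by
      rw [(Finset.mem_filter.1 he).2, pow_zero, mul_one, mul_sub, mul_one], ← Finset.sum_mul]
    by_cases hv : v = 1
    · simp [hv]
    · rw [hzero v hv, zero_mul]
  rw [h00] at hdiff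
  exact (algebraMap F K).injective hdiff

end CfsgLib.Dim3Max
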