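import Cfsg.Agent.Lib.ThreeTransp.SL2
import Cfsg.Agent.Lib.PSL2.DicksonGen

/-! A root field and one opposite element in `SL₂`. -/

set_option autoImplicit false
set_option linter.unusedSectionVars false
set_option linter.style.haveILetI false

namespace CfsgLib.Dim3Max

open Matrix CfsgLib.ThreeTransp CfsgLib.PSL2 CfsgLib.PSL2.Gen

variable {F : Type*} [Field F] [Fintype F]

local notation "SL2" => Matrix.SpecialLinearGroup (Fin 2) F

/-- A root field with four elements at least and an opposite element generate, in characteristic two. -/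
theorem sl2_top_two [CharP F 2] {F₀ : Subfield F}
    {G : Subgroup SL2} {δ : F} (hgen : Subfield.closure ((F₀ : Set F) ∪ {δ}) = ⊤) (hδ : δ ≠ 0)
    (hb : Nat.card F₀ ≠ 2) (hU : ∀ c ∈ F₀, sl2U F c ∈ G) (hL1 : sl2L F δ ∈ G) : G = ⊤ := by
  obtain ⟨s, hsK, hs0, hs1⟩ : ∃ s ∈ F₀, s ≠ 0 ∧ s ≠ 1 := by
    by_contra hcon
    push Not at hcon
    apply hb
    rw [show Nat.card F₀ = Set.ncard ({0, 1} : Set F) by
      rw [← Nat.card_coe_set_eq]
      refine Nat.card_congr (Equiv.setCongr (Set.Subset.antisymm (fun x hx => ?_) ?_))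
      · rcases eq_or_ne x 0 with h | h
        · exact Or.inl h
        · exact Or.inr (hcon x hx h)
      · rintro x (rfl | rfl)
        · exact F₀.zero_mem
        · exact F₀.one_mem,
      Set.ncard_pair zero_ne_one]
  have hUs : sl2U F s ∈ G := hU s hsK
  classical
  haveI : Fact (Nat.Prime 2) := ⟨Nat.prime_two⟩
  have h2 : (2 : F) = 0 := CharP.cast_eq_zero F 2
  set π : SL2 →* Matrix.ProjectiveSpecialLinearGroup (Fin 2) F :=
    QuotientGroup.mk' (Subgroup.center SL2) with hπ
  have hπi : Function.Injective π := by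
    refine (injective_iff_map_eq_one π).2 fun x hx => Subtype.ext ?_
    rcases psl_mk_eq_one_iff.1 hx with h | h
    · exact h
    · rw [h]
      ext i j
      fin_cases i <;> fin_cases j <;> simp [CharTwo.neg_eq]
  set H := G.map π with hH
  let eH : G ≃* H := G.equivMapOfInjective π hπi
  have hcard : Nat.card H = Nat.card G := (Nat.card_congr eH.toEquiv).symm
  -- four commuting transvections
  have h4 : 4 ∣ Nat.card G := by
    let A : AddSubgroup F :=
      { carrier := {r | sl2U F r ∈ G}
        zero_mem' := hU 0 F₀.zero_mem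
        add_mem' := fun {a b} ha hb => by
          show sl2U F (a + b) ∈ G
          rw [← sl2U_mul]; exact mul_mem ha hb
        neg_mem' := fun {a} ha => by simpa [CharTwo.neg_eq] using ha }
    let φ : Multiplicative A →* G :=
      { toFun := fun r => ⟨sl2U F (Multiplicative.toAdd r).1, (Multiplicative.toAdd r).2⟩
        map_one' := Subtype.ext (sl2U_zero F)
        map_mul' := fun r r' => Subtype.ext (sl2U_mul F _ _).symm }
    have hφ : Function.Injective φ := fun r r' h => by
      have := congrArg (fun m : G => (m.1 : Matrix (Fin 2) (Fin 2) F) 0 1) h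
      exact Multiplicative.toAdd.injective (Subtype.ext (by simpa [φ, sl2U_val] using this))
    have hA : Nat.card A ∣ Nat.card G := by
      have := Subgroup.card_dvd_of_injective φ hφ
      rwa [show Nat.card (Multiplicative A) = Nat.card A from Nat.card_congr Multiplicative.toAdd] at this
    obtain ⟨n, -, hn⟩ := FiniteField.card F 2
    have hAF : Nat.card A ∣ 2 ^ (n : ℕ) := by
      rw [← hn, ← Nat.card_eq_fintype_card]; exact A.card_addSubgroup_dvd_card
    obtain ⟨m, -, hm⟩ := (Nat.dvd_prime_pow Nat.prime_two).1 hAF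
    have h3 : 3 ≤ Nat.card A := by
      let f : Fin 3 → A := ![⟨0, A.zero_mem⟩, ⟨1, hU 1 F₀.one_mem⟩, ⟨s, hUs⟩]
      have hf : Function.Injective f := by
        intro i j h
        fin_cases i <;> fin_cases j <;>
          simp_all [f, hs0.symm, hs1.symm, Subtype.ext_iff]
      simpa using Nat.card_le_card_of_injective f hf
    refine dvd_trans ?_ hA
    rw [hm] at h3 ⊢
    rw [show 4 = 2 ^ 2 by norm_num]
    refine pow_dvd_pow 2 ?_
    by_contra hlt
    interval_cases m <;> simp at h3
  have hdvd : 2 ∣ Nat.card H := hcard ▸ dvd_trans (by norm_num) h4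
  have htr : ∀ c : F, sl2U F c ∈ G →
      ∃ g ∈ G, (g : Matrix (Fin 2) (Fin 2) F).trace = c * δ := by
    intro c hc
    refine ⟨sl2U F c * sl2L F δ, mul_mem hc hL1, ?_⟩
    simp [Matrix.SpecialLinearGroup.coe_mul, Matrix.trace_fin_two, Matrix.mul_apply, Fin.sum_univ_two,
      sl2U_val, sl2L_val]
    linear_combination h2
  haveI : Finite (Matrix.ProjectiveSpecialLinearGroup (Fin 2) F) := Quotient.finite _
  cases dickson_psl (p := 2) H with
  | cyclic _ hp => exact absurd hdvd hp
  | dihedral r _ k _ _ hp hc _ =>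
    rw [← hcard, hc, show 4 = 2 * 2 by norm_num] at h4
    exact absurd (Nat.dvd_of_mul_dvd_mul_left (by norm_num) h4) hp
  | tetra hp _ => exact absurd hdvd hp
  | octa hp _ => exact absurd hdvd hp
  | icosa hp _ =>
    rcases hp with hp | hp
    · exact absurd hdvd hp
    · exact absurd hp (by norm_num)
  | borel P _ hle =>
    exfalso
    have hPmem : ∀ x ∈ Subgroup.normalizer ((P : Subgroup (Matrix.ProjectiveSpecialLinearGroup (Fin 2) F)) :
        Set (Matrix.ProjectiveSpecialLinearGroup (Fin 2) F)), x ^ 2 = 1 →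
        x ∈ (P : Subgroup (Matrix.ProjectiveSpecialLinearGroup (Fin 2) F)) := by
      intro x hxN hxp
      have hz : IsPGroup 2 (Subgroup.zpowers x) := by
        rintro ⟨y, n, rfl⟩
        refine ⟨1, Subtype.ext ?_⟩
        simp only [pow_one, SubmonoidClass.coe_pow, OneMemClass.coe_one]
        rw [← zpow_natCast, zpow_comm, zpow_natCast, hxp, _root_.one_zpow]
      exact (le_sup_left.trans_eq (P.3 (hz.to_sup_of_normal_right' P.2 (Subgroup.zpowers_le.2 hxN)) le_sup_right))
        (Subgroup.mem_zpowers x)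
    have hsqU : ∀ c : F, sl2U F c * sl2U F c = 1 := fun c => by
      rw [sl2U_mul, CharTwo.add_self_eq_zero, sl2U_zero]
    have hsqL : ∀ c : F, sl2L F c * sl2L F c = 1 := fun c => by
      rw [sl2L_mul, CharTwo.add_self_eq_zero]
      exact Subtype.ext (by simp [sl2L_val, Matrix.one_fin_two])
    have hin : ∀ g ∈ G, g * g = 1 → π g ∈ (P : Subgroup (Matrix.ProjectiveSpecialLinearGroup (Fin 2) F)) :=
      fun g hg hsq => hPmem _ (hle ⟨g, hg, rfl⟩) (by rw [pow_two, ← map_mul, hsq, map_one])
    obtain ⟨m, hm⟩ := P.2 ⟨π (sl2U F 1 * sl2L F δ), by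
      rw [map_mul]
      exact mul_mem (hin _ (hU 1 F₀.one_mem) (hsqU 1)) (hin _ hL1 (hsqL δ))⟩
    have hm' : π ((sl2U F 1 * sl2L F δ) ^ 2 ^ m) = π 1 := by
      rw [map_pow, map_one]; exact congrArg Subtype.val hm
    have := trace_of_pow_char_pow (p := 2) (m := m) (Or.inl (congrArg Subtype.val (hπi hm')))
    simp [Matrix.SpecialLinearGroup.coe_mul, Matrix.trace_fin_two, Matrix.mul_apply, Fin.sum_univ_two,
      sl2U_val, sl2L_val, h2] at this
    exact hδ (by linear_combination this - h2)
  | subfield K iso =>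
    set r := Nat.card K with hr
    haveI : CharP K 2 := (RingHom.charP_iff_charP K.subtype 2).2 inferInstance
    haveI : Fintype K := Fintype.ofFinite K
    obtain ⟨m, -, hm⟩ := FiniteField.card K 2
    rw [← Nat.card_eq_fintype_card, ← hr] at hm
    obtain ⟨e⟩ : Nonempty (H ≃* Matrix.ProjGenLinGroup (Fin 2) K) := by
      rcases iso with h | ⟨hodd, -⟩
      · exact h
      · exact absurd hodd (by rw [hm, Nat.not_odd_iff_even, Nat.even_pow]; exact ⟨even_two, m.ne_zero⟩)
    have hfix : ∀ g ∈ G, (g : Matrix (Fin 2) (Fin 2) F).trace ^ r = (g : Matrix (Fin 2) (Fin 2) F).trace := by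
      intro g hg
      let x : H := ⟨π g, g, hg, rfl⟩
      have back : ∀ n : ℕ, e x ^ n = 1 → (g ^ n).1 = 1 := fun n hn => by
        rw [← map_pow] at hn
        have h1 : x ^ n = 1 := e.injective (hn.trans (map_one e).symm)
        have h1' : π g ^ n = 1 := congrArg Subtype.val h1
        rw [← map_pow] at h1'
        exact congrArg Subtype.val (hπi (h1'.trans (map_one π).symm))
      have hor : (g : Matrix (Fin 2) (Fin 2) F).trace ^ r = (g : Matrix (Fin 2) (Fin 2) F).trace ∨
          (g : Matrix (Fin 2) (Fin 2) F).trace ^ r = -(g : Matrix (Fin 2) (Fin 2) F).trace := by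
        refine fix_of_two hm ?_
        rcases pow_eq_one_of_pgl (p := 2) (e x) with h | h | h
        · exact Or.inl (back _ h)
        · exact Or.inr (Or.inr (Or.inl (back _ h)))
        · exact Or.inr (Or.inr (Or.inr (Or.inr (Or.inl (back _ h)))))
      rcases hor with h | h
      · exact h
      · rw [h, CharTwo.neg_eq]
    let S : Subfield F := RingHom.eqLocusField (iterateFrobenius F 2 m) (RingHom.id F)
    have hS : ∀ x, x ∈ S ↔ x ^ r = x := fun x => by rw [hm]; rfl
    have hprod : ∀ c, sl2U F c ∈ G → c * δ ∈ S := fun c hc => by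
      obtain ⟨g, hg, hgt⟩ := htr c hc
      exact (hS _).2 (hgt ▸ hfix g hg)
    have hδS : δ ∈ S := by simpa using hprod 1 (hU 1 F₀.one_mem)
    have hdiv : ∀ c, sl2U F c ∈ G → c ∈ S := fun c hc => by
      have := S.div_mem (hprod c hc) hδS
      rwa [mul_div_cancel_right₀ _ hδ] at this
    have hSt : S = ⊤ := top_le_iff.1 (hgen ▸ Subfield.closure_le.2
      (Set.union_subset (fun c hc => hdiv c (hU c hc)) (Set.singleton_subset_iff.2 hδS)))
    have hle : Fintype.card F ≤ r := by
      by_contra hlt
      push Not at hlt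
      have h1 : 1 < r := by rw [hm]; exact Nat.one_lt_pow m.ne_zero (by norm_num)
      refine FiniteField.X_pow_card_sub_X_ne_zero F h1
        (Polynomial.eq_zero_of_natDegree_lt_card_of_eval_eq_zero _ Function.injective_id
          (fun x => by simp [(hS x).1 (hSt ▸ Subfield.mem_top x)]) ?_)
      rw [FiniteField.X_pow_card_sub_X_natDegree_eq F h1]
      exact hlt
    have hKF : r = Nat.card F := by
      refine le_antisymm (Nat.card_le_card_of_injective _ K.subtype.injective) ?_
      rwa [Nat.card_eq_fintype_card]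
    refine Subgroup.eq_top_of_card_eq G ?_
    rw [← hcard, Nat.card_congr e.toEquiv, CfsgLib.Classical.card_PGL_eq_card_SL, CfsgLib.Classical.card_SL_two,
      CfsgLib.Classical.card_SL_two, ← hr, hKF]


/-- The conjugation by `diag(1, l)`. -/
def scaleHom (l : F) (hl : l ≠ 0) : SL2 →* SL2 where
  toFun s := ⟨!![s.1 0 0, s.1 0 1 / l; s.1 1 0 * l, s.1 1 1], by
    have h := s.2
    rw [Matrix.det_fin_two] at h
    rw [Matrix.det_fin_two]
    simp only [Matrix.of_apply, Matrix.cons_val', Matrix.cons_val_zero, Matrix.cons_val_one, Matrix.empty_val',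
      Matrix.cons_val_fin_one]
    field_simp
    linear_combination h⟩
  map_one' := Subtype.ext (by ext i j; fin_cases i <;> fin_cases j <;> simp)
  map_mul' s t := Subtype.ext (by
    show !![(s.1 * t.1) 0 0, (s.1 * t.1) 0 1 / l; (s.1 * t.1) 1 0 * l, (s.1 * t.1) 1 1] =
      !![s.1 0 0, s.1 0 1 / l; s.1 1 0 * l, s.1 1 1] * !![t.1 0 0, t.1 0 1 / l; t.1 1 0 * l, t.1 1 1]
    ext i j
    fin_cases i <;> fin_cases j <;> simp [Matrix.mul_apply, Fin.sum_univ_two] <;> field_simp)

theorem map_sub_val (E : Subfield F) (g : Matrix.SpecialLinearGroup (Fin 2) E) (i j : Fin 2) :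
    (Matrix.SpecialLinearGroup.map (n := Fin 2) E.subtype g).1 i j = ((g.1 i j : E) : F) := rfl

theorem scaleHom_val (l : F) (hl : l ≠ 0) (s : SL2) :
    (scaleHom l hl s).1 = !![s.1 0 0, s.1 0 1 / l; s.1 1 0 * l, s.1 1 1] := rfl

/-- A root field and one opposite element give the root group of the field they generate. -/
theorem sl2_root_full {K : Subfield F} {G : Subgroup SL2} {l : F}
    (hgen : Subfield.closure ((K : Set F) ∪ {l}) = ⊤) (hl : l ≠ 0) (hb : Nat.card K ≠ 2)
    (h3 : Nat.card K = 3 → l ^ 2 ≠ -1) (hU : ∀ c ∈ K, sl2U F c ∈ G) (hL : sl2L F l ∈ G) :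
    ∀ u : F, sl2U F u ∈ G := by
  classical
  obtain ⟨p, hp⟩ := CharP.exists F
  haveI := hp
  haveI : Fact p.Prime := ⟨CharP.char_is_prime F p⟩
  rcases eq_or_ne p 2 with rfl | hp2
  · intro u
    rw [sl2_top_two hgen hl hb hU hL]
    exact Subgroup.mem_top _
  have h2 : (2 : F) ≠ 0 := fun h => hp2 (by
    have : ((2 : ℕ) : F) = 0 := by exact_mod_cast h
    exact (Nat.prime_dvd_prime_iff_eq Fact.out Nat.prime_two).1 ((CharP.cast_eq_zero_iff F p 2).1 this))
  set G' := G.comap (scaleHom l hl) with hG'
  let A : AddSubgroup F :=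
    { carrier := {u | sl2U F u ∈ G'}
      add_mem' := fun {a b} ha hb => by
        show sl2U F (a + b) ∈ G'
        rw [← sl2U_mul]; exact mul_mem ha hb
      zero_mem' := by show sl2U F 0 ∈ G'; rw [sl2U_zero]; exact one_mem _
      neg_mem' := fun {a} ha => by show sl2U F (-a) ∈ G'; rw [← sl2U_inv]; exact inv_mem ha }
  have hUA : ∀ c ∈ K, c * l ∈ A := fun c hc => by
    show scaleHom l hl (sl2U F (c * l)) ∈ G
    convert hU c hc using 1
    refine Subtype.ext ?_
    ext i j
    fin_cases i <;> fin_cases j <;> simp [scaleHom_val, sl2U_val, hl]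
  have hL' : sl2L F 1 ∈ G' := by
    show scaleHom l hl (sl2L F 1) ∈ G
    convert hL using 1
    refine Subtype.ext ?_
    ext i j
    fin_cases i <;> fin_cases j <;> simp [scaleHom_val, sl2L_val]
  let R : Subring F :=
    { carrier := {e | ∀ a ∈ A, e * a ∈ A}
      mul_mem' := fun {e e'} he he' a ha => by rw [mul_assoc]; exact he _ (he' a ha)
      one_mem' := fun a ha => by rwa [one_mul]
      add_mem' := fun {e e'} he he' a ha => by rw [add_mul]; exact A.add_mem (he a ha) (he' a ha)
      zero_mem' := fun a _ => by rw [zero_mul]; exact A.zero_mem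
      neg_mem' := fun {e} he a ha => by rw [neg_mul]; exact A.neg_mem (he a ha) }
  -- a good product contributes its field
  have hgood : ∀ c ∈ K, c ≠ 0 → (c * l) ^ 2 ≠ -1 → c * l ∈ R ∧ (1 : F) ∈ A := by
    intro c hc hc0 hne
    set E := Subfield.closure ({c * l} : Set F)
    let m : E := ⟨c * l, Subfield.subset_closure rfl⟩
    have hgenE : Subfield.closure ({m} : Set E) = ⊤ := by
      refine eq_top_iff.2 fun x _ => ?_
      have h1 : (x : F) ∈ (Subfield.closure ({m} : Set E)).map E.subtype := by
        rw [RingHom.map_field_closure, Set.image_singleton]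
        exact x.2
      obtain ⟨y, hy, hxy⟩ := Subfield.mem_map.1 h1
      rwa [← show y = x from Subtype.ext hxy]
    haveI : CharP E p := (RingHom.charP_iff_charP E.subtype p).2 inferInstance
    have h2E : (2 : E) ≠ 0 := fun e => h2 (by
      have h' := congrArg E.subtype e
      rwa [map_ofNat, map_zero] at h')
    haveI := Fintype.ofFinite E
    rcases main p h2E m (fun e => mul_ne_zero hc0 hl (congrArg Subtype.val e)) hgenE with htop | ⟨-, hne'⟩
    swap
    · exact absurd (by simpa [m] using congrArg Subtype.val hne') hne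
    set f := Matrix.SpecialLinearGroup.map (n := Fin 2) E.subtype
    have hle : Subgroup.closure (gens m) ≤ G'.comap f := by
      rw [Subgroup.closure_le]
      rintro g (hg | hg)
      · show f g ∈ G'
        convert hL' using 1
        refine Subtype.ext ?_
        ext i j
        fin_cases i <;> fin_cases j <;> simp [f, map_sub_val, hg, sl2L_val]
      · show f g ∈ G'
        convert (show sl2U F (c * l) ∈ G' from hUA c hc) using 1
        refine Subtype.ext ?_
        ext i j
        fin_cases i <;> fin_cases j <;> simp [f, map_sub_val, hg, sl2U_val, m]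
    have hall : ∀ g, f g ∈ G' := fun g => hle (htop ▸ Subgroup.mem_top g)
    refine ⟨?_, ?_⟩
    · have hsq : ∀ t : E, t ≠ 0 → ∀ a ∈ A, (t : F) ^ 2 * a ∈ A := by
        intro t ht a ha
        have ht' : (t : F) ≠ 0 := fun h => ht (Subtype.ext h)
        obtain ⟨D, hD⟩ : ∃ D : Matrix.SpecialLinearGroup (Fin 2) E, D.1 = !![t, 0; 0, t⁻¹] :=
          ⟨⟨!![t, 0; 0, t⁻¹], by simp [Matrix.det_fin_two, ht]⟩, rfl⟩
        obtain ⟨D', hD'⟩ : ∃ D : Matrix.SpecialLinearGroup (Fin 2) E, D.1 = !![t⁻¹, 0; 0, t] :=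
          ⟨⟨!![t⁻¹, 0; 0, t], by simp [Matrix.det_fin_two, ht]⟩, rfl⟩
        show sl2U F ((t : F) ^ 2 * a) ∈ G'
        convert mul_mem (mul_mem (hall D) (show sl2U F a ∈ G' from ha)) (hall D') using 1
        refine Subtype.ext ?_
        ext i j
        fin_cases i <;> fin_cases j <;>
          simp [f, map_sub_val, hD, hD', Matrix.mul_apply, Fin.sum_univ_two, sl2U_val, ht'] <;> ring
      intro a ha
      have hsplit : c * l = ((c * l + 1) / 2) ^ 2 - ((c * l - 1) / 2) ^ 2 := by field_simp; ring
      have hsq' : ∀ t ∈ E, t ^ 2 * a ∈ A := fun t ht => by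
        rcases eq_or_ne t 0 with rfl | ht0
        · simp [A.zero_mem]
        · exact hsq ⟨t, ht⟩ (fun h => ht0 (congrArg Subtype.val h)) a ha
      have h2mem : (2 : F) ∈ E := by exact_mod_cast natCast_mem E 2
      have hm : c * l ∈ E := Subfield.subset_closure rfl
      rw [hsplit, sub_mul]
      exact A.sub_mem (hsq' _ (E.div_mem (E.add_mem hm E.one_mem) h2mem))
        (hsq' _ (E.div_mem (E.sub_mem hm E.one_mem) h2mem))
    · obtain ⟨g, hg⟩ : ∃ g : Matrix.SpecialLinearGroup (Fin 2) E, g.1 = !![1, 1; 0, 1] :=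
        ⟨⟨!![1, 1; 0, 1], by simp [Matrix.det_fin_two]⟩, rfl⟩
      show sl2U F 1 ∈ G'
      convert hall g using 1
      refine Subtype.ext ?_
      ext i j
      fin_cases i <;> fin_cases j <;> simp [f, map_sub_val, hg, sl2U_val]
  obtain ⟨hRc, hA1⟩ : (∀ c ∈ K, c * l ∈ R) ∧ (1 : F) ∈ A := by
    by_cases hK3 : Nat.card K = 3
    · obtain ⟨h1, h1'⟩ := hgood 1 K.one_mem one_ne_zero (by rw [one_mul]; exact h3 hK3)
      rw [one_mul] at h1
      refine ⟨fun c hc => ?_, h1'⟩
      haveI := Fintype.ofFinite K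
      have hc3 : (⟨c, hc⟩ : K) ^ 3 = ⟨c, hc⟩ := by
        conv_lhs => rw [← hK3, Nat.card_eq_fintype_card]
        exact FiniteField.pow_card _
      have hc3' : c ^ 3 = c := congrArg Subtype.val hc3
      have : c * (c - 1) * (c + 1) = 0 := by linear_combination hc3'
      rcases mul_eq_zero.1 this with h | h
      rcases mul_eq_zero.1 h with h | h
      · rw [h, zero_mul]; exact R.zero_mem
      · rw [sub_eq_zero.1 h, one_mul]; exact h1
      · rw [eq_neg_of_add_eq_zero_left h, neg_one_mul]; exact R.neg_mem h1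
    have hcard : 5 ≤ Nat.card K := by
      haveI := Fintype.ofFinite K
      haveI : CharP K p := (RingHom.charP_iff_charP K.subtype p).2 inferInstance
      obtain ⟨n, hpp, hn⟩ := FiniteField.card K p
      rw [Nat.card_eq_fintype_card, hn] at hb hK3 ⊢
      have h3p : 3 ≤ p := by have := hpp.two_le; omega
      rcases eq_or_lt_of_le h3p with h | h
      · subst h
        have : 2 ≤ (n : ℕ) := by
          by_contra hlt
          exact hK3 (by rw [show (n : ℕ) = 1 by have := n.pos; omega, pow_one])
        exact le_trans (by norm_num) (Nat.pow_le_pow_right (by norm_num) this)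
      · have hp5 : 5 ≤ p := by
          rcases eq_or_ne p 4 with rfl | h4
          · exact absurd hpp (by norm_num)
          · omega
        exact le_trans hp5 (le_of_eq_of_le (pow_one p).symm (Nat.pow_le_pow_right (by omega) n.pos))
    have hbad : ∀ c₀ ∈ K, ∀ c ∈ K, (c₀ * l) ^ 2 = -1 → (c * l) ^ 2 = -1 → c = c₀ ∨ c = -c₀ := by
      intro c₀ _ c _ h0 h
      have : (c - c₀) * (c + c₀) = 0 := by
        refine (mul_eq_zero.1 (show (c - c₀) * (c + c₀) * l ^ 2 = 0 by linear_combination h - h0)).resolve_right ?_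
        exact pow_ne_zero 2 hl
      rcases mul_eq_zero.1 this with e | e
      · exact Or.inl (sub_eq_zero.1 e)
      · exact Or.inr (eq_neg_of_add_eq_zero_left e)
    have hex : ∀ c₀ ∈ K, ∃ y ∈ K, y ≠ c₀ ∧ y ≠ -c₀ ∧ y ≠ 0 ∧ y ≠ 2 * c₀ := by
      intro c₀ _
      by_contra hcon
      push Not at hcon
      have hsub : (K : Set F) ⊆ ↑({c₀, -c₀, 0, 2 * c₀} : Finset F) := fun y hy => by
        have := hcon y hy
        simp only [Finset.coe_insert, Finset.coe_singleton, Set.mem_insert_iff, Set.mem_singleton_iff]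
        tauto
      have := Set.ncard_le_ncard hsub (Finset.finite_toSet _)
      rw [← Nat.card_coe_set_eq, Set.ncard_coe_finset] at this
      exact absurd (hcard.trans (this.trans Finset.card_le_four)) (by norm_num)
    obtain ⟨y₁, hy₁, hy₁0, hy₁g⟩ : ∃ y ∈ K, y ≠ 0 ∧ (y * l) ^ 2 ≠ -1 := by
      by_contra hcon
      push Not at hcon
      obtain ⟨y, hy, hy1, hy2, hy0, -⟩ := hex 1 K.one_mem
      rcases hbad 1 K.one_mem y hy (hcon 1 K.one_mem one_ne_zero) (hcon y hy hy0) with h | h
      · exact hy1 h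
      · exact hy2 h
    refine ⟨fun c hc => ?_, (hgood y₁ hy₁ hy₁0 hy₁g).2⟩
    rcases eq_or_ne c 0 with rfl | hc0
    · rw [zero_mul]; exact R.zero_mem
    by_cases hcb : (c * l) ^ 2 = -1
    · obtain ⟨y, hy, hy1, hy2, hy0, hy3⟩ := hex c hc
      have hz : y * l ∈ R := (hgood y hy hy0 fun h => (hbad c hc y hy hcb h).elim hy1 hy2).1
      have hw : (c - y) * l ∈ R := (hgood (c - y) (K.sub_mem hc hy) (sub_ne_zero.2 (Ne.symm hy1)) fun h =>
        (hbad c hc _ (K.sub_mem hc hy) hcb h).elim (fun e => hy0 (by linear_combination -e))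
          fun e => hy3 (by linear_combination -e)).1
      rw [show c * l = (c - y) * l + y * l by ring]
      exact R.add_mem hw hz
    · exact (hgood c hc hc0 hcb).1
  have hinv : ∀ e ∈ R, e⁻¹ ∈ R := fun e he => by
    rcases eq_or_ne e 0 with rfl | he0
    · rw [_root_.inv_zero]; exact R.zero_mem
    have : e⁻¹ = e ^ (Fintype.card F - 2) := by
      refine inv_eq_of_mul_eq_one_left ?_
      rw [← pow_succ, show Fintype.card F - 2 + 1 = Fintype.card F - 1 by
        have := Fintype.one_lt_card (α := F); omega]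
      exact FiniteField.pow_card_sub_one_eq_one e he0
    rw [this]; exact pow_mem he _
  let R' : Subfield F := { R with inv_mem' := hinv }
  have hlR : l ∈ R := by simpa using hRc 1 K.one_mem
  have hRtop : R' = ⊤ := top_le_iff.1 (hgen ▸ Subfield.closure_le.2 (Set.union_subset (fun c hc => by
    show c ∈ R
    rw [show c = c * l * l⁻¹ by field_simp]
    exact R.mul_mem (hRc c hc) (hinv l hlR)) (Set.singleton_subset_iff.2 hlR)))
  intro u
  have hmem : u * l ∈ R' := hRtop ▸ Subfield.mem_top _
  have h1 : scaleHom l hl (sl2U F (u * l * 1)) ∈ G := (show u * l ∈ R from hmem) 1 hA1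
  convert h1 using 1
  refine Subtype.ext ?_
  ext i j
  fin_cases i <;> fin_cases j <;> simp [scaleHom_val, sl2U_val, hl]

end CfsgLib.Dim3Max
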