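import Cfsg.Agent.Lib.Dim3Max.Calc
import Cfsg.Agent.Lib.Dim3Max.SL2Root
import Cfsg.Agent.Lib.Maximal.SubfieldFour

/-!
A root field and an opposite elation generate the root field of the product.
-/

set_option autoImplicit false

namespace CfsgLib.Dim3Max

open scoped Matrix MatrixGroups
open CfsgLib.Maximal CfsgLib.ThreeTransp

universe u

variable {F : Type u} [Field F]

/-- D2. -/
theorem pairStmt [Fintype F] : PairStmt F := by
  intro M K c φ c' φ' hK hX' hne hb h3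
  classical
  obtain ⟨ξ, hξ⟩ : ∃ ξ, ξ = (φ ⬝ᵥ c') * (φ' ⬝ᵥ c) := ⟨_, rfl⟩
  rw [← hξ] at hne h3 ⊢
  obtain ⟨hn1, hn2⟩ := mul_ne_zero_iff.1 (hξ ▸ hne)
  have hφc : φ ⬝ᵥ c = 0 := by simpa using (hK.2.2 1 K.one_mem).dot
  set E := Subfield.closure ((K : Set F) ∪ {ξ}) with hE
  have hKE : K ≤ E := fun x hx => Subfield.subset_closure (Or.inl hx)
  let K' : Subfield E := K.comap E.subtype
  let l : E := ⟨ξ, Subfield.subset_closure (Or.inr rfl)⟩
  have himg : E.subtype '' ((K' : Set E) ∪ {l}) = (K : Set F) ∪ {ξ} := by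
    ext x
    constructor
    · rintro ⟨y, hy | hy, rfl⟩
      · exact Or.inl hy
      · exact Or.inr (by rw [Set.mem_singleton_iff.1 hy]; rfl)
    · rintro (hx | hx)
      · exact ⟨⟨x, hKE hx⟩, Or.inl hx, rfl⟩
      · exact ⟨l, Or.inr rfl, (Set.mem_singleton_iff.1 hx).symm⟩
  have hgen : Subfield.closure ((K' : Set E) ∪ {l}) = ⊤ := by
    refine eq_top_iff.2 fun x _ => ?_
    have h1 : (x : F) ∈ (Subfield.closure ((K' : Set E) ∪ {l})).map E.subtype := by
      rw [RingHom.map_field_closure, himg]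
      exact x.2
    obtain ⟨y, hy, hxy⟩ := Subfield.mem_map.1 h1
    rwa [← show y = x from Subtype.ext hxy]
  have hcard : Nat.card K' = Nat.card K :=
    Nat.card_congr { toFun := fun x => ⟨x.1.1, x.2⟩, invFun := fun x => ⟨⟨x.1, hKE x.2⟩, x.2⟩,
                     left_inv := fun _ => rfl, right_inv := fun _ => rfl }
  have h00 : ((φ' ⬝ᵥ c)⁻¹ • φ') ⬝ᵥ c = 1 := by rw [smul_dotProduct, smul_eq_mul, inv_mul_cancel₀ hn2]
  have h01 : ((φ' ⬝ᵥ c)⁻¹ • φ') ⬝ᵥ ((φ ⬝ᵥ c')⁻¹ • c') = 0 := by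
    rw [smul_dotProduct, dotProduct_smul, hX'.dot, smul_zero, smul_zero]
  have h11 : φ ⬝ᵥ ((φ ⬝ᵥ c')⁻¹ • c') = 1 := by rw [dotProduct_smul, smul_eq_mul, inv_mul_cancel₀ hn1]
  set f := (SubFour.planeHom h00 h01 hφc h11).comp (Matrix.SpecialLinearGroup.map E.subtype) with hf
  have hU : ∀ x : E, Has M ((x : F) • c) φ → sl2U E x ∈ M.comap f := by
    intro x hx
    obtain ⟨h, hm⟩ := hx
    show f (sl2U E x) ∈ M
    convert hm using 1
    refine Units.ext ?_
    rw [hf, MonoidHom.comp_apply, SubFour.planeHom_val, tv_val]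
    simp only [map_sub_val]
    simp [sl2U_val, Matrix.smul_vecMulVec]
  have hU' : ∀ x : E, sl2U E x ∈ M.comap f → Has M ((x : F) • c) φ := by
    intro x hx
    refine ⟨by rw [dotProduct_smul, hφc, smul_zero], ?_⟩
    convert (show f (sl2U E x) ∈ M from hx) using 1
    refine Units.ext ?_
    rw [hf, MonoidHom.comp_apply, SubFour.planeHom_val, tv_val]
    simp only [map_sub_val]
    simp [sl2U_val, Matrix.smul_vecMulVec]
  have hL : sl2L E l ∈ M.comap f := by
    obtain ⟨h, hm⟩ := hX'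
    show f (sl2L E l) ∈ M
    convert hm using 1
    refine Units.ext ?_
    rw [hf, MonoidHom.comp_apply, SubFour.planeHom_val, tv_val]
    simp only [map_sub_val]
    simp [sl2L_val, l, Matrix.smul_vecMulVec, Matrix.vecMulVec_smul, smul_smul]
    rw [show ξ * ((φ' ⬝ᵥ c)⁻¹ * (φ ⬝ᵥ c')⁻¹) = 1 by rw [hξ]; field_simp, one_smul]
  haveI := Fintype.ofFinite E
  have hall := sl2_root_full (F := E) (K := K') (G := M.comap f) (l := l) hgen
    (fun e => hne (congrArg Subtype.val e)) (by rw [hcard]; exact hb)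
    (fun h e => h3 (hcard ▸ h) (by simpa [l] using congrArg Subtype.val e))
    (fun x hx => hU x (hK.2.2 (x : F) hx)) hL
  exact ⟨hK.1, hK.2.1, fun x hx => hU' ⟨x, hx⟩ (hall _)⟩

end CfsgLib.Dim3Max
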