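import Cfsg.Agent.Lib.Dim3Max.LinRoot
import Cfsg.Agent.Lib.Dim3Max.Pair
import Cfsg.Agent.Lib.Dim3Max.Frob
import Cfsg.Agent.Lib.Dim3Max.Centres
import Cfsg.Agent.Lib.Maximal.DecompFour

/-!
The stabiliser of three independent lines is maximal in `SL₃(q)` for `q ≥ 5`.
-/

set_option autoImplicit false
set_option linter.unusedSectionVars false

namespace CfsgLib.Dim3Max

open scoped Matrix MatrixGroups
open CfsgLib.Maximal

universe u

variable {F : Type u} [Field F] [Fintype F] {M : Subgroup (GL (Fin 3) F)}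

local notation "M3" => Matrix (Fin 3) (Fin 3) F

/-- The subgroup lies over the monomial group of the standard frame. -/
structure MonoThree (M : Subgroup (GL (Fin 3) F)) : Prop where
  le : M ≤ sl3 F
  mono : ∀ σ (d : Fin 3 → Fˣ), monoGL σ d ∈ sl3 F → monoGL σ d ∈ M
  five : 5 ≤ Fintype.card F

/-- The orders five, seven and thirteen: an overgroup without elations is monomial. -/
def MonoSmallStmt (F : Type u) [Field F] [Fintype F] : Prop :=
  (Fintype.card F = 5 ∨ Fintype.card F = 7 ∨ Fintype.card F = 13) → ∀ M : Subgroup (GL (Fin 3) F),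
    MonoThree M → ¬ HasElation M → ∀ g ∈ M, IsMono g

theorem MonoThree.diag (h : MonoThree M) (d : Fin 3 → Fˣ) (hd : d 0 * d 1 * d 2 = 1) : monoGL 1 d ∈ M :=
  h.mono _ _ (monoGL_one_mem_specialLinear d (by rwa [Fin.prod_univ_three]))

theorem MonoThree.exists_perm (h : MonoThree M) (σ : Equiv.Perm (Fin 3)) :
    ∃ d : Fin 3 → Fˣ, monoGL σ d ∈ M := by
  refine ⟨Function.update (fun _ => 1) 0 (Units.map (Int.castRingHom F).toMonoidHom (Equiv.Perm.sign σ)),
    h.mono _ _ ((monoGL_mem_specialLinear_iff σ _).2 ?_)⟩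
  rw [Fin.prod_univ_three]
  rcases Int.units_eq_one_or (Equiv.Perm.sign σ) with e | e <;> simp [e]

theorem exists_other_two (i : Fin 3) : ∃ j k, i ≠ j ∧ i ≠ k ∧ j ≠ k ∧ ∀ l, l = i ∨ l = j ∨ l = k := by
  revert i; decide

theorem exists_pair_three (i j : Fin 3) (h : i ≠ j) : ∃ k, i ≠ k ∧ j ≠ k ∧ ∀ l, l = i ∨ l = j ∨ l = k := by
  revert i j; decide

/-- A diagonal element with prescribed entries at three places. -/
theorem exists_diag_entries {i j k : Fin 3} (hij : i ≠ j) (hik : i ≠ k) (hjk : j ≠ k) (a b c : Fˣ)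
    (habc : a * b * c = 1) : ∃ d : Fin 3 → Fˣ, d 0 * d 1 * d 2 = 1 ∧ d i = a ∧ d j = b ∧ d k = c := by
  refine ⟨fun l => if l = i then a else if l = j then b else c, ?_, by simp, by simp [hij.symm],
    by simp [hik.symm, hjk.symm]⟩
  fin_cases i <;> fin_cases j <;> fin_cases k <;> first
    | exact absurd rfl hij
    | exact absurd rfl hik
    | exact absurd rfl hjk
    | (simp <;> rw [← habc] <;> ac_rfl)

theorem MonoThree.irr (h : MonoThree M) : Irr M := by
  intro W hW
  refine or_iff_not_imp_left.2 fun hne => ?_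
  have hinv : ∀ g ∈ M, ∀ w ∈ W, (g : M3) *ᵥ w ∈ W := fun g hg w hw =>
    hW _ ⟨g, hg, rfl⟩ ⟨w, hw, Matrix.toLin'_apply _ _⟩
  obtain ⟨v, hv, hv0⟩ := Submodule.exists_mem_ne_zero_of_ne_bot hne
  obtain ⟨i, hi⟩ := Function.ne_iff.1 hv0
  obtain ⟨j, k, hij, hik, hjk, hall⟩ := exists_other_two i
  obtain ⟨u, hu⟩ := IsCyclic.exists_ofOrder_eq_natCard (α := Fˣ)
  have hq : 4 ≤ orderOf u := by
    classical
    rw [hu, Nat.card_eq_fintype_card, Fintype.card_units]
    have := h.five; omega
  have hu1 : (u : F) ≠ 1 := fun e => by rw [show u = 1 from Units.ext e, orderOf_one] at hq; omega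
  have hu2 : (u : F) ≠ (u : F)⁻¹ := fun e => by
    have h2 : u ^ 2 = 1 := Units.ext (by
      rw [Units.val_pow_eq_pow_val, Units.val_one, sq]
      nth_rw 2 [e]
      exact mul_inv_cancel₀ u.ne_zero)
    have := orderOf_le_of_pow_eq_one (by norm_num) h2; omega
  obtain ⟨d, hd, hdi, hdj, hdk⟩ := exists_diag_entries hij hik hjk u 1 u⁻¹ (by simp)
  have hop : ∀ w ∈ W, (fun l => (d l : F) * w l) ∈ W := fun w hw => by
    have := hinv _ (h.diag d hd) w hw
    convert this using 1
    funext l; rw [monoGL_val, monoMat_one_mulVec]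
  set w₁ := (fun l => (d l : F) * v l) - v
  have hw₁ : w₁ ∈ W := W.sub_mem (hop v hv) hv
  set w₂ := (fun l => (d l : F) * w₁ l) - ((u⁻¹ : Fˣ) : F) • w₁
  have hw₂ : w₂ ∈ W := W.sub_mem (hop _ hw₁) (W.smul_mem _ hw₁)
  have he : w₂ = Pi.single i (((u : F) - (u : F)⁻¹) * ((u : F) - 1) * v i) := by
    funext l
    rcases hall l with e | e | e <;> subst e <;>
      simp [w₂, w₁, hdi, hdj, hdk, hij.symm, hik.symm] <;> ring
  have hsingle : Pi.single i (1 : F) ∈ W := by
    have hc : ((u : F) - (u : F)⁻¹) * ((u : F) - 1) * v i ≠ 0 :=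
      mul_ne_zero (mul_ne_zero (sub_ne_zero.2 hu2) (sub_ne_zero.2 hu1)) hi
    have := W.smul_mem (((u : F) - (u : F)⁻¹) * ((u : F) - 1) * v i)⁻¹ (he ▸ hw₂)
    rwa [← Pi.single_smul', smul_eq_mul, inv_mul_cancel₀ hc] at this
  have hcoord : ∀ l, Pi.single l (1 : F) ∈ W := by
    intro l
    obtain ⟨d', hd'⟩ := h.exists_perm (Equiv.swap i l)
    have := hinv _ hd' _ hsingle
    have e : (monoGL (Equiv.swap i l) d' : M3) *ᵥ Pi.single i 1 = Pi.single l (d' i : F) := by
      funext m
      rw [monoGL_val, monoMat_mulVec']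
      rcases eq_or_ne m l with rfl | hm
      · simp
      · have h' : Equiv.swap i l m ≠ i := fun e' => hm (by simpa using congrArg (Equiv.swap i l) e')
        simp [Equiv.symm_swap, h', hm]
    rw [e] at this
    have := W.smul_mem ((d' i : F))⁻¹ this
    rwa [← Pi.single_smul', smul_eq_mul, inv_mul_cancel₀ (d' i).ne_zero] at this
  refine eq_top_iff.2 fun x _ => ?_
  rw [show x = ∑ l, x l • Pi.single l (1 : F) by funext m; simp [Pi.single_apply]]
  exact W.sum_mem fun l _ => W.smul_mem _ (hcoord l)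

/-- A coordinate elation gives everything. -/
theorem MonoThree.sl_of_single (h : MonoThree M) {i j : Fin 3} (hij : i ≠ j) {a b : F} (ha : a ≠ 0) (hb : b ≠ 0)
    (hE : Has M (Pi.single i a) (Pi.single j b)) : sl3 F ≤ M := by
  refine fullRootStmt M h.irr (Pi.single i a) (Pi.single j b) ⟨?_, ?_, fun x => ?_⟩
  · simpa using ha
  · simpa using hb
  rcases eq_or_ne x 0 with rfl | hx
  · exact has_of_zero (Or.inl (zero_smul F _))
  obtain ⟨k, hik, hjk, hall⟩ := exists_pair_three i j hij
  obtain ⟨d, hd, hdi, hdj, -⟩ := exists_diag_entries hij hik hjk (Units.mk0 x hx) 1 (Units.mk0 x hx)⁻¹ (by simp)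
  refine (hE.conj_diag (h.diag d hd)).congr ?_ ?_
  · funext l; rcases eq_or_ne l i with rfl | hl
    · simp [hdi]
    · simp [hl]
  · funext l; rcases eq_or_ne l j with rfl | hl
    · simp [hdj]
    · simp [hl]

/-- An elation with disjoint supports of centre and axis gives everything. -/
theorem MonoThree.sl_of_disjoint (h : MonoThree M) {c φ : Fin 3 → F} (hc : c ≠ 0) (hφ : φ ≠ 0) (hE : Has M c φ)
    (hdis : ∀ i, φ i * c i = 0) : sl3 F ≤ M := by
  obtain ⟨u, hu⟩ := IsCyclic.exists_ofOrder_eq_natCard (α := Fˣ)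
  have hq : 4 ≤ orderOf u := by
    classical
    rw [hu, Nat.card_eq_fintype_card, Fintype.card_units]
    have := h.five; omega
  have hu3 : (u : F) ^ 3 ≠ 1 := fun e => by
    have := orderOf_le_of_pow_eq_one (by norm_num) (Units.ext (by simpa using e) : u ^ 3 = 1); omega
  obtain ⟨i, hi⟩ := Function.ne_iff.1 hc
  obtain ⟨j, hj⟩ := Function.ne_iff.1 hφ
  have hij : i ≠ j := fun e => by
    subst e; exact mul_ne_zero hj hi (hdis i)
  have hφi : φ i = 0 := (mul_eq_zero.1 (hdis i)).resolve_right hi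
  have hcj : c j = 0 := (mul_eq_zero.1 (hdis j)).resolve_left hj
  obtain ⟨k, hik, hjk, hall⟩ := exists_pair_three i j hij
  have hci : φ k = 0 → c k = 0 → sl3 F ≤ M := fun h1 h2 => by
    refine h.sl_of_single hij hi hj (hE.congr ?_ ?_) <;>
    · funext l; rcases hall l with rfl | rfl | rfl <;> simp [hφi, hcj, h1, h2, hij, hij.symm, hik.symm, hjk.symm]
  by_cases hck : c k = 0
  · by_cases hφk : φ k = 0
    · exact hci hφk hck
    obtain ⟨d, hd, hdi, hdj, hdk⟩ := exists_diag_entries hij hik hjk u u (u * u)⁻¹ (by simp)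
    have h2 : Has M c (fun l => if l = j then φ j else if l = k then (u : F) ^ 3 * φ k else 0) := by
      have h1 := hE.conj_diag (h.diag d hd)
      have e : (fun l => (d l : F) * c l) = (u : F) • c := by
        funext l; rcases hall l with rfl | rfl | rfl <;> simp [hcj, hck, hdi]
      rw [e, Has.smul_iff] at h1
      refine h1.congr rfl ?_
      funext l
      rcases hall l with rfl | rfl | rfl <;> simp [hdj, hdk, hφi, hij, hik, hjk.symm]
      · field_simp
      · ring
    refine h.sl_of_single hik hi (mul_ne_zero hφk (sub_ne_zero.2 hu3)) ((h2.sub_right hE).congr ?_ ?_) <;>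
    · funext l
      rcases hall l with rfl | rfl | rfl <;> simp [hcj, hck, hφi, hij, hij.symm, hik, hik.symm, hjk, hjk.symm] <;> ring
  · have hφk : φ k = 0 := (mul_eq_zero.1 (hdis k)).resolve_right hck
    obtain ⟨d, hd, hdi, hdj, hdk⟩ := exists_diag_entries hij hik hjk u u (u * u)⁻¹ (by simp)
    have h2 : Has M (fun l => if l = i then c i else if l = k then ((u : F) ^ 3)⁻¹ * c k else 0) φ := by
      have h1 := hE.conj_diag (h.diag d hd)
      have e : (fun l => φ l * ((d l)⁻¹ : Fˣ)) = (u : F)⁻¹ • φ := by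
        funext l; rcases hall l with rfl | rfl | rfl <;> simp [hφi, hφk, hdj, mul_comm]
      rw [e, ← Has.smul_iff] at h1
      refine h1.congr ?_ rfl
      funext l
      rcases hall l with rfl | rfl | rfl <;> simp [hdi, hdk, hcj, hij, hij.symm, hik.symm, hjk]
      field_simp
    have hne : ((u : F) ^ 3)⁻¹ - 1 ≠ 0 := sub_ne_zero.2 fun e => hu3 (inv_eq_one.1 e)
    refine h.sl_of_single hjk.symm (mul_ne_zero hck hne) hj ((h2.sub_left hE).congr ?_ ?_) <;>
    · funext l
      rcases hall l with rfl | rfl | rfl <;> simp [hcj, hφi, hφk, hij, hij.symm, hik, hik.symm, hjk, hjk.symm] <;> ring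

/-- The products of an elation under diagonal elements. -/
theorem flagProd_mono (d : Fin 3 → Fˣ) (c φ : Fin 3 → F) :
    flagProd (monoGL 1 d) c φ = (∑ l, φ l * c l * (d l : F)) * (∑ l, φ l * c l * ((d l : F))⁻¹) := by
  rw [flagProd, monoGL_inv_val, monoGL_val, inv_one]
  simp only [dotProduct, monoMat_one_mulVec]
  congr 1 <;> refine Finset.sum_congr rfl fun l _ => ?_
  · ring
  · simp; ring

/-- The field with nine elements. -/
theorem MonoThree.sl_nine (h : MonoThree M) (h9 : Fintype.card F = 9) {c φ : Fin 3 → F} (hc : c ≠ 0) (hφ : φ ≠ 0)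
    (hE : Has M c φ) {i : Fin 3} (hi : φ i * c i ≠ 0) : sl3 F ≤ M := by
  classical
  obtain ⟨p, hp⟩ := CharP.exists F
  obtain ⟨n, hpp, hn⟩ := FiniteField.card F p
  have hp3 : p = 3 := by
    have h1 : p ∣ 3 ^ 2 := by rw [show (3 : ℕ) ^ 2 = Fintype.card F by rw [h9]; norm_num, hn]; exact dvd_pow_self p n.pos.ne'
    exact (Nat.prime_dvd_prime_iff_eq hpp Nat.prime_three).1 (hpp.dvd_of_dvd_pow h1)
  subst hp3
  have h3 : (3 : F) = 0 := CharP.cast_eq_zero F 3
  obtain ⟨j, k, hij, hik, hjk, hall⟩ := exists_other_two i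
  obtain ⟨z, hz⟩ := IsCyclic.exists_ofOrder_eq_natCard (α := Fˣ)
  rw [Nat.card_eq_fintype_card, Fintype.card_units, h9] at hz
  obtain ⟨d, hd, hdi, hdj, hdk⟩ := exists_diag_entries hij hik hjk (z * z)⁻¹ z z (by rw [mul_assoc, inv_mul_cancel])
  have hm : monoGL 1 d ∈ M := h.diag d hd
  set ξ := flagProd (monoGL 1 d) c φ with hξdef
  have hx : φ i * c i + φ j * c j + φ k * c k = 0 := by
    have h0 := hE.dot
    rw [dotProduct, ← Finset.sum_subset (Finset.subset_univ ({i, j, k} : Finset (Fin 3)))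
      (fun l _ hl => absurd (by rcases hall l with rfl | rfl | rfl <;> simp) hl)] at h0
    simpa [Finset.sum_insert, hij, hik, hjk, add_assoc] using h0
  have hsum : ∀ f : Fin 3 → F, ∑ l, f l = f i + f j + f k := fun f => by
    rw [← Finset.sum_subset (Finset.subset_univ ({i, j, k} : Finset (Fin 3)))
      (fun l _ hl => absurd (by rcases hall l with rfl | rfl | rfl <;> simp) hl)]
    simp [Finset.sum_insert, hij, hik, hjk, add_assoc]
  obtain ⟨v, hv⟩ : ∃ v, v = (z : F) ^ 3 := ⟨_, rfl⟩
  have hv0 : v ≠ 0 := hv ▸ pow_ne_zero 3 z.ne_zero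
  have hv4 : v ^ 4 = -1 := by
    have h8 : (v ^ 4) ^ 2 = 1 := by
      rw [hv, ← pow_mul, ← pow_mul, ← Units.val_pow_eq_pow_val, show 3 * (4 * 2) = 8 * 3 by norm_num, pow_mul,
        show z ^ 8 = 1 from orderOf_dvd_iff_pow_eq_one.1 (hz ▸ dvd_rfl), one_pow, Units.val_one]
    refine ((sq_eq_one_iff.1 h8).resolve_left fun e => ?_)
    have h12 : z ^ 12 = 1 := Units.ext (by rw [Units.val_pow_eq_pow_val, Units.val_one, ← e, hv, ← pow_mul])
    have := orderOf_dvd_of_pow_eq_one h12
    rw [hz] at this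
    norm_num at this
  have hξ : ξ = (φ i * c i) ^ 2 * (2 - v - v⁻¹) := by
    rw [hξdef, flagProd_mono, hsum, hsum, hdi, hdj, hdk]
    have e : φ j * c j + φ k * c k = -(φ i * c i) := by linear_combination hx
    have hz0 : (z : F) ≠ 0 := z.ne_zero
    simp only [Units.val_inv_eq_inv_val, Units.val_mul]
    rw [show φ i * c i * ((z : F) * (z : F))⁻¹ + φ j * c j * (z : F) + φ k * c k * (z : F) =
        φ i * c i * (((z : F) * (z : F))⁻¹ - (z : F)) by linear_combination (z : F) * e,
      show φ i * c i * (((z : F) * (z : F))⁻¹)⁻¹ + φ j * c j * (z : F)⁻¹ + φ k * c k * (z : F)⁻¹ =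
        φ i * c i * ((z : F) * (z : F) - (z : F)⁻¹) by rw [inv_inv]; linear_combination (z : F)⁻¹ * e, hv]
    field_simp
    ring
  have hr4 : (2 - v - v⁻¹) ^ 4 = -1 := by
    field_simp
    linear_combination (v ^ 4 - 8 * v ^ 3 + 28 * v ^ 2 - 56 * v + 70) * hv4 +
      (-16 * v ^ 3 + 16 * v - 23) * h3
  have hξ4 : ξ ^ 4 = -1 := by
    rw [hξ, mul_pow, hr4, ← pow_mul, show 2 * 4 = Fintype.card F - 1 by rw [h9],
      FiniteField.pow_card_sub_one_eq_one _ hi, one_mul]
  have hn1 : (1 : F) ≠ -1 := fun e => one_ne_zero (α := F) (by linear_combination h3 - e)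
  have hξ0 : ξ ≠ 0 := fun e => by rw [e] at hξ4; simp at hξ4
  set g := monoGL 1 d
  have hconj := hE.conj hm
  have heq : φ ⬝ᵥ ((g : M3) *ᵥ c) * ((φ ᵥ* ((g⁻¹ : GL (Fin 3) F) : M3)) ⬝ᵥ c) = ξ := by
    rw [← Matrix.dotProduct_mulVec]; rfl
  have hbot : ∀ y ∈ (⊥ : Subfield F), y ^ 3 = y := by
    intro y hy
    obtain ⟨m, rfl⟩ := exists_natCast_of_mem_bot hy
    haveI : Fact (Nat.Prime 3) := ⟨Nat.prime_three⟩
    exact map_natCast (frobenius F 3) m
  have hcard3 : Nat.card (⊥ : Subfield F) = 3 := by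
    haveI : Fact (Nat.Prime 3) := ⟨Nat.prime_three⟩
    letI := ZMod.algebra F 3
    rw [Subfield.bot_eq_of_zMod_algebra (p := 3)]
    exact (Nat.card_congr (Equiv.ofInjective _ (algebraMap (ZMod 3) F).injective).symm).trans (Nat.card_zmod 3)
  have henl := pairStmt M ⊥ c φ _ _ (rootField_bot hc hφ hE) hconj (by rw [heq]; exact hξ0)
    (by rw [hcard3]; norm_num) (fun _ e => hn1 (by
      rw [heq] at e
      rw [← hξ4]
      linear_combination (1 - ξ ^ 2) * e))
  rw [heq] at henl
  refine fullRootStmt M h.irr c φ (fullRoot_iff.2 ?_)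
  convert henl
  refine (SetLike.coe_injective ?_).symm
  rw [show ((⊤ : Subfield F) : Set F) = Set.univ from Subfield.coe_top]
  set K := Subfield.closure (↑(⊥ : Subfield F) ∪ {ξ})
  refine Set.eq_of_subset_of_ncard_le (Set.subset_univ _) ?_ Set.finite_univ
  rw [Set.ncard_univ, ← Nat.card_coe_set_eq, Nat.card_eq_fintype_card (α := F), h9]
  haveI := Fintype.ofFinite K
  haveI : CharP K 3 := (RingHom.charP_iff_charP K.subtype 3).2 inferInstance
  obtain ⟨m, -, hm'⟩ := FiniteField.card K 3
  rcases Nat.lt_or_ge (m : ℕ) 2 with hlt | hge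
  · exfalso
    rw [show (m : ℕ) = 1 by have := m.pos; omega, pow_one] at hm'
    have hk : (⟨ξ, Subfield.subset_closure (Or.inr rfl)⟩ : K) ^ 3 = ⟨ξ, Subfield.subset_closure (Or.inr rfl)⟩ := by
      conv_lhs => rw [← hm']
      exact FiniteField.pow_card _
    have hk' : ξ ^ 3 = ξ := congrArg Subtype.val hk
    exact hn1 (by rw [← hξ4, show ξ ^ 4 = ξ ^ 3 * ξ by ring, hk', ← sq]; exact mul_left_cancel₀ hξ0 (by
      linear_combination -hk'))
  · show 9 ≤ Nat.card K
    rw [Nat.card_eq_fintype_card, hm']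
    exact le_trans (by norm_num) (Nat.pow_le_pow_right (by norm_num) hge)

/-- An elation gives everything, or characteristic two and rank one. -/
theorem MonoThree.of_elation (h : MonoThree M) (hfour : FourStmt F) (hsm : (2 : F) = 0 → ¬ Nat.card M ∣ 181440)
    (hel : HasElation M) : sl3 F ≤ M ∨ ((2 : F) = 0 ∧ RankOne M) := by
  by_cases hdis : ∃ c φ : Fin 3 → F, c ≠ 0 ∧ φ ≠ 0 ∧ Has M c φ ∧ ∀ i, φ i * c i = 0
  · obtain ⟨c, φ, hc, hφ, hE, hd⟩ := hdis
    exact Or.inl (h.sl_of_disjoint hc hφ hE hd)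
  push Not at hdis
  have hT : ∀ t : Fin 3 → F, t 0 * t 1 * t 2 = 1 → DiagIn M 1 t := by
    intro t ht
    have h0 : ∀ i, t i ≠ 0 := fun i e => by fin_cases i <;> simp_all
    refine ⟨_, h.diag (fun i => Units.mk0 (t i) (h0 i)) (Units.ext (by simpa using ht)), ?_⟩
    rw [Units.val_one, mul_one, one_mul, monoGL_val]
    ext a b
    rcases eq_or_ne a b with rfl | hab
    · simp [monoMat]
    · simp [monoMat, hab]
  rcases splitStmt fullRootStmt pairStmt hfour h.five M h.le h.irr 1 hT hsm hel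
    (fun c φ hc hφ hE => by simpa [OffFrame] using hdis c φ hc hφ hE) with h1 | h1 | h1
  · exact Or.inl h1
  · exact Or.inr h1
  · obtain ⟨c, φ, hc, hφ, hE⟩ := hel
    obtain ⟨i, hi⟩ := hdis c φ hc hφ hE
    exact Or.inl (h.sl_nine h1 hc hφ hE hi)

/-- The diagonal subgroup. -/
def diagHom (F : Type u) [Field F] : Fˣ × Fˣ →* GL (Fin 3) F where
  toFun t := monoGL 1 ![t.1, t.2, (t.1 * t.2)⁻¹]
  map_one' := Units.ext (by
    rw [monoGL_val, Units.val_one, ← monoMat_one]; congr 1; funext k; fin_cases k <;> simp)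
  map_mul' s t := by
    rw [monoGL_mul, one_mul]
    congr 1
    funext k; fin_cases k <;> simp [mul_comm, mul_left_comm, mul_assoc]

theorem card_diagHom : Nat.card (diagHom F).range = (Fintype.card F - 1) ^ 2 := by
  classical
  have hinj : Function.Injective (diagHom F) := by
    intro s t hst
    have := congrArg (fun g : GL (Fin 3) F => ((g : M3) 0 0, (g : M3) 1 1)) hst
    simp [diagHom, monoGL_val, monoMat] at this
    exact Prod.ext (Units.ext this.1) (Units.ext this.2)
  rw [← Nat.card_congr (MonoidHom.ofInjective hinj).toEquiv, Nat.card_prod, Nat.card_eq_fintype_card,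
    Fintype.card_units, sq]

theorem even_card_cases (h2 : (2 : F) = 0) (hq : 5 ≤ Fintype.card F) :
    ¬ (Fintype.card F - 1) ^ 2 ∣ 181440 ∧ ∃ n, 3 ≤ n ∧ Fintype.card F = 2 ^ n := by
  haveI : CharP F 2 := CharTwo.of_one_ne_zero_of_two_eq_zero one_ne_zero h2
  obtain ⟨n, -, hn⟩ := FiniteField.card F 2
  have h3 : 3 ≤ (n : ℕ) := by
    by_contra hlt
    have := Nat.pow_le_pow_right (show 0 < 2 by norm_num) (show (n : ℕ) ≤ 2 by omega)
    omega
  refine ⟨fun hd => ?_, n, h3, hn⟩
  have hle := Nat.le_of_dvd (by norm_num) hd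
  have h9 : (n : ℕ) < 9 := by
    by_contra hge
    have h512 : 2 ^ 9 ≤ 2 ^ (n : ℕ) := Nat.pow_le_pow_right (by norm_num) (by omega)
    have : 511 ^ 2 ≤ (Fintype.card F - 1) ^ 2 := Nat.pow_le_pow_left (by rw [hn]; omega) 2
    norm_num at this hle
    omega
  rw [hn] at hd
  interval_cases h : (n : ℕ) <;> norm_num at hd

/-- The dichotomy over the standard frame. -/
theorem MonoThree.eq_or (h : MonoThree M) (hfour : FourStmt F) (hR1 : RankOneStmt F) (hsolv : SolvStmt F)
    (hsmall : MonoSmallStmt F) : (∀ g ∈ M, IsMono g) ∨ sl3 F ≤ M := by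
  classical
  by_cases hel : HasElation M
  · have hsm : (2 : F) = 0 → ¬ Nat.card M ∣ 181440 := fun h2 hd => by
      have hle : (diagHom F).range ≤ M := by
        rintro _ ⟨t, rfl⟩
        exact h.diag _ (by simp)
      exact (even_card_cases h2 h.five).1 (card_diagHom (F := F) ▸ (Subgroup.card_dvd_of_le hle).trans hd)
    rcases h.of_elation hfour hsm hel with h1 | ⟨h2, hR⟩
    · exact Or.inr h1
    refine Or.inl fun g hg => ?_
    obtain ⟨hndvd, n, hn3, hn⟩ := even_card_cases h2 h.five
    obtain ⟨u, hu⟩ := IsCyclic.exists_ofOrder_eq_natCard (α := Fˣ)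
    rw [Nat.card_eq_fintype_card, Fintype.card_units, hn] at hu
    have hdiag : ∀ a ∈ (diagHom F).range, ∃ t : Fin 3 → F, (a : M3) * ((1 : GL (Fin 3) F) : M3) =
        ((1 : GL (Fin 3) F) : M3) * Matrix.diagonal t := by
      rintro _ ⟨t, rfl⟩
      refine ⟨fun k => ((![t.1, t.2, (t.1 * t.2)⁻¹] k : Fˣ) : F), ?_⟩
      rw [Units.val_one, mul_one, one_mul]
      show monoMat 1 _ = _
      ext a b
      rcases eq_or_ne a b with rfl | hab
      · simp [monoMat]
      · simp [monoMat, hab]
    have hord : 7 ≤ orderOf u ∧ Odd (orderOf u) := by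
      rw [hu]
      have : 2 ^ 3 ≤ 2 ^ n := Nat.pow_le_pow_right (by norm_num) hn3
      refine ⟨by omega, Nat.Even.sub_odd (by omega) ?_ odd_one⟩
      rw [Nat.even_pow]; exact ⟨even_two, by omega⟩
    have hpow : ∀ m : ℕ, m = 6 ∨ m = 12 → (u : F) ^ m ≠ 1 := by
      intro m hm e
      have hd := orderOf_dvd_of_pow_eq_one (Units.ext (by rw [Units.val_pow_eq_pow_val, e, Units.val_one]) : u ^ m = 1)
      have hd' : orderOf u ∣ 12 := hd.trans (by rcases hm with rfl | rfl <;> norm_num)
      have hle := Nat.le_of_dvd (by norm_num) hd'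
      obtain ⟨h7, hodd⟩ := hord
      rw [Nat.odd_iff] at hodd
      generalize orderOf u = k at hd' h7 hle hodd
      interval_cases k <;> omega
    have hMmono := hsolv M h.le h.irr (hR1 h2 M h.le hR) 1 (diagHom F).range (by
      rintro _ ⟨t, rfl⟩
      exact h.diag _ (by simp)) hdiag
      ⟨diagHom F (u, 1), ![(u : F), 1, (u : F)⁻¹], ⟨_, rfl⟩, by
        rw [Units.val_one, mul_one, one_mul]
        show monoMat 1 _ = _
        ext a b
        rcases eq_or_ne a b with rfl | hab
        · fin_cases a <;> simp [monoMat]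
        · simp [monoMat, hab], by
        have h6 := hpow 6 (Or.inl rfl)
        have h12 := hpow 12 (Or.inr rfl)
        have hu0 : (u : F) ^ 6 ≠ 0 := pow_ne_zero 6 u.ne_zero
        intro i j hij e
        have h12' : (u : F) ^ 6 * (u : F) ^ 6 ≠ 1 := by rwa [← pow_add]
        fin_cases i <;> fin_cases j <;>
          simp [inv_eq_iff_eq_inv, eq_inv_iff_mul_eq_one] at hij e <;> first
          | exact h6 e
          | exact h6 e.symm
          | exact h12' e
          | exact h12' (by nth_rw 2 [e]; exact mul_inv_cancel₀ hu0)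
          | exact h12' (by nth_rw 2 [← e]; exact mul_inv_cancel₀ hu0)⟩
      (Or.inl fun hd => hndvd (card_diagHom (F := F) ▸ hd.trans (by norm_num))) g hg
    obtain ⟨π, t, ht⟩ := hMmono
    intro k
    refine ⟨π k, fun l hl => ?_⟩
    have := congrFun (ht k) l
    simp only [Units.val_one, Matrix.one_mulVec] at this
    rw [col_mulVec] at this
    simpa [hl] using this
  · left
    have h20 : (2 : F) ≠ 0 := by
      intro h2
      have h0 : (Pi.single 0 1 + Pi.single 1 1 : Fin 3 → F) ⬝ᵥ (Pi.single 0 1 + Pi.single 1 1) = 0 := by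
        simp [dotProduct, Fin.sum_univ_three, one_add_one_eq_two, h2]
      refine hel ⟨_, _, fun e => by simpa using congrFun e 0, fun e => by simpa using congrFun e 0, h0, ?_⟩
      convert h.mono (Equiv.swap 0 1) (fun _ => 1) ((monoGL_mem_specialLinear_iff _ _).2 (by
        haveI : CharP F 2 := CharTwo.of_one_ne_zero_of_two_eq_zero one_ne_zero h2
        simp [CharTwo.neg_eq])) using 1
      refine Units.ext ?_
      rw [tv_val, monoGL_val]
      ext a b
      fin_cases a <;> fin_cases b <;>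
        simp [monoMat, Matrix.vecMulVec_apply, Equiv.swap_apply_def, one_add_one_eq_two, h2]
    by_cases hs : Fintype.card F = 5 ∨ Fintype.card F = 7 ∨ Fintype.card F = 13
    · exact hsmall hs M h hel
    obtain ⟨u, hu⟩ := IsCyclic.exists_ofOrder_eq_natCard (α := Fˣ)
    rw [Nat.card_eq_fintype_card, Fintype.card_units] at hu
    have h6 : 6 ≤ orderOf (((u : F) ^ 3)⁻¹) := by
      rw [← Units.val_pow_eq_pow_val, ← Units.val_inv_eq_inv_val, orderOf_units, orderOf_inv,
        orderOf_pow' u three_ne_zero, hu]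
      have hodd : Odd (Fintype.card F) := Nat.odd_iff.2 (FiniteField.odd_card_of_char_ne_two fun hc => h20 (by
        haveI := ringChar.of_eq hc
        exact CharP.cast_eq_zero F 2))
      have h5 := h.five
      rw [Nat.odd_iff] at hodd
      push Not at hs
      obtain ⟨hs5, hs7, hs13⟩ := hs
      rcases Nat.lt_or_ge (Fintype.card F) 19 with hlt | hge
      · have hpp : IsPrimePow (Fintype.card F) := FiniteField.isPrimePow_card F
        have hnot : Fintype.card F ≠ 15 := fun e => by
          rw [e, isPrimePow_nat_iff] at hpp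
          obtain ⟨r, k, hr, -, hrk⟩ := hpp
          have h3' := (Nat.prime_dvd_prime_iff_eq Nat.prime_three hr).1
            (Nat.prime_three.dvd_of_dvd_pow (hrk ▸ (by norm_num : 3 ∣ 15)))
          have h5' := (Nat.prime_dvd_prime_iff_eq Nat.prime_five hr).1
            (Nat.prime_five.dvd_of_dvd_pow (hrk ▸ (by norm_num : 5 ∣ 15)))
          omega
        generalize Fintype.card F = N at h5 hlt hodd hs5 hs7 hs13 hnot ⊢
        interval_cases N <;> first | omega | decide
      · have hg : Nat.gcd (Fintype.card F - 1) 3 ≤ 3 := Nat.le_of_dvd (by norm_num) (Nat.gcd_dvd_right _ _)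
        refine le_trans ?_ (Nat.div_le_div_left hg (Nat.gcd_pos_of_pos_right _ (by norm_num)))
        omega
    have hHom : ∀ i : Fin 3, Hom M (u : F) (Pi.single i 1) (Pi.single i 1) := by
      intro i
      obtain ⟨j, k, hij, hik, hjk, hall⟩ := exists_other_two i
      obtain ⟨d, hd, hdi, hdj, hdk⟩ := exists_diag_entries hij hik hjk (u * u)⁻¹ u u (by rw [mul_assoc, inv_mul_cancel])
      refine ⟨by simp, _, h.diag d hd, ?_⟩
      rw [monoGL_val, homMat]
      ext a b
      rcases eq_or_ne a b with rfl | hab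
      · rcases hall a with rfl | rfl | rfl
        · simp [monoMat, Matrix.vecMulVec_apply, hdi]
          field_simp
        · simp [monoMat, Matrix.vecMulVec_apply, hdj, hij.symm]
        · simp [monoMat, Matrix.vecMulVec_apply, hdk, hik.symm]
      · simp [monoMat, Matrix.vecMulVec_apply, hab, Matrix.one_apply]
        rcases eq_or_ne a i with rfl | ha
        · simp [hab.symm]
        · simp [ha]
    intro g hg k
    have hc := (hHom k).conj hg
    have hd := hc.1
    have hcase : ∀ j, ((g : M3) *ᵥ Pi.single k 1) ∈ Submodule.span F {(Pi.single j 1 : Fin 3 → F)} ∨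
        (((g : M3) *ᵥ Pi.single k 1) j = 0 ∧
          ((Pi.single k 1 : Fin 3 → F) ᵥ* ((g⁻¹ : GL (Fin 3) F) : M3)) j = 0) := fun j => by
      rcases centre_dichotomy u.ne_zero h6 hel (hHom j) hc with h1 | ⟨h1, h2⟩
      · exact Or.inl h1
      · exact Or.inr ⟨by simpa using h1, by simpa using h2⟩
    by_contra hcon
    push Not at hcon
    have hz : ((Pi.single k 1 : Fin 3 → F) ᵥ* ((g⁻¹ : GL (Fin 3) F) : M3)) = 0 := by
      funext j
      rcases hcase j with h1 | ⟨-, h1⟩
      · exfalso
        obtain ⟨t, ht⟩ := Submodule.mem_span_singleton.1 h1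
        obtain ⟨l, hl, hlne⟩ := hcon j
        refine hlne ?_
        have := congrFun ht l
        rw [col_mulVec] at this
        simpa [hl] using this.symm
      · exact h1
    rw [hz, zero_dotProduct] at hd
    exact zero_ne_one hd

/-- Row 2 of S5774, given the auxiliary statements. -/
theorem linMonoRow (hfour : FourStmt F) (hR1 : RankOneStmt F) (hsolv : SolvStmt F) (hsmall : MonoSmallStmt F) :
    LinMonoRow F := by
  intro hq D hD
  refine DecompFour.decomposition_maximal_of D hD fun ee H hH => ?_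
  classical
  let E : Fin 3 ≃ Fin 3 := ee.trans (Equiv.prodUnique (Fin 3) (Fin 1))
  have hE : ∀ x, (ee x).1 = E x := fun x => rfl
  have hM : MonoThree H :=
    { le := hH.le
      five := hq
      mono := fun σ d hsl => hH.block _ ⟨E.symm.trans (σ.trans E), fun b a hba => by
        simp only [monoGL_val, monoMat, Matrix.of_apply, ne_eq, ite_eq_right_iff, Classical.not_imp] at hba
        simp only [hE]
        simp [hba.1]⟩ hsl }
  rcases hM.eq_or hfour hR1 hsolv hsmall with h | h
  · refine Or.inl fun g hg => ?_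
    obtain ⟨σ, d, rfl⟩ := (h g hg).exists_eq
    refine ⟨E.symm.trans (σ.trans E), fun b a hba => ?_⟩
    simp only [monoGL_val, monoMat, Matrix.of_apply, ne_eq, ite_eq_right_iff, Classical.not_imp] at hba
    simp only [hE]
    simp [hba.1]
  · exact Or.inr h

end CfsgLib.Dim3Max
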