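import Cfsg.Agent.Lib.Dim3Max.LinMono

/-!
Overgroups without elations of the monomial group of `SL₃(q)` for `q = 5, 7, 13`.

The centres of the homologies conjugate to the diagonal one are the vertices, or also the points of the sides, or
all points of the plane; the last would be a polarity without absolute points.
-/

set_option autoImplicit false
set_option linter.unusedSectionVars false

namespace CfsgLib.Dim3Max

open scoped Matrix MatrixGroups LinearAlgebra.Projectivization
open CfsgLib.Maximal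

universe u

variable {F : Type u} [Field F] [Fintype F] {M : Subgroup (GL (Fin 3) F)}

local notation "M3" => Matrix (Fin 3) (Fin 3) F
local notation "V3" => (Fin 3 → F)
local notation "P2" => ℙ F (Fin 3 → F)

/-- The centres of homologies of the same kind in a subgroup without elations determine their axes. -/
theorem Hom.axis_eq {a : F} (ha : a ≠ 0) (hv : (a ^ 3)⁻¹ ≠ 1) (hno : ¬ HasElation M) {c φ φ' : V3}
    (h : Hom M a c φ) (h' : Hom M a c φ') : φ = φ' :=
  by_contra fun hne => hno (hasElation_of_centre ha hv h h' hne)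

theorem Hom.centre_eq {a : F} (ha : a ≠ 0) (hv : (a ^ 3)⁻¹ ≠ 1) (hno : ¬ HasElation M) {c c' φ : V3}
    (h : Hom M a c φ) (h' : Hom M a c' φ) : c = c' :=
  by_contra fun hne => hno (hasElation_of_axis ha hv h h' hne)

/-- The relation "lies on the axis" is symmetric. -/
theorem Hom.symm_dot {a : F} (ha : a ≠ 0) (hv : (a ^ 3)⁻¹ ≠ 1) (hno : ¬ HasElation M) {c c' φ φ' : V3}
    (h : Hom M a c φ) (h' : Hom M a c' φ') (h0 : φ ⬝ᵥ c' = 0) : φ' ⬝ᵥ c = 0 := by
  obtain ⟨hd, s, hs, hsv⟩ := h
  have hsc' : (s : M3) *ᵥ c' = a • c' := by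
    rw [hsv, homMat, Matrix.smul_mulVec, Matrix.add_mulVec, Matrix.one_mulVec, Matrix.smul_mulVec,
      Matrix.vecMulVec_mulVec, h0]
    simp
  have hsc : (s : M3) *ᵥ ((a ^ 2) • c) = c := by
    rw [Matrix.mulVec_smul, hsv, homMat, Matrix.smul_mulVec, Matrix.add_mulVec, Matrix.one_mulVec, Matrix.smul_mulVec,
      Matrix.vecMulVec_mulVec, hd]
    simp only [MulOpposite.op_one, one_smul]
    rw [show c + ((a ^ 3)⁻¹ - 1) • c = ((a ^ 3)⁻¹) • c by module, smul_smul, smul_smul,
      show a ^ 2 * a * (a ^ 3)⁻¹ = 1 by field_simp, one_smul]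
  have hy := (h'.conj hs).rescale (inv_ne_zero ha)
  rw [hsc', smul_smul, inv_mul_cancel₀ ha, one_smul, inv_inv] at hy
  have he := congrArg (· ⬝ᵥ c) (h'.axis_eq ha hv hno hy)
  nth_rw 2 [← hsc] at he
  rw [smul_dotProduct, dot_vecMul_inv, dotProduct_smul, smul_eq_mul, smul_eq_mul] at he
  have h3 : a ^ 3 ≠ 1 := fun e => hv (by rw [e, inv_one])
  by_contra hne
  exact h3 (mul_right_cancel₀ hne (by linear_combination -he))

/-- The action on the points. -/
@[reducible] def pointAction (M : Subgroup (GL (Fin 3) F)) : MulAction M P2 :=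
  MulAction.compHom _ ((Matrix.ProjGenLinGroup.mk (n := Fin 3) (R := F)).comp M.subtype)

theorem pointAction_mk (g : M) {v : V3} (hv : v ≠ 0) :
    (pointAction M).smul g (Projectivization.mk F v hv) =
      Projectivization.mk F ((g.1 : M3) *ᵥ v) (mulVec_ne_zero g.1 hv) := rfl

theorem card_sl3_eq : Nat.card (sl3 F) = Nat.card (Matrix.SpecialLinearGroup (Fin 3) F) :=
  Nat.card_congr
    { toFun := fun g => ⟨(g.1 : M3), (mem_specialLinear_iff g.1).1 g.2⟩
      invFun := fun s => ⟨Matrix.SpecialLinearGroup.toGL s, (mem_specialLinear_iff _).2 s.2⟩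
      left_inv := fun g => Subtype.ext (Units.ext rfl)
      right_inv := fun s => Subtype.ext rfl }

/-- The number of points with a representative in a non-zero subspace is one modulo the characteristic. -/
theorem card_points_mod {p : ℕ} (hp : Fintype.card F = p) (W : Submodule F V3) (hW : W ≠ ⊥) :
    ((Nat.card {P : P2 // P.rep ∈ W} : ℕ) : ZMod p) = 1 := by
  let f : ℙ F W → {P : P2 // P.rep ∈ W} := fun Q =>
    ⟨Projectivization.map W.subtype W.injective_subtype Q, by
      induction Q using Projectivization.ind with | _ w hw =>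
      rw [Projectivization.map_mk]
      obtain ⟨t, ht⟩ := Projectivization.exists_smul_eq_mk_rep F (W.subtype w)
        (fun e => hw (W.injective_subtype (e.trans (map_zero _).symm)))
      rw [← ht]; exact W.smul_mem _ w.2⟩
  have hf : Function.Bijective f := by
    refine ⟨fun Q Q' h => Projectivization.map_injective W.subtype W.injective_subtype (congrArg Subtype.val h),
      fun P => ?_⟩
    refine ⟨Projectivization.mk F (⟨P.1.rep, P.2⟩ : W) (fun e => P.1.rep_nonzero (congrArg Subtype.val e)),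
      Subtype.ext ?_⟩
    simp only [f]
    rw [Projectivization.map_mk]
    exact P.1.mk_rep
  rw [← Nat.card_congr (Equiv.ofBijective f hf)]
  have h := Projectivization.card' F W
  have hk : 0 < Module.finrank F W := Module.finrank_pos_iff.2 (Submodule.nontrivial_iff_ne_bot.2 hW)
  rw [Module.natCard_eq_pow_finrank (K := F), Nat.card_eq_fintype_card (α := F), hp] at h
  have h1 : 1 ≤ p := hp ▸ Fintype.card_pos
  have h2 := congrArg (fun n : ℕ => (n : ZMod p)) h
  push_cast [Nat.cast_sub h1] at h2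
  rw [ZMod.natCast_self, zero_pow hk.ne', zero_sub, mul_neg, mul_one] at h2
  linear_combination h2

/-- A symmetric relation of this kind on all points is impossible. -/
theorem no_polarity {q : ℕ} [Fact q.Prime] (hq : Fintype.card F = q) (hodd : q ≠ 2) (φ : P2 → V3)
    (hdiag : ∀ P : P2, φ P ⬝ᵥ P.rep = 1) (hsymm : ∀ P Q : P2, φ P ⬝ᵥ Q.rep = 0 → φ Q ⬝ᵥ P.rep = 0)
    (hind : ∀ P Q : P2, ∀ t : F, φ Q = t • φ P → P = Q) : False := by
  classical
  haveI : Fintype P2 := Fintype.ofFinite _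
  let A : Matrix P2 P2 (ZMod q) := Matrix.of fun P Q => if φ P ⬝ᵥ Q.rep = 0 then 1 else 0
  have hN : (Fintype.card P2 : ZMod q) = 1 := by
    rw [← Nat.card_eq_fintype_card, ← card_points_mod hq ⊤ top_ne_bot]
    exact congrArg _ (Nat.card_congr (Equiv.subtypeUnivEquiv fun P => Submodule.mem_top).symm)
  have hker : ∀ P Q : P2, ((Nat.card {R : P2 // φ P ⬝ᵥ R.rep = 0 ∧ φ Q ⬝ᵥ R.rep = 0} : ℕ) : ZMod q) = 1 := by
    intro P Q
    let L : V3 →ₗ[F] (Fin 2 → F) := Matrix.mulVecLin (Matrix.of ![φ P, φ Q])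
    have hmem : ∀ R : P2, R.rep ∈ LinearMap.ker L ↔ φ P ⬝ᵥ R.rep = 0 ∧ φ Q ⬝ᵥ R.rep = 0 := fun R => by
      rw [LinearMap.mem_ker]
      constructor
      · intro h; exact ⟨congrFun h 0, congrFun h 1⟩
      · rintro ⟨h1, h2⟩; funext i; fin_cases i
        · exact h1
        · exact h2
    have hne : LinearMap.ker L ≠ ⊥ := fun h => by
      have := LinearMap.finrank_le_finrank_of_injective (LinearMap.ker_eq_bot.1 h)
      simp at this
    rw [← card_points_mod hq _ hne]
    exact congrArg _ (Nat.card_congr (Equiv.subtypeEquivRight fun R => (hmem R).symm))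
  have hA : A * A = Matrix.of fun _ _ => 1 := by
    ext P Q
    rw [Matrix.mul_apply, Matrix.of_apply]
    have : ∀ R, A P R * A R Q = if φ P ⬝ᵥ R.rep = 0 ∧ φ Q ⬝ᵥ R.rep = 0 then 1 else 0 := by
      intro R
      simp only [A, Matrix.of_apply]
      have hsw : φ R ⬝ᵥ Q.rep = 0 ↔ φ Q ⬝ᵥ R.rep = 0 := ⟨hsymm _ _, hsymm _ _⟩
      by_cases h1 : φ P ⬝ᵥ R.rep = 0 <;> by_cases h2 : φ R ⬝ᵥ Q.rep = 0 <;>
        simp [h1, h2, hsw.symm]
    simp only [this, Finset.sum_boole]
    rw [← Fintype.card_subtype, ← Nat.card_eq_fintype_card]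
    exact hker P Q
  have hpow : ∀ j : ℕ, (A * A) ^ (j + 1) = A * A := by
    intro j
    induction j with
    | zero => rw [zero_add, pow_one]
    | succ j ih =>
      rw [pow_succ, ih, hA]
      ext P Q
      simp [Matrix.mul_apply, Finset.card_univ, hN]
  obtain ⟨m, hm⟩ := (Fact.out : q.Prime).odd_of_ne_two hodd
  have hm1 : 1 ≤ m := by have := (Fact.out : q.Prime).two_le; omega
  have htr : Matrix.trace (A ^ q) = 1 := by
    rw [show A ^ q = A ^ (2 * m + 1) from congrArg (A ^ ·) hm, pow_add, pow_one, pow_mul, sq,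
      show m = (m - 1) + 1 by omega, hpow, hA, Matrix.trace]
    simp only [Matrix.diag_apply, Matrix.mul_apply, Matrix.of_apply, one_mul]
    have hcol : ∀ Q : P2, ∑ P : P2, A P Q = 1 := by
      intro Q
      have h := hker Q Q
      rw [Nat.card_eq_fintype_card, Fintype.card_subtype] at h
      simp only [A, Matrix.of_apply, Finset.sum_boole]
      convert h using 4
      exact ⟨fun h => ⟨hsymm _ _ h, hsymm _ _ h⟩, fun h => hsymm _ _ h.1⟩
    rw [Finset.sum_congr rfl fun Q _ => hcol Q]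
    simp [Finset.card_univ, hN]
  rw [ZMod.trace_pow_card] at htr
  have h0 : Matrix.trace A = 0 := by
    refine Finset.sum_eq_zero fun P _ => ?_
    simp [A, hdiag P]
  rw [h0, zero_pow (Fact.out : q.Prime).ne_zero] at htr
  exact zero_ne_one htr

/-- The point of a triple of coordinates in one of three shapes. -/
def shapeVec : Fin 3 ⊕ (Fin 3 × Fˣ) ⊕ (Fˣ × Fˣ) → V3
  | .inl i => Pi.single i 1
  | .inr (.inl (i, y)) => Pi.single (i + 1) 1 + Pi.single (i + 2) (y : F)
  | .inr (.inr (y, z)) => ![1, (y : F), (z : F)]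

theorem fin_three_shift (i : Fin 3) : i + 1 ≠ i + 2 ∧ i ≠ i + 1 ∧ i ≠ i + 2 ∧
    ∀ l, l = i ∨ l = i + 1 ∨ l = i + 2 := by
  revert i; decide

theorem shapeVec_ne_zero (x : Fin 3 ⊕ (Fin 3 × Fˣ) ⊕ (Fˣ × Fˣ)) : shapeVec x ≠ 0 := by
  rcases x with i | ⟨i, y⟩ | ⟨y, z⟩
  · intro e; simpa [shapeVec] using congrFun e i
  · intro e; simpa [shapeVec, (fin_three_shift i).1] using congrFun e (i + 1)
  · intro e; simpa [shapeVec] using congrFun e 0

/-- The point of a shape. -/
def shapePt (x : Fin 3 ⊕ (Fin 3 × Fˣ) ⊕ (Fˣ × Fˣ)) : P2 :=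
  Projectivization.mk F (shapeVec x) (shapeVec_ne_zero x)

theorem shapePt_bijective : Function.Bijective (shapePt (F := F)) := by
  constructor
  · intro x x' h
    obtain ⟨t, ht⟩ := (Projectivization.mk_eq_mk_iff' F _ _ _ _).1 h
    have e0 := congrFun ht 0
    have e1 := congrFun ht 1
    have e2 := congrFun ht 2
    rcases x with i | ⟨i, y⟩ | ⟨y, z⟩ <;> rcases x' with i' | ⟨i', y'⟩ | ⟨y', z'⟩ <;>
      (try fin_cases i) <;> (try fin_cases i') <;> simp [shapeVec] at e0 e1 e2 ⊢ <;>
      simp_all <;> first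
      | exact absurd e0 (Units.ne_zero _)
      | exact absurd e1 (Units.ne_zero _)
      | exact absurd e2 (Units.ne_zero _)
      | exact absurd e0.symm (Units.ne_zero _)
      | exact absurd e1.symm (Units.ne_zero _)
      | exact absurd e2.symm (Units.ne_zero _)
      | exact Units.ext (by simp_all)
      | exact ⟨Units.ext (by simp_all), Units.ext (by simp_all)⟩
  · intro P
    induction P using Projectivization.ind with | _ w hw =>
    by_cases h : ∀ l, w l ≠ 0
    · refine ⟨.inr (.inr (Units.mk0 (w 1 / w 0) (div_ne_zero (h 1) (h 0)),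
        Units.mk0 (w 2 / w 0) (div_ne_zero (h 2) (h 0)))), ?_⟩
      refine (Projectivization.mk_eq_mk_iff' F _ _ _ _).2 ⟨(w 0)⁻¹, ?_⟩
      funext l; fin_cases l <;> simp [shapeVec, h 0, div_eq_inv_mul]
    push Not at h
    obtain ⟨i, hi⟩ := h
    obtain ⟨h12, h01, h02, hall⟩ := fin_three_shift i
    by_cases h1 : w (i + 1) = 0
    · have h2 : w (i + 2) ≠ 0 := fun e => hw (funext fun l => by rcases hall l with rfl | rfl | rfl <;> assumption)
      refine ⟨.inl (i + 2), (Projectivization.mk_eq_mk_iff' F _ _ _ _).2 ⟨(w (i + 2))⁻¹, ?_⟩⟩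
      funext l; rcases hall l with rfl | rfl | rfl <;> simp [shapeVec, hi, h1, h2, h02, h12]
    by_cases h2 : w (i + 2) = 0
    · refine ⟨.inl (i + 1), (Projectivization.mk_eq_mk_iff' F _ _ _ _).2 ⟨(w (i + 1))⁻¹, ?_⟩⟩
      funext l; rcases hall l with rfl | rfl | rfl <;> simp [shapeVec, hi, h1, h2, h01, h12.symm]
    refine ⟨.inr (.inl (i, Units.mk0 (w (i + 2) / w (i + 1)) (div_ne_zero h2 h1))),
      (Projectivization.mk_eq_mk_iff' F _ _ _ _).2 ⟨(w (i + 1))⁻¹, ?_⟩⟩
    funext l
    rcases hall l with rfl | rfl | rfl <;>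
      simp [shapeVec, hi, h1, h01, h02, h12, h12.symm, div_eq_inv_mul]

/-- A functional whose kernel meets the interior of the triangle. -/
theorem exists_full_zero (hq : 5 ≤ Fintype.card F) {ψ : V3} {i j : Fin 3} (hij : i ≠ j) (hi : ψ i ≠ 0)
    (hj : ψ j ≠ 0) : ∃ w : V3, ψ ⬝ᵥ w = 0 ∧ ∀ l, w l ≠ 0 := by
  classical
  obtain ⟨k, hik, hjk, hall⟩ := exists_pair_three i j hij
  obtain ⟨t, ht0, ht1⟩ : ∃ t : F, t ≠ 0 ∧ t * ψ j + ψ k ≠ 0 := by
    by_contra hcon
    push Not at hcon
    have h1 := hcon 1 one_ne_zero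
    have h2 : (Finset.univ.filter fun t : F => t ≠ 0).card ≤ 1 := by
      refine Finset.card_le_one.2 fun a ha b hb => ?_
      simp only [Finset.mem_filter] at ha hb
      exact mul_right_cancel₀ hj (by linear_combination hcon a ha.2 - hcon b hb.2)
    rw [Finset.filter_ne', Finset.card_erase_of_mem (Finset.mem_univ _), Finset.card_univ] at h2
    omega
  set s := -(t * ψ j + ψ k) / ψ i with hs
  refine ⟨fun l => if l = i then s else if l = j then t else 1, ?_, fun l => ?_⟩
  · rw [dotProduct, ← Finset.sum_subset (Finset.subset_univ ({i, j, k} : Finset (Fin 3)))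
      (fun l _ hl => absurd (by rcases hall l with rfl | rfl | rfl <;> simp) hl)]
    simp [Finset.sum_insert, hij, hik, hjk, hij.symm, hik.symm, hjk.symm, hs, mul_div_cancel₀ _ hi]
    ring
  · rcases hall l with rfl | rfl | rfl
    · simp [hs, hi]
      intro e; apply ht1; linear_combination -e
    · simp [hij.symm, ht0]
    · simp [hik.symm, hjk.symm]

/-- The twisted torus acting freely on the interior points. -/
def ratioHom (F : Type u) [Field F] : Fˣ × Fˣ →* Fˣ × Fˣ where
  toFun t := (t.2 * t.1⁻¹, (t.1 * t.1 * t.2)⁻¹)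
  map_one' := by simp
  map_mul' s t := Prod.ext (by simp [mul_comm, mul_left_comm, mul_assoc])
    (by simp [mul_comm, mul_left_comm, mul_assoc])

theorem num_five {N a : ℕ} (ha : 16 ∣ a) (hle : a ≤ 16) (hN : N ∣ 23250) :
    (N = 3 + a → a = 0) ∧ (N = 15 + a → a = 0 ∨ a = 16) := by
  constructor <;> intro h <;> subst h <;> interval_cases a <;> omega

theorem num_seven {N a : ℕ} (ha : 12 ∣ a) (hle : a ≤ 36) (hN : N ∣ 156408) :
    (N = 3 + a → a = 0) ∧ (N = 21 + a → a = 0 ∨ a = 36) := by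
  constructor <;> intro h <;> subst h <;> interval_cases a <;> omega

theorem num_thirteen {N a : ℕ} (ha : 48 ∣ a) (hle : a ≤ 144) (hN : N ∣ 5628714) :
    (N = 3 + a → a = 0) ∧ (N = 39 + a → a = 0 ∨ a = 144) := by
  constructor <;> intro h <;> subst h <;> interval_cases a <;> omega

/-- The small orders. -/
theorem monoSmallStmt : MonoSmallStmt F := by
  classical
  intro hcases M hM hno g hg
  set q := Fintype.card F with hqdef
  have hqp : q.Prime := by rcases hcases with h | h | h <;> rw [h] <;> norm_num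
  haveI : Fact q.Prime := ⟨hqp⟩
  obtain ⟨u, hu⟩ := IsCyclic.exists_ofOrder_eq_natCard (α := Fˣ)
  rw [Nat.card_eq_fintype_card, Fintype.card_units, ← hqdef] at hu
  have hv : ((u : F) ^ 3)⁻¹ ≠ 1 := fun e => by
    have e' : u ^ 3 = 1 := Units.ext (by simpa using inv_eq_one.1 e)
    have h3 := orderOf_dvd_of_pow_eq_one e'
    rw [hu] at h3
    have := Nat.le_of_dvd (by norm_num) h3
    rcases hcases with h | h | h <;> rw [h] at this <;> omega
  have hu0 := u.ne_zero
  have hHom : ∀ i : Fin 3, Hom M (u : F) (Pi.single i 1) (Pi.single i 1) := by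
    intro i
    obtain ⟨j, k, hij, hik, hjk, hall⟩ := exists_other_two i
    obtain ⟨d, hd, hdi, hdj, hdk⟩ := exists_diag_entries hij hik hjk (u * u)⁻¹ u u (by rw [mul_assoc, inv_mul_cancel])
    refine ⟨by simp, _, hM.diag d hd, ?_⟩
    rw [monoGL_val, homMat]
    ext a b
    rcases eq_or_ne a b with rfl | hab
    · rcases hall a with rfl | rfl | rfl
      · simp [monoMat, Matrix.vecMulVec_apply, hdi]
        field_simp
      · simp [monoMat, Matrix.vecMulVec_apply, hdj, hij.symm]
      · simp [monoMat, Matrix.vecMulVec_apply, hdk, hik.symm]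
    · simp [monoMat, Matrix.vecMulVec_apply, hab]
      rcases eq_or_ne a i with rfl | ha
      · simp [hab.symm]
      · simp [ha]
  letI : MulAction M P2 := pointAction M
  haveI : Fintype P2 := Fintype.ofFinite _
  set P₀ : P2 := shapePt (.inl 2)
  set Ω : Set P2 := MulAction.orbit M P₀
  have hmk : ∀ (m : GL (Fin 3) F) (hm : m ∈ M) (v : V3) (hv0 : v ≠ 0), Projectivization.mk F v hv0 ∈ Ω →
      Projectivization.mk F ((m : M3) *ᵥ v) (mulVec_ne_zero m hv0) ∈ Ω := by
    intro m hm v hv0 h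
    have := MulAction.mem_orbit_iff.1 h
    obtain ⟨g', hg'⟩ := this
    exact MulAction.mem_orbit_iff.2 ⟨⟨m, hm⟩ * g', by rw [mul_smul, hg']; rfl⟩
  have hcentre : ∀ P ∈ Ω, ∃ φ : V3, Hom M (u : F) P.rep φ := by
    intro P hP
    obtain ⟨m, rfl⟩ := MulAction.mem_orbit_iff.1 hP
    obtain ⟨t, ht⟩ := Projectivization.exists_smul_eq_mk_rep F ((m.1 : M3) *ᵥ Pi.single (2 : Fin 3) 1)
      (mulVec_ne_zero m.1 (by simp))
    exact ⟨_, (show (m • P₀).rep = (t : F) • ((m.1 : M3) *ᵥ Pi.single (2 : Fin 3) 1) from ht.symm) ▸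
      (((hHom 2).conj m.2).rescale t.ne_zero)⟩
  have hvert : ∀ i : Fin 3, shapePt (F := F) (.inl i) ∈ Ω := by
    intro i
    obtain ⟨d, hd⟩ := hM.exists_perm (Equiv.swap 2 i)
    refine MulAction.mem_orbit_iff.2 ⟨⟨_, hd⟩, (Projectivization.mk_eq_mk_iff' F _ _ _ _).2 ⟨(d 2 : F), ?_⟩⟩
    funext l
    show (d 2 : F) * (Pi.single i 1 : V3) l = ((monoGL (Equiv.swap 2 i) d : M3) *ᵥ Pi.single 2 1) l
    rw [monoGL_val, monoMat_mulVec']
    rcases eq_or_ne l i with rfl | hl
    · simp
    · have h' : Equiv.swap 2 i l ≠ 2 := fun e' => hl (by simpa using congrArg (Equiv.swap 2 i) e')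
      simp [Equiv.symm_swap, h', hl]
  -- the side points form one class
  have hedge : ∀ (i : Fin 3) (y : Fˣ), shapePt (F := F) (.inr (.inl (i, y))) ∈ Ω →
      ∀ (i' : Fin 3) (y' : Fˣ), shapePt (F := F) (.inr (.inl (i', y'))) ∈ Ω := by
    intro i y h i' y'
    set σ := Equiv.addRight (i' - i)
    obtain ⟨d, hd⟩ := hM.exists_perm σ
    have h1 := hmk _ hd _ (shapeVec_ne_zero _) h
    obtain ⟨h12, h01, h02, hall⟩ := fin_three_shift i'
    set r : Fˣ := y' * (d (i + 1)) * (d (i + 2) * y)⁻¹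
    obtain ⟨d', hd', hd'0, hd'1, hd'2⟩ :=
      exists_diag_entries h01 h02 h12 r⁻¹ 1 r (by simp)
    have h2 := hmk _ (hM.diag d' hd') _ (mulVec_ne_zero _ (shapeVec_ne_zero _)) h1
    convert h2 using 1
    refine (Projectivization.mk_eq_mk_iff' F _ _ _ _).2 ⟨((d (i + 1))⁻¹ : Fˣ), ?_⟩
    funext l
    have es : ∀ m : Fin 3, σ.symm (i' + m) = i + m := fun m => by simp [σ]; abel
    rw [monoGL_val, Pi.smul_apply, monoMat_one_mulVec, monoGL_val, monoMat_mulVec']
    rcases hall l with rfl | rfl | rfl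
    · have := es 0
      simp only [add_zero] at this
      simp [shapeVec, this, h01, h02, (fin_three_shift i).2.1, (fin_three_shift i).2.2.1]
    · simp [shapeVec, es 1, h12, (fin_three_shift i).1, hd'1]
    · simp [shapeVec, es 2, h12.symm, (fin_three_shift i).1.symm, hd'2, r]
      field_simp
  -- the interior points
  let S : Set (Fˣ × Fˣ) := {x | shapePt (F := F) (.inr (.inr x)) ∈ Ω}
  let T' : Subgroup (Fˣ × Fˣ) := (powMonoidHom 4 : Fˣ →* Fˣ).ker.comap (MonoidHom.snd Fˣ Fˣ)
  let R : Subgroup (Fˣ × Fˣ) := T'.map (ratioHom F)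
  have hSinv : ∀ x ∈ S, ∀ r ∈ R, r * x ∈ S := by
    rintro x hx _ ⟨t, -, rfl⟩
    have h2 := hmk _ (hM.diag ![t.1, t.2, (t.1 * t.2)⁻¹] (by simp)) _ (shapeVec_ne_zero _) hx
    show shapePt _ ∈ Ω
    convert h2 using 1
    refine (Projectivization.mk_eq_mk_iff' F _ _ _ _).2 ⟨((t.1)⁻¹ : Fˣ), ?_⟩
    funext l
    rw [monoGL_val, Pi.smul_apply, monoMat_one_mulVec]
    fin_cases l <;> simp [shapeVec, ratioHom] <;> field_simp
  have hcardU : Nat.card Fˣ = q - 1 := by rw [Nat.card_eq_fintype_card, Fintype.card_units]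
  have hker4 : Nat.card (powMonoidHom 4 : Fˣ →* Fˣ).ker = Nat.gcd (q - 1) 4 := by
    rw [IsCyclic.card_powMonoidHom_ker, hcardU]
  have hRcard : Nat.card R = (q - 1) * Nat.gcd (q - 1) 4 := by
    have hinj : Function.Injective ((ratioHom F).domRestrict T') := by
      rw [injective_iff_map_eq_one]
      rintro ⟨⟨x, y⟩, hy⟩ h
      have hy4 : y ^ 4 = 1 := hy
      obtain ⟨h1, h2⟩ := Prod.ext_iff.1 h
      have hxy : y = x := mul_inv_eq_one.1 h1
      subst hxy
      have h2' : y * y * y = 1 := inv_eq_one.1 h2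
      have : y = 1 := by
        rw [pow_succ, pow_succ, pow_two, h2', one_mul] at hy4
        exact hy4
      subst this
      rfl
    rw [show R = ((ratioHom F).domRestrict T').range from (MonoidHom.domRestrict_range T' (ratioHom F)).symm,
      ← Nat.card_congr (MonoidHom.ofInjective hinj).toEquiv]
    let e : T' ≃ Fˣ × (powMonoidHom 4 : Fˣ →* Fˣ).ker :=
      { toFun := fun t => (t.1.1, ⟨t.1.2, t.2⟩), invFun := fun x => ⟨(x.1, x.2.1), x.2.2⟩,
        left_inv := fun _ => rfl, right_inv := fun _ => rfl }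
    rw [Nat.card_congr e, Nat.card_prod, hcardU, hker4]
  have hSdvd : Nat.card R ∣ Nat.card S := by
    refine ⟨Nat.card ((QuotientGroup.mk : _ → (Fˣ × Fˣ) ⧸ R) '' S), ?_⟩
    have hpre : (QuotientGroup.mk : _ → (Fˣ × Fˣ) ⧸ R) ⁻¹' (QuotientGroup.mk '' S) = S := by
      refine Set.Subset.antisymm (fun x ⟨y, hy, hxy⟩ => ?_) (Set.subset_preimage_image _ _)
      have hm := QuotientGroup.eq.1 hxy
      have := hSinv y hy _ hm
      rwa [mul_comm (y⁻¹ * x) y, mul_inv_cancel_left] at this
    rw [← Nat.card_prod, ← Nat.card_congr (QuotientGroup.preimageMkEquivSubgroupProdSet R _), hpre]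
  have hSle : Nat.card S ≤ (q - 1) ^ 2 := by
    refine (Nat.card_le_card_of_injective _ Subtype.val_injective).trans ?_
    rw [Nat.card_prod, hcardU, sq]
  -- the size of the orbit
  let e : (Fin 3 ⊕ (Fin 3 × Fˣ) ⊕ (Fˣ × Fˣ)) ≃ P2 := Equiv.ofBijective shapePt shapePt_bijective
  set E : Set (Fin 3 × Fˣ) := {x | shapePt (F := F) (.inr (.inl x)) ∈ Ω}
  have hΩcard : Nat.card Ω = 3 + (Nat.card E + Nat.card S) := by
    rw [← Nat.card_congr (e.subtypeEquiv (fun x => Iff.rfl) : {x // shapePt x ∈ Ω} ≃ Ω)]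
    rw [Nat.card_congr Equiv.subtypeSum, Nat.card_sum, Nat.card_congr Equiv.subtypeSum, Nat.card_sum,
      Nat.card_congr (Equiv.subtypeUnivEquiv hvert), Nat.card_fin]
    rfl
  have hEcard : Nat.card E = 0 ∨ E = Set.univ := by
    by_cases hne : E = ∅
    · left; simp [hne]
    · obtain ⟨⟨i, y⟩, hx⟩ := Set.nonempty_iff_ne_empty.2 hne
      exact Or.inr (Set.eq_univ_of_forall fun ⟨i', y'⟩ => hedge i y hx i' y')
  have hΩdvd : Nat.card Ω * (q - 1) ^ 2 ∣ q ^ 3 * ((q ^ 2 - 1) * (q ^ 3 - 1)) := by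
    have h1 : (q - 1) ^ 2 ∣ Nat.card (MulAction.stabilizer M P₀) := by
      rw [hqdef, ← card_diagHom (F := F)]
      have hle : (diagHom F).range ≤ M := by rintro _ ⟨t, rfl⟩; exact hM.diag _ (by simp)
      let f : (diagHom F).range →* MulAction.stabilizer M P₀ :=
        { toFun := fun t => ⟨⟨t.1, hle t.2⟩, by
            rw [MulAction.mem_stabilizer_iff]
            obtain ⟨s, hs⟩ := t.2
            refine (Projectivization.mk_eq_mk_iff' F _ _ _ _).2 ⟨((s.1 * s.2)⁻¹ : Fˣ), ?_⟩
            funext l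
            show _ = ((t.1 : M3) *ᵥ _) l
            rw [← hs]
            show _ = (monoMat 1 _ *ᵥ _) l
            rw [monoMat_one_mulVec]
            fin_cases l <;> simp [shapeVec]⟩
          map_one' := rfl
          map_mul' := fun _ _ => rfl }
      exact Subgroup.card_dvd_of_injective f fun a b h =>
        Subtype.ext (congrArg (fun z : MulAction.stabilizer M P₀ => (z.1.1)) h)
    have h2 : Nat.card Ω * Nat.card (MulAction.stabilizer M P₀) = Nat.card M := by
      rw [← Nat.card_prod]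
      exact Nat.card_congr (MulAction.orbitProdStabilizerEquivGroup M P₀)
    refine (Nat.mul_dvd_mul_left _ h1).trans (h2 ▸ (Subgroup.card_dvd_of_le hM.le).trans ?_)
    rw [card_sl3_eq, CfsgLib.Classical.card_SL_fin', Nat.card_eq_fintype_card, ← hqdef]
    simp [Finset.prod_range_succ]
  have hEc : Nat.card E = 0 ∨ Nat.card E = 3 * (q - 1) := hEcard.imp id fun h => by
    rw [h, Nat.card_coe_set_eq, Set.ncard_univ, Nat.card_prod, Nat.card_fin, hcardU]
  have key : (Nat.card S = 0 ∧ (Nat.card E = 0 ∨ E = Set.univ)) ∨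
      (Nat.card S = (q - 1) ^ 2 ∧ E = Set.univ) := by
    have hdiv := hRcard ▸ hSdvd
    rw [hΩcard] at hΩdvd
    obtain ⟨nE, hnE⟩ : ∃ n, Nat.card E = n := ⟨_, rfl⟩
    obtain ⟨nS, hnS⟩ : ∃ n, Nat.card S = n := ⟨_, rfl⟩
    rw [hnS] at hdiv hSle hΩdvd ⊢
    rw [hnE] at hΩdvd hEc hEcard ⊢
    rcases hcases with h | h | h <;> rw [h] at hdiv hΩdvd hSle hEc ⊢ <;> norm_num at hdiv hΩdvd hSle hEc ⊢ <;>
      rcases hEcard with he | he
    · rw [he] at hΩdvd
      have hN : 3 + (0 + nS) ∣ 23250 := (Nat.mul_dvd_mul_iff_right (show 0 < 16 by norm_num)).1 (by simpa using hΩdvd)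
      exact Or.inl ⟨(num_five hdiv hSle hN).1 (by omega), Or.inl he⟩
    · have hE' : nE = 12 := by rw [← hnE, he, Nat.card_coe_set_eq, Set.ncard_univ, Nat.card_prod, Nat.card_fin, hcardU, h]
      rw [hE'] at hΩdvd
      have hN : 3 + (12 + nS) ∣ 23250 := (Nat.mul_dvd_mul_iff_right (show 0 < 16 by norm_num)).1 (by simpa using hΩdvd)
      rcases (num_five hdiv hSle hN).2 (by omega) with h0 | h0
      · exact Or.inl ⟨h0, Or.inr he⟩
      · exact Or.inr ⟨h0, he⟩
    · rw [he] at hΩdvd
      have hN : 3 + (0 + nS) ∣ 156408 := (Nat.mul_dvd_mul_iff_right (show 0 < 36 by norm_num)).1 (by simpa using hΩdvd)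
      exact Or.inl ⟨(num_seven hdiv hSle hN).1 (by omega), Or.inl he⟩
    · have hE' : nE = 18 := by rw [← hnE, he, Nat.card_coe_set_eq, Set.ncard_univ, Nat.card_prod, Nat.card_fin, hcardU, h]
      rw [hE'] at hΩdvd
      have hN : 3 + (18 + nS) ∣ 156408 := (Nat.mul_dvd_mul_iff_right (show 0 < 36 by norm_num)).1 (by simpa using hΩdvd)
      rcases (num_seven hdiv hSle hN).2 (by omega) with h0 | h0
      · exact Or.inl ⟨h0, Or.inr he⟩
      · exact Or.inr ⟨h0, he⟩
    · rw [he] at hΩdvd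
      have hN : 3 + (0 + nS) ∣ 5628714 := (Nat.mul_dvd_mul_iff_right (show 0 < 144 by norm_num)).1 (by simpa using hΩdvd)
      exact Or.inl ⟨(num_thirteen hdiv hSle hN).1 (by omega), Or.inl he⟩
    · have hE' : nE = 36 := by rw [← hnE, he, Nat.card_coe_set_eq, Set.ncard_univ, Nat.card_prod, Nat.card_fin, hcardU, h]
      rw [hE'] at hΩdvd
      have hN : 3 + (36 + nS) ∣ 5628714 := (Nat.mul_dvd_mul_iff_right (show 0 < 144 by norm_num)).1 (by simpa using hΩdvd)
      rcases (num_thirteen hdiv hSle hN).2 (by omega) with h0 | h0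
      · exact Or.inl ⟨h0, Or.inr he⟩
      · exact Or.inr ⟨h0, he⟩
  rcases key with ⟨hS0, hE⟩ | ⟨hSall, hEall⟩
  swap
  · exfalso
    have hSuniv : S = Set.univ := by
      refine Set.eq_of_subset_of_ncard_le (Set.subset_univ _) ?_ Set.finite_univ
      rw [Set.ncard_univ, Nat.card_prod, hcardU, ← Nat.card_coe_set_eq, hSall, sq]
    have hall : ∀ P : P2, P ∈ Ω := by
      intro P
      obtain ⟨x, rfl⟩ := shapePt_bijective.2 P
      rcases x with i | x | x
      · exact hvert i
      · exact (Set.eq_univ_iff_forall.1 hEall x : _)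
      · exact (Set.eq_univ_iff_forall.1 hSuniv x : _)
    choose φ hφ using fun P => hcentre P (hall P)
    refine no_polarity (q := q) rfl (by rcases hcases with h | h | h <;> omega) φ (fun P => (hφ P).1)
      (fun P Q h => (hφ P).symm_dot hu0 hv hno (hφ Q) h) fun P Q t ht => ?_
    have ht0 : t ≠ 0 := by
      rintro rfl
      have := (hφ Q).1
      rw [ht, zero_smul, zero_dotProduct] at this
      exact zero_ne_one this
    have h' := (hφ Q).rescale ht0
    rw [ht, smul_smul, inv_mul_cancel₀ ht0, one_smul] at h'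
    have hc := (hφ P).centre_eq hu0 hv hno h'
    rw [← P.mk_rep, ← Q.mk_rep]
    exact (Projectivization.mk_eq_mk_iff' F _ _ _ _).2 ⟨t, hc.symm⟩
  have hSem : S = ∅ := by
    by_contra hne
    obtain ⟨x, hx⟩ := Set.nonempty_iff_ne_empty.2 hne
    haveI : Nonempty S := ⟨⟨x, hx⟩⟩
    exact (Nat.card_pos (α := S)).ne' hS0
  have hzero : ∀ w : V3, ∀ hw : w ≠ 0, Projectivization.mk F w hw ∈ Ω → ∃ l, w l = 0 := by
    intro w hw h
    by_contra hcon
    push Not at hcon
    have hx : ((Units.mk0 (w 1 / w 0) (div_ne_zero (hcon 1) (hcon 0)),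
        Units.mk0 (w 2 / w 0) (div_ne_zero (hcon 2) (hcon 0))) : Fˣ × Fˣ) ∈ S := by
      show shapePt _ ∈ Ω
      convert h using 1
      refine (Projectivization.mk_eq_mk_iff' F _ _ _ _).2 ⟨(w 0)⁻¹, ?_⟩
      funext l; fin_cases l <;> simp [shapeVec, hcon 0, div_eq_inv_mul]
    rw [hSem] at hx
    exact hx
  intro k
  rcases hE with hE0 | hEall
  · -- only the vertices
    have hEem : E = ∅ := by
      by_contra hne
      obtain ⟨x, hx⟩ := Set.nonempty_iff_ne_empty.2 hne
      haveI : Nonempty E := ⟨⟨x, hx⟩⟩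
      exact (Nat.card_pos (α := E)).ne' hE0
    have h := hmk g hg _ (shapeVec_ne_zero _) (hvert k)
    obtain ⟨x, hx⟩ := shapePt_bijective.2 (Projectivization.mk F ((g : M3) *ᵥ shapeVec (.inl k))
      (mulVec_ne_zero g (shapeVec_ne_zero _)))
    rw [← hx] at h
    rcases x with i | x | x
    · obtain ⟨t, ht⟩ := (Projectivization.mk_eq_mk_iff' F _ _ _ _).1 hx.symm
      refine ⟨i, fun l hl => ?_⟩
      have := congrFun ht l
      simp [shapeVec, hl] at this
      simpa [shapeVec] using this.symm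
    · exact absurd (show x ∈ E from h) (by rw [hEem]; exact Set.notMem_empty x)
    · exact absurd (show x ∈ S from h) (by rw [hSem]; exact Set.notMem_empty x)
  · -- the sides
    set G' : M3 := ((g⁻¹ : GL (Fin 3) F) : M3)
    have hrow : ∀ i, ∃ j, ∀ l, l ≠ j → G' i l = 0 := by
      intro i
      obtain ⟨j, hj⟩ := exists_row_ne_zero g⁻¹ i
      refine ⟨j, fun l hl => ?_⟩
      by_contra hne
      obtain ⟨w, hw, hfull⟩ := exists_full_zero hM.five (ψ := G' i) hl hne hj
      have hw0 : w ≠ 0 := fun e => hfull 0 (by rw [e]; rfl)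
      have hv0 : G' *ᵥ w ≠ 0 := mulVec_ne_zero g⁻¹ hw0
      have hvi : (G' *ᵥ w) i = 0 := hw
      obtain ⟨x, hx⟩ := shapePt_bijective.2 (Projectivization.mk F (G' *ᵥ w) hv0)
      have hmem : Projectivization.mk F (G' *ᵥ w) hv0 ∈ Ω := by
        rcases x with i' | x | x
        · exact hx ▸ hvert i'
        · exact hx ▸ (Set.eq_univ_iff_forall.1 hEall x : _)
        · exfalso
          obtain ⟨t, ht⟩ := (Projectivization.mk_eq_mk_iff' F _ _ _ _).1 hx
          have := congrFun ht i
          rw [Pi.smul_apply, hvi, smul_zero] at this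
          fin_cases i <;> simp [shapeVec] at this <;> exact absurd this.symm (Units.ne_zero _)
      have h := hmk g hg _ hv0 hmem
      have hgw : (g : M3) *ᵥ (G' *ᵥ w) = w := by
        simp [G', Matrix.mulVec_mulVec, ← Units.val_mul]
      simp only [hgw] at h
      obtain ⟨l', hl'⟩ := hzero w hw0 h
      exact hfull l' hl'
    choose τ hτ using hrow
    have hG : IsMono (g⁻¹ : GL (Fin 3) F) := by
      intro c
      obtain ⟨i, hi⟩ := exists_col_ne_zero g⁻¹ c
      have hτinj : Function.Injective τ := by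
        intro a b hab
        by_contra hne
        have h2 := congrFun (congrFun (Units.inv_mul g) a) a
        have h3 := congrFun (congrFun (Units.inv_mul g) b) a
        rw [Matrix.mul_apply, Finset.sum_eq_single (τ a) (fun l _ hl => mul_eq_zero_of_left (hτ a l hl) _)
          (by simp), Matrix.one_apply_eq] at h2
        rw [Matrix.mul_apply, Finset.sum_eq_single (τ a)
          (fun l _ hl => mul_eq_zero_of_left (hτ b l (hab ▸ hl)) _) (by simp),
          Matrix.one_apply_ne (Ne.symm hne)] at h3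
        have hga : (g : M3) (τ a) a ≠ 0 := fun e => by rw [e, mul_zero] at h2; exact zero_ne_one h2
        obtain ⟨l, hl⟩ := exists_row_ne_zero g⁻¹ b
        have : l = τ a := by_contra fun e => hl (hτ b l (hab ▸ e))
        subst this
        exact hl ((mul_eq_zero.1 h3).resolve_right hga)
      refine ⟨i, fun l hl => by_contra fun hne => hl (hτinj ?_)⟩
      have e1 : c = τ i := by_contra fun e => hi (hτ i c e)
      have e2 : c = τ l := by_contra fun e => hne (hτ l c e)
      rw [← e1, ← e2]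
    obtain ⟨σ, d, hσ⟩ := hG.exists_eq
    rw [← inv_inv g, hσ, monoGL_inv]
    exact monoGL_isMono _ _ k

end CfsgLib.Dim3Max
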