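import Cfsg.Agent.Lib.Dim3Max.LinRoot
import Cfsg.Agent.Lib.Maximal.OrthSing
import Cfsg.Agent.Lib.Geometry.GeoOmega

/-!
The similitudes of a ternary quadratic form in odd characteristic form a maximal subgroup of `SL₃`.

An elation inside an overgroup gives a full root group; without elations, two involutions with the same
centre have the same axis, so every element preserves anisotropic points and their polars.
-/

set_option autoImplicit false
set_option linter.unusedSectionVars false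

namespace CfsgLib.Dim3Max.Conic

open scoped Matrix
open QuadraticMap CfsgLib.Geometry CfsgLib.Maximal

universe u

variable {F : Type u} [Field F] {Q : QuadraticForm F (Fin 3 → F)} {M : Subgroup (GL (Fin 3) F)}

/-- The standing hypotheses. -/
structure Over (Q : QuadraticForm F (Fin 3 → F)) (M : Subgroup (GL (Fin 3) F)) : Prop where
  nd : (polarBilin Q).Nondegenerate
  two : (2 : F) ≠ 0
  le : Cfsg.Geo.quadSimilarityGroup ⇑Q ⊓ sl3 F ≤ M

theorem eq_zero_of_polar (hQ : (polarBilin Q).Nondegenerate) {y : Fin 3 → F} (h : ∀ x, polar Q x y = 0) :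
    y = 0 :=
  hQ.2 y h

/-- The homology with factor `-1`. -/
def hom (v α : Fin 3 → F) (h : α ⬝ᵥ v = 2) : GL (Fin 3) F where
  val := -1 + Matrix.vecMulVec v α
  inv := -1 + Matrix.vecMulVec v α
  val_inv := by
    rw [mul_add, add_mul, add_mul, Matrix.vecMulVec_mul_vecMulVec, h, Matrix.vecMulVec_smul]
    simp only [neg_mul, one_mul, mul_neg, neg_neg, mul_one, two_smul]
    abel
  inv_val := by
    rw [mul_add, add_mul, add_mul, Matrix.vecMulVec_mul_vecMulVec, h, Matrix.vecMulVec_smul]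
    simp only [neg_mul, one_mul, mul_neg, neg_neg, mul_one, two_smul]
    abel

theorem hom_val (v α : Fin 3 → F) (h : α ⬝ᵥ v = 2) :
    (hom v α h : Matrix (Fin 3) (Fin 3) F) = -1 + Matrix.vecMulVec v α := rfl

theorem hom_mulVec (v α : Fin 3 → F) (h : α ⬝ᵥ v = 2) (x : Fin 3 → F) :
    (hom v α h : Matrix (Fin 3) (Fin 3) F) *ᵥ x = -x + (α ⬝ᵥ x) • v := by
  rw [hom_val, Matrix.add_mulVec, Matrix.neg_mulVec, Matrix.one_mulVec, Matrix.vecMulVec_mulVec, op_smul_eq_smul]

theorem hom_mem_sl3 (v α : Fin 3 → F) (h : α ⬝ᵥ v = 2) : hom v α h ∈ sl3 F := by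
  rw [sl3, mem_specialLinear_iff, hom_val,
    show (-1 + Matrix.vecMulVec v α : Matrix (Fin 3) (Fin 3) F) = -(1 + Matrix.vecMulVec (-v) α) by
      rw [Matrix.neg_vecMulVec]; abel,
    Matrix.det_neg, Matrix.vecMulVec_eq Unit, Matrix.det_one_add_replicateCol_mul_replicateRow, dotProduct_neg, h]
  norm_num

/-- Two homologies with a common centre multiply to an elation. -/
theorem has_of_two_hom {v α β : Fin 3 → F} (hα : α ⬝ᵥ v = 2) (hβ : β ⬝ᵥ v = 2)
    (h : hom v α hα ∈ M) (h' : hom v β hβ ∈ M) : Has M v (β - α) := by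
  refine ⟨by rw [sub_dotProduct, hα, hβ, sub_self], ?_⟩
  convert mul_mem h h' using 1
  refine Units.ext ?_
  rw [tv_val, Units.val_mul, hom_val, hom_val, mul_add, add_mul, add_mul, Matrix.vecMulVec_mul_vecMulVec, hα,
    Matrix.vecMulVec_sub, Matrix.vecMulVec_smul, two_smul]
  simp only [neg_mul, one_mul, mul_neg, neg_neg, mul_one]
  abel

/-- The conjugate of a homology. -/
theorem hom_conj {v α : Fin 3 → F} (hα : α ⬝ᵥ v = 2) (g : GL (Fin 3) F) :
    ∃ h, g * hom v α hα * g⁻¹ = hom ((g : Matrix (Fin 3) (Fin 3) F) *ᵥ v)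
      (α ᵥ* ((g⁻¹ : GL (Fin 3) F) : Matrix (Fin 3) (Fin 3) F)) h := by
  refine ⟨by rw [dot_vecMul_inv, hα], Units.ext ?_⟩
  rw [Units.val_mul, Units.val_mul, hom_val, hom_val, mul_add, add_mul, mul_neg_one, neg_mul, ← Units.val_mul,
    mul_inv_cancel, Units.val_one, Matrix.mul_vecMulVec, Matrix.vecMulVec_mul]

/-- The involution of an anisotropic vector. -/
def flip (Q : QuadraticForm F (Fin 3 → F)) (v : Fin 3 → F) (hv : Q v ≠ 0) : GL (Fin 3) F :=
  hom v ((Q v)⁻¹ • pv Q v) (by
    rw [smul_dotProduct, pv_dot, polar_self', smul_eq_mul, mul_comm, mul_assoc, mul_inv_cancel₀ hv, mul_one])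

theorem flip_mulVec {v : Fin 3 → F} (hv : Q v ≠ 0) (x : Fin 3 → F) :
    (flip Q v hv : Matrix (Fin 3) (Fin 3) F) *ᵥ x = -x + ((Q v)⁻¹ * polar Q x v) • v := by
  rw [flip, hom_mulVec, smul_dotProduct, pv_dot, smul_eq_mul]

theorem flip_map {v : Fin 3 → F} (hv : Q v ≠ 0) (x : Fin 3 → F) :
    Q ((flip Q v hv : Matrix (Fin 3) (Fin 3) F) *ᵥ x) = Q x := by
  rw [flip_mulVec, map_add', CfsgLib.Geometry.map_smul', QuadraticMap.map_neg, polar_neg_left, polar_smul_right']
  field_simp
  ring

theorem Over.flip_mem (h : Over Q M) {v : Fin 3 → F} (hv : Q v ≠ 0) : flip Q v hv ∈ M :=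
  h.le ⟨⟨1, fun x => by rw [flip_map, Units.val_one, one_mul]⟩, hom_mem_sl3 _ _ _⟩

theorem Over.sieg_mem (h : Over Q M) {e w : Fin 3 → F} (he : Q e = 0) (hw : polar Q e w = 0) :
    sieg e w he hw ∈ M :=
  h.le ⟨⟨1, fun v => by rw [sieg_isometry, Units.val_one, one_mul]⟩, sieg_mem_specialLinear he hw⟩

/-- An isometry carries the functional of `d` to that of its image. -/
theorem pv_conj {g : GL (Fin 3) F} (hg : ∀ x, Q ((g : Matrix (Fin 3) (Fin 3) F) *ᵥ x) = Q x) (d : Fin 3 → F) :
    pv Q d ᵥ* ((g⁻¹ : GL (Fin 3) F) : Matrix (Fin 3) (Fin 3) F) = pv Q ((g : Matrix (Fin 3) (Fin 3) F) *ᵥ d) := by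
  refine dot_ext fun y => ?_
  obtain ⟨x, rfl⟩ := mulVec_surj g y
  simp only []
  rw [dot_vecMul_inv, pv_dot, pv_dot]
  simp only [polar, ← Matrix.mulVec_add, hg]

/-- An anisotropic vector orthogonal to given orthogonal anisotropic vectors. -/
theorem exists_perp_aniso (hQ : (polarBilin Q).Nondegenerate) (h2 : (2 : F) ≠ 0) {r : ℕ} (hr : r < 3)
    (v : Fin r → Fin 3 → F) (hv : ∀ i, Q (v i) ≠ 0) (hp : ∀ i j, i ≠ j → polar Q (v i) (v j) = 0) :
    ∃ c, Q c ≠ 0 ∧ ∀ i, polar Q c (v i) = 0 := by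
  by_contra hcon
  push Not at hcon
  have hiso : ∀ y, (∀ i, polar Q y (v i) = 0) → Q y = 0 := fun y hy => by
    by_contra h0
    obtain ⟨i, hi⟩ := hcon y h0
    exact hi (hy i)
  set P : (Fin 3 → F) → (Fin 3 → F) := fun x => x - ∑ i, (polar Q x (v i) / polar Q (v i) (v i)) • v i with hP
  have hvv : ∀ i, polar Q (v i) (v i) ≠ 0 := fun i => by rw [polar_self']; exact mul_ne_zero h2 (hv i)
  have hPv : ∀ x j, polar Q (P x) (v j) = 0 := fun x j => by
    have : ∀ i, polarLeft Q (v j) (v i) = polar Q (v i) (v j) := fun i => rfl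
    have hl : polar Q (P x) (v j) = polarLeft Q (v j) (P x) := rfl
    rw [hl, hP, map_sub, map_sum, Finset.sum_eq_single j (fun i _ hij => by
      rw [map_smul, this, hp i j hij, smul_zero]) (fun hj => absurd (Finset.mem_univ _) hj), map_smul, this,
      smul_eq_mul, div_mul_cancel₀ _ (hvv j), polarLeft_apply, sub_self]
  have hpair : ∀ y z, (∀ i, polar Q y (v i) = 0) → (∀ i, polar Q z (v i) = 0) → polar Q y z = 0 := fun y z hy hz => by
    have := hiso (y + z) fun i => by rw [polar_add_left, hy i, hz i, add_zero]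
    rwa [map_add', hiso y hy, hiso z hz, add_zero, zero_add] at this
  obtain ⟨z, hz⟩ : ∃ z, z ∉ Submodule.span F (Set.range v) := by
    by_contra hall
    push Not at hall
    have h1 := (Submodule.finrank_mono (fun z _ => hall z : (⊤ : Submodule F (Fin 3 → F)) ≤ _)).trans
      (finrank_range_le_card v)
    rw [finrank_top] at h1
    simp at h1
    omega
  refine hz ?_
  have hsum : ∀ x, ∑ i, (polar Q x (v i) / polar Q (v i) (v i)) • v i ∈ Submodule.span F (Set.range v) := fun x =>
    Submodule.sum_mem _ fun i _ => Submodule.smul_mem _ _ (Submodule.subset_span ⟨i, rfl⟩)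
  have h0 : P z = 0 := eq_zero_of_polar hQ fun x => by
    have hx : x = P x + ∑ i, (polar Q x (v i) / polar Q (v i) (v i)) • v i := by simp [hP]
    have hl : ∀ y, polar Q y (P z) = polarLeft Q (P z) y := fun y => rfl
    rw [hl, hx, map_add, map_sum, ← hl, hpair _ _ (hPv x) (hPv z), zero_add]
    refine Finset.sum_eq_zero fun i _ => ?_
    rw [map_smul, ← hl, polar_comm Q (v i) (P z), hPv z i, smul_zero]
  rw [show z = ∑ i, (polar Q z (v i) / polar Q (v i) (v i)) • v i from sub_eq_zero.1 h0]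
  exact hsum z

theorem exists_aniso_polar (hQ : (polarBilin Q).Nondegenerate) {x : Fin 3 → F} (hx : x ≠ 0) (h2 : (2 : F) ≠ 0) :
    ∃ v, Q v ≠ 0 ∧ polar Q x v ≠ 0 := by
  by_cases hQx : Q x = 0
  swap
  · exact ⟨x, hQx, by rw [polar_self']; exact mul_ne_zero h2 hQx⟩
  obtain ⟨y, -, hy⟩ := exists_polar hQ ⊥ (x := x) (by simpa using hx) 1
  by_cases hQy : Q y = 0
  swap
  · exact ⟨y, hQy, by rw [polar_comm, hy]; exact one_ne_zero⟩
  refine ⟨y + x, ?_, ?_⟩
  · rw [map_add', hQy, hQx, hy]; simp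
  · rw [polar_add_right, polar_self', hQx, mul_zero, add_zero, polar_comm, hy]; exact one_ne_zero

/-- An anisotropic vector orthogonal to neither of two orthogonal anisotropic vectors. -/
theorem exists_both (hQ : (polarBilin Q).Nondegenerate) (h2 : (2 : F) ≠ 0) {a b : Fin 3 → F} (ha : Q a ≠ 0)
    (hb : Q b ≠ 0) (hab : polar Q a b = 0) : ∃ v, Q v ≠ 0 ∧ polar Q v a ≠ 0 ∧ polar Q v b ≠ 0 := by
  have haa : polar Q a a ≠ 0 := by rw [polar_self']; exact mul_ne_zero h2 ha
  have hbb : polar Q b b ≠ 0 := by rw [polar_self']; exact mul_ne_zero h2 hb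
  have hba : polar Q b a = 0 := by rw [polar_comm]; exact hab
  by_cases hs : Q a + Q b = 0
  swap
  · exact ⟨a + b, by rwa [map_add', hab, add_zero], by rwa [polar_add_left, hba, add_zero],
      by rwa [polar_add_left, hab, zero_add]⟩
  obtain ⟨c, hc, hcp⟩ := exists_perp_aniso hQ h2 (by omega : 2 < 3) ![a, b]
    (by intro i; fin_cases i <;> assumption)
    (by intro i j hij; fin_cases i <;> fin_cases j <;> first | exact absurd rfl hij | assumption)
  have hca : polar Q c a = 0 := hcp 0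
  have hcb : polar Q c b = 0 := hcp 1
  refine ⟨a + b + c, ?_, ?_, ?_⟩
  · rw [map_add', map_add', hab, polar_add_left, polar_comm Q a c, polar_comm Q b c, hca, hcb]
    simpa [hs] using hc
  · rwa [polar_add_left, polar_add_left, hba, hca, add_zero, add_zero]
  · rwa [polar_add_left, polar_add_left, hab, hcb, zero_add, add_zero]

/-- An isotropic vector has a partner and an anisotropic vector orthogonal to both. -/
theorem exists_frame (hQ : (polarBilin Q).Nondegenerate) (h2 : (2 : F) ≠ 0) {e : Fin 3 → F} (he0 : e ≠ 0)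
    (he : Q e = 0) : ∃ f w, Q f = 0 ∧ polar Q e f = 1 ∧ Q w ≠ 0 ∧ polar Q w e = 0 ∧ polar Q w f = 0 := by
  obtain ⟨f, hf, hef, -⟩ := exists_partner hQ ⊥ (by simpa using he0) he (fun h hh => by
    rw [(Submodule.mem_bot F).1 hh, polar_zero_right])
  have hee : polar Q e e = 0 := by rw [polar_self', he, mul_zero]
  have hff : polar Q f f = 0 := by rw [polar_self', hf, mul_zero]
  have hfe : polar Q f e = 1 := by rw [polar_comm]; exact hef
  have hpm : polar Q (e + f) (e - f) = 0 := by
    rw [polar_add_left, polar_sub_right, polar_sub_right, hee, hff, hef, hfe]; ring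
  obtain ⟨w, hw, hwp⟩ := exists_perp_aniso hQ h2 (by omega : 2 < 3) ![e + f, e - f]
    (by
      intro i; fin_cases i
      · simp [map_add', he, hf, hef]
      · simp [CfsgLib.Geometry.map_sub', he, hf, hef])
    (by
      intro i j hij
      fin_cases i <;> fin_cases j <;>
        first | exact absurd rfl hij | exact hpm | exact (polar_comm _ _ _).trans hpm)
  have h1 : polar Q w e + polar Q w f = 0 := by rw [← polar_add_right]; exact hwp 0
  have h3 : polar Q w e - polar Q w f = 0 := by rw [← polar_sub_right]; exact hwp 1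
  have hwe : polar Q w e = 0 :=
    (mul_eq_zero.1 (show (2 : F) * polar Q w e = 0 by linear_combination h1 + h3)).resolve_left h2
  exact ⟨f, w, hf, hef, hw, hwe, by rw [hwe, zero_add] at h1; exact h1⟩

theorem eq_zero_of_three (h2 : (2 : F) ≠ 0) {v : Fin 3 → Fin 3 → F} (hv : ∀ i, Q (v i) ≠ 0)
    (hp : ∀ i j, i ≠ j → polar Q (v i) (v j) = 0) {x : Fin 3 → F} (hx : ∀ i, polar Q x (v i) = 0) : x = 0 := by
  let L : (Fin 3 → F) →ₗ[F] (Fin 3 → F) := LinearMap.pi fun i => polarLeft Q (v i)
  have hsur : Function.Surjective L := fun t => by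
    refine ⟨∑ i, (t i / polar Q (v i) (v i)) • v i, funext fun j => ?_⟩
    show polarLeft Q (v j) (∑ i, (t i / polar Q (v i) (v i)) • v i) = t j
    rw [map_sum, Finset.sum_eq_single j (fun i _ hij => by
      rw [map_smul, polarLeft_apply, hp i j hij, smul_zero]) (fun hj => absurd (Finset.mem_univ _) hj), map_smul,
      polarLeft_apply, smul_eq_mul, div_mul_cancel₀ _ (by rw [polar_self']; exact mul_ne_zero h2 (hv j))]
  exact LinearMap.injective_iff_surjective.2 hsur ((funext fun i => hx i).trans (map_zero L).symm)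

/-- The similitudes act irreducibly. -/
theorem Over.irr (h : Over Q M) : Irr M := by
  intro W hW
  by_contra hne
  push Not at hne
  obtain ⟨hbot, htop⟩ := hne
  have step : ∀ x ∈ W, ∀ v, Q v ≠ 0 → polar Q x v ≠ 0 → v ∈ W := fun x hx v hv hxv => by
    have h1 : (flip Q v hv : Matrix (Fin 3) (Fin 3) F) *ᵥ x ∈ W :=
      hW _ ⟨_, h.flip_mem hv, rfl⟩ ⟨x, hx, Matrix.toLin'_apply _ _⟩
    have h3 := W.add_mem h1 hx
    rw [flip_mulVec, neg_add_cancel_comm] at h3
    exact (W.smul_mem_iff (mul_ne_zero (inv_ne_zero hv) hxv)).1 h3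
  obtain ⟨x, hx, hx0⟩ := W.ne_bot_iff.1 hbot
  obtain ⟨a, ha, hxa⟩ := exists_aniso_polar h.nd hx0 h.two
  have haW := step x hx a ha hxa
  obtain ⟨y, -, hy⟩ := SetLike.exists_of_lt htop.lt_top
  obtain ⟨z, hz, hzy⟩ := exists_polar h.nd W hy 1
  have hz0 : z ≠ 0 := fun h0 => by rw [h0, polar_zero_left] at hzy; exact zero_ne_one hzy
  obtain ⟨v, hv, hzv⟩ := exists_aniso_polar h.nd hz0 h.two
  have hperp : ∀ w ∈ W, polar Q w v = 0 := fun w hw => by
    by_contra hne
    exact hzv (hz v (step w hw v hv hne))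
  obtain ⟨w, hw, hwa, hwv⟩ := exists_both h.nd h.two ha hv (hperp a haW)
  exact hwv (hperp w (step a haW w hw (by rwa [polar_comm])))

theorem addSubgroup_eq_top_of_sq (h2 : (2 : F) ≠ 0) (T : AddSubgroup F) {l : F} (hl : l ≠ 0)
    (h : ∀ x : F, l * x ^ 2 ∈ T) : T = ⊤ := by
  refine eq_top_iff.2 fun x _ => ?_
  have h4 : (4 : F) ≠ 0 := by
    rw [show (4 : F) = 2 * 2 by norm_num]; exact mul_ne_zero h2 h2
  have := T.sub_mem (h (x / (4 * l) + 1)) (h (x / (4 * l) - 1))
  convert this using 1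
  field_simp
  ring

/-- Squares seen through a fractional map generate the additive group. -/
theorem addSubgroup_eq_top_of_frac [Fintype F] (h2 : (2 : F) ≠ 0) (T : AddSubgroup F) {α β : F} (hα : α ≠ 0)
    (hβ : β ≠ 0) (h : ∀ u : F, α + u ^ 2 * β ≠ 0 → 4 * α / (α + u ^ 2 * β) ∈ T) : T = ⊤ := by
  classical
  let φ : F → F := fun s => 4 * α / (α + s * β)
  have h4 : (4 : F) ≠ 0 := by
    rw [show (4 : F) = 2 * 2 by norm_num]; exact mul_ne_zero h2 h2
  have hφ : Function.Injective φ := fun s t hst => by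
    simp only [φ] at hst
    rw [div_eq_mul_inv, div_eq_mul_inv] at hst
    have := inv_injective (mul_left_cancel₀ (mul_ne_zero h4 hα) hst)
    exact mul_right_cancel₀ hβ (add_left_cancel this)
  set Sq : Finset F := (Finset.univ : Finset F).image (· ^ 2)
  have hSq : Fintype.card F ≤ 2 * Sq.card := by
    refine Finset.card_le_mul_card_image Finset.univ 2 fun b _ => ?_
    by_cases hne : ((Finset.univ : Finset F).filter fun x => x ^ 2 = b).Nonempty
    · obtain ⟨y, hy⟩ := hne
      rw [Finset.mem_filter] at hy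
      refine (Finset.card_le_card (t := {y, -y}) fun x hx => ?_).trans Finset.card_le_two
      rw [Finset.mem_filter] at hx
      simpa using sq_eq_sq_iff_eq_or_eq_neg.1 (hx.2.trans hy.2.symm)
    · simp [Finset.not_nonempty_iff_eq_empty.1 hne]
  have hle : (Sq.image φ : Set F) ⊆ T := by
    intro z hz
    simp only [Finset.coe_image, Set.mem_image, Finset.mem_coe, Sq, Finset.mem_image, Finset.mem_univ,
      true_and] at hz
    obtain ⟨_, ⟨u, rfl⟩, rfl⟩ := hz
    by_cases h0 : α + u ^ 2 * β = 0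
    · simp only [φ, h0, div_zero]; exact T.zero_mem
    · exact h u h0
  have hcard : Sq.card ≤ Nat.card T := by
    rw [← Finset.card_image_of_injective Sq hφ, ← Set.ncard_coe_finset]
    exact (Set.ncard_le_ncard hle (Set.toFinite _)).trans (Nat.card_coe_set_eq _).ge
  obtain ⟨k, hk⟩ := T.card_addSubgroup_dvd_card
  rw [Nat.card_eq_fintype_card] at hk
  have hodd : Fintype.card F % 2 = 1 :=
    FiniteField.odd_card_of_char_ne_two fun hc => h2 (by
      haveI := ringChar.of_eq hc; exact CharTwo.two_eq_zero)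
  refine AddSubgroup.eq_top_of_card_eq T ?_
  rw [Nat.card_eq_fintype_card (α := F), hk]
  have hk1 : k < 2 := by
    by_contra hk2
    have : Nat.card T * 2 ≤ Nat.card T * k := Nat.mul_le_mul_left _ (by omega)
    omega
  interval_cases k
  · simp at hk
  · omega

/-- Weights at a flag. -/
def weights (M : Subgroup (GL (Fin 3) F)) (Q : QuadraticForm F (Fin 3 → F)) (c a : Fin 3 → F)
    (hca : polar Q c a = 0) : AddSubgroup F where
  carrier := {s | Has M c (pv Q (s • a))}
  zero_mem' := by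
    show Has M c (pv Q ((0 : F) • a))
    rw [zero_smul, pv_zero]; exact has_of_zero (Or.inr rfl)
  add_mem' := fun {s t} hs ht => by
    show Has M c (pv Q ((s + t) • a))
    rw [add_smul, pv_add]; exact Has.add_right hs ht
  neg_mem' := fun {s} hs => by
    show Has M c (pv Q ((-s) • a))
    rw [pv_smul, neg_smul, ← pv_smul]; exact Has.neg' hs

theorem fullRoot_of_weights {c a : Fin 3 → F} (hca : polar Q c a = 0) (hc : c ≠ 0) (ha : pv Q a ≠ 0)
    (h : weights M Q c a hca = ⊤) : FullRoot M c (pv Q a) :=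
  ⟨hc, ha, fun x => by
    have : Has M c (pv Q (x • a)) := (show x ∈ weights M Q c a hca by rw [h]; exact AddSubgroup.mem_top x)
    rwa [pv_smul, ← Has.smul_iff] at this⟩

/-- An elation with anisotropic centre. -/
theorem Over.fullRoot_aniso [Fintype F] (h : Over Q M) {c d : Fin 3 → F} (hc : Q c ≠ 0) (hd : d ≠ 0)
    (hcd : Has M c (pv Q d)) : ∃ c φ, FullRoot M c φ := by
  have hdc : polar Q c d = 0 := by rw [← pv_dot]; exact hcd.dot
  -- the reflection in a vector orthogonal to the centre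
  have key : ∀ v, Q v ≠ 0 → polar Q c v = 0 → ∀ d, Has M c (pv Q d) →
      Has M c (pv Q (((Q v)⁻¹ * polar Q d v) • v)) := fun v hv hcv d hd' => by
    have h1 := hd'.conj (h.flip_mem hv)
    rw [pv_conj (flip_map hv), flip_mulVec hv c, hcv, mul_zero, zero_smul, add_zero, flip_mulVec hv d] at h1
    have h2 := h1.neg
    rw [neg_neg] at h2
    have h3 := h2.add_right hd'
    rwa [← pv_add, neg_add_cancel_comm] at h3
  obtain ⟨a₁, ha₁, ha₁c⟩ := exists_perp_aniso h.nd h.two (by omega : 1 < 3) ![c] (by simpa using hc)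
    (by intro i j hij; exact absurd (Subsingleton.elim i j) hij)
  obtain ⟨b₁, hb₁, hb₁p⟩ := exists_perp_aniso h.nd h.two (by omega : 2 < 3) ![c, a₁]
    (by intro i; fin_cases i <;> assumption)
    (by
      intro i j hij
      fin_cases i <;> fin_cases j <;>
        first | exact absurd rfl hij | exact ha₁c 0 | exact (polar_comm _ _ _).trans (ha₁c 0))
  have hca₁ : polar Q c a₁ = 0 := by rw [polar_comm]; exact ha₁c 0
  have hcb₁ : polar Q c b₁ = 0 := by rw [polar_comm]; exact hb₁p 0
  have hab₁ : polar Q b₁ a₁ = 0 := hb₁p 1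
  obtain ⟨a, b, ha, hb, hca, hcb, hab, hda⟩ : ∃ a b, Q a ≠ 0 ∧ Q b ≠ 0 ∧ polar Q c a = 0 ∧ polar Q c b = 0 ∧
      polar Q a b = 0 ∧ polar Q d a ≠ 0 := by
    by_cases h0 : polar Q d a₁ = 0
    swap
    · exact ⟨a₁, b₁, ha₁, hb₁, hca₁, hcb₁, by rw [polar_comm]; exact hab₁, h0⟩
    refine ⟨b₁, a₁, hb₁, ha₁, hcb₁, hca₁, hab₁, fun h1 => hd (eq_zero_of_three (Q := Q) h.two (v := ![c, a₁, b₁]) ?_ ?_ ?_)⟩
    · intro i; fin_cases i <;> assumption
    · intro i j hij
      fin_cases i <;> fin_cases j <;>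
        first
          | exact absurd rfl hij
          | assumption
          | exact (polar_comm _ _ _).trans hca₁
          | exact (polar_comm _ _ _).trans hcb₁
          | exact (polar_comm _ _ _).trans hab₁
    · intro i; fin_cases i
      · exact (polar_comm _ _ _).trans hdc
      · exact h0
      · exact h1
  set T := weights M Q c a hca
  have ht₀ : (Q a)⁻¹ * polar Q d a ∈ T := key a ha hca d hcd
  set t₀ := (Q a)⁻¹ * polar Q d a
  have ht₀0 : t₀ ≠ 0 := mul_ne_zero (inv_ne_zero ha) hda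
  let S : AddSubgroup F :=
    { carrier := {s | ∀ t ∈ T, s * t ∈ T}
      zero_mem' := fun t _ => by rw [zero_mul]; exact T.zero_mem
      add_mem' := fun {s s'} hs hs' t ht => by rw [add_mul]; exact T.add_mem (hs t ht) (hs' t ht)
      neg_mem' := fun {s} hs t ht => by rw [neg_mul]; exact T.neg_mem (hs t ht) }
  have hS : S = ⊤ := addSubgroup_eq_top_of_frac h.two S ha hb fun u hu t ht => by
    have hQv : Q (a + u • b) = Q a + u ^ 2 * Q b := by
      rw [map_add', CfsgLib.Geometry.map_smul', polar_smul_right', hab]; ring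
    have hcv : polar Q c (a + u • b) = 0 := by rw [polar_add_right, polar_smul_right', hca, hcb]; ring
    have h1 := key a ha hca _ (key (a + u • b) (by rwa [hQv]) hcv (t • a) ht)
    show Has M c (pv Q ((4 * Q a / (Q a + u ^ 2 * Q b) * t) • a))
    convert h1 using 3
    simp only [polar_smul_left', polar_add_left, polar_add_right, polar_smul_right', polar_comm Q b a, hab,
      polar_self', hQv]
    field_simp
    ring
  refine ⟨c, pv Q a, fullRoot_of_weights hca (fun h0 => hc (by rw [h0]; simp)) (fun h0 => ?_)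
    (eq_top_iff.2 fun x _ => ?_)⟩
  · have := pv_dot Q a a
    rw [h0, zero_dotProduct, polar_self'] at this
    exact mul_ne_zero h.two ha this.symm
  · have hx : x / t₀ ∈ S := by rw [hS]; exact AddSubgroup.mem_top _
    have := hx t₀ ht₀
    rwa [div_mul_cancel₀ _ ht₀0] at this

/-- An elation with isotropic centre. -/
theorem Over.fullRoot_iso (h : Over Q M) {c d : Fin 3 → F} (hc0 : c ≠ 0) (hc : Q c = 0) (hd : d ≠ 0)
    (hcd : Has M c (pv Q d)) : ∃ c φ, FullRoot M c φ := by
  have hdc : polar Q c d = 0 := by rw [← pv_dot]; exact hcd.dot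
  have hcc : polar Q c c = 0 := by rw [polar_self', hc, mul_zero]
  obtain ⟨f, w, hf, hcf, hw, hwc, hwf⟩ := exists_frame h.nd h.two hc0 hc
  have hpv : pv Q c ≠ 0 := fun h0 => by
    have := pv_dot Q c f
    rw [h0, zero_dotProduct, polar_comm, hcf] at this
    exact zero_ne_one this
  refine ⟨c, pv Q c, fullRoot_of_weights hcc hc0 hpv ?_⟩
  by_cases hdw : polar Q d w = 0
  swap
  · refine eq_top_iff.2 fun x _ => ?_
    set s := -x / polar Q d w with hs
    have hsw : polar Q c (s • w) = 0 := by rw [polar_smul_right', polar_comm, hwc, mul_zero]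
    have h1 := hcd.conj (h.sieg_mem hc hsw)
    rw [pv_conj (sieg_isometry hc hsw), sieg_mulVec hc hsw c, sieg_mulVec hc hsw d, hcc, polar_comm Q d c, hdc,
      hsw, polar_smul_right'] at h1
    simp only [zero_smul, mul_zero, add_zero, sub_zero] at h1
    have h2 := h1.add_right hcd.neg'
    rw [← sub_eq_add_neg, ← pv_sub] at h2
    show Has M c (pv Q (x • c))
    convert h2 using 2
    rw [hs, div_mul_cancel₀ _ hdw, neg_smul]
    abel
  -- the axis is the tangent
  obtain ⟨l, rfl⟩ : ∃ l : F, d = l • c := by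
    refine ⟨polar Q d f, sub_eq_zero.1 (eq_zero_of_three (Q := Q) h.two (v := ![c + f, c - f, w]) ?_ ?_ ?_)⟩
    · intro i; fin_cases i
      · simp [map_add', hc, hf, hcf]
      · simp [CfsgLib.Geometry.map_sub', hc, hf, hcf]
      · exact hw
    · intro i j hij
      have hff : polar Q f f = 0 := by rw [polar_self', hf, mul_zero]
      fin_cases i <;> fin_cases j <;>
        first
          | exact absurd rfl hij
          | simp [polar_add_left, polar_add_right, polar_sub_left, polar_sub_right, hcc, hff, hcf, hwc, hwf,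
              polar_comm Q f c, polar_comm Q c w, polar_comm Q f w]
    · intro i
      fin_cases i <;>
        simp [polar_sub_left, polar_smul_left', polar_add_right, polar_sub_right, polar_comm Q d c, hdc, hcc, hcf,
          polar_comm Q c w, hwc, hdw]
  have hl : l ≠ 0 := fun h0 => hd (by rw [h0, zero_smul])
  refine addSubgroup_eq_top_of_sq h.two _ hl fun y => ?_
  rcases eq_or_ne y 0 with rfl | hy
  · rw [zero_pow two_ne_zero, mul_zero]; exact zero_mem _
  set t := y⁻¹ with ht
  have ht0 : t ≠ 0 := inv_ne_zero hy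
  have hv1 : Q (c + f) ≠ 0 := by simp [map_add', hc, hf, hcf]
  have hvt : Q (c + t • f) = t := by
    rw [map_add', CfsgLib.Geometry.map_smul', polar_smul_right', hc, hf, hcf]; ring
  have hvt0 : Q (c + t • f) ≠ 0 := by rwa [hvt]
  set g := flip Q (c + t • f) hvt0 * flip Q (c + f) hv1 with hg
  have hgQ : ∀ x, Q ((g : Matrix (Fin 3) (Fin 3) F) *ᵥ x) = Q x := fun x => by
    rw [hg, Units.val_mul, ← Matrix.mulVec_mulVec, flip_map, flip_map]
  have hgc : (g : Matrix (Fin 3) (Fin 3) F) *ᵥ c = y • c := by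
    have h1 : (flip Q (c + f) hv1 : Matrix (Fin 3) (Fin 3) F) *ᵥ c = f := by
      rw [flip_mulVec, polar_add_right, hcc, hcf, map_add', hc, hf, hcf]; simp
    have hff : polar Q f f = 0 := by rw [polar_self', hf, mul_zero]
    rw [hg, Units.val_mul, ← Matrix.mulVec_mulVec, h1, flip_mulVec, hvt, polar_add_right, polar_smul_right',
      polar_comm Q f c, hcf, hff, mul_zero, add_zero, mul_one, ht, inv_inv]
    match_scalars <;> field_simp <;> ring
  have h1 := hcd.conj (mul_mem (h.flip_mem hvt0) (h.flip_mem hv1) : g ∈ M)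
  rw [pv_conj hgQ, Matrix.mulVec_smul, hgc, Has.smul_iff, ← pv_smul, smul_smul, smul_smul] at h1
  show Has M c (pv Q ((l * y ^ 2) • c))
  convert h1 using 3
  ring

/-- An elation gives the special linear group. -/
theorem Over.sl3_le_of_elation [Fintype F] (h : Over Q M) (hel : HasElation M) : sl3 F ≤ M := by
  obtain ⟨c, φ, hc, hφ, hcφ⟩ := hel
  obtain ⟨d, rfl⟩ := pv_surj h.nd φ
  have hd : d ≠ 0 := fun h0 => hφ (by rw [h0, pv_zero])
  obtain ⟨c', φ', hroot⟩ : ∃ c φ, FullRoot M c φ := by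
    by_cases hQc : Q c = 0
    · exact h.fullRoot_iso hc hQc hd hcφ
    · exact h.fullRoot_aniso hQc hd hcφ
  exact fullRootStmt M h.irr c' φ' hroot

/-- Without elations anisotropic points and their polars are preserved. -/
theorem Over.mem_of_no_elation (h : Over Q M) (hel : ¬ HasElation M) {g : GL (Fin 3) F} (hg : g ∈ M) :
    g ∈ Cfsg.Geo.quadSimilarityGroup ⇑Q := by
  have haxis : ∀ {v α β : Fin 3 → F}, v ≠ 0 → ∀ (hα : α ⬝ᵥ v = 2) (hβ : β ⬝ᵥ v = 2),
      hom v α hα ∈ M → hom v β hβ ∈ M → β = α := fun {v α β} hv hα hβ h1 h2 => by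
    by_contra hne
    exact hel ⟨v, β - α, hv, sub_ne_zero.2 hne, has_of_two_hom hα hβ h1 h2⟩
  -- anisotropic vectors stay anisotropic and the polar is carried along
  have key : ∀ g ∈ M, ∀ v, Q v ≠ 0 → Q ((g : Matrix (Fin 3) (Fin 3) F) *ᵥ v) ≠ 0 ∧
      ∀ x, polar Q ((g : Matrix (Fin 3) (Fin 3) F) *ᵥ x) ((g : Matrix (Fin 3) (Fin 3) F) *ᵥ v) =
        Q ((g : Matrix (Fin 3) (Fin 3) F) *ᵥ v) / Q v * polar Q x v := by
    intro g hg v hv
    have hv0 : v ≠ 0 := fun h0 => hv (by rw [h0]; simp)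
    have hflip := h.flip_mem hv
    obtain ⟨hβ, hconj⟩ := hom_conj (v := v) (α := (Q v)⁻¹ • pv Q v) (by
      rw [smul_dotProduct, pv_dot, polar_self', smul_eq_mul, mul_comm, mul_assoc, mul_inv_cancel₀ hv, mul_one]) g
    have hmem := hconj ▸ mul_mem (mul_mem hg hflip) (inv_mem hg)
    set β := ((Q v)⁻¹ • pv Q v) ᵥ* ((g⁻¹ : GL (Fin 3) F) : Matrix (Fin 3) (Fin 3) F) with hβdef
    set u := (g : Matrix (Fin 3) (Fin 3) F) *ᵥ v
    have hu0 : u ≠ 0 := mulVec_ne_zero g hv0
    have hu : Q u ≠ 0 := fun hu => by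
      obtain ⟨f, w, hf, huf, hw, hwu, -⟩ := exists_frame h.nd h.two hu0 hu
      have huw : polar Q u w = 0 := by rw [polar_comm]; exact hwu
      obtain ⟨hγ, hconj'⟩ := hom_conj hβ (sieg u w hu huw)
      have hYu : (sieg u w hu huw : Matrix (Fin 3) (Fin 3) F) *ᵥ u = u := by
        rw [sieg_mulVec, huw, polar_self', hu]; simp
      have hmem' := hconj' ▸ mul_mem (mul_mem (h.sieg_mem hu huw) hmem) (inv_mem (h.sieg_mem hu huw))
      rw [hYu] at hγ
      have heq := haxis hu0 hβ hγ hmem (by convert hmem' using 2; exact hYu.symm)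
      have e := dot_vecMul_inv (sieg u w hu huw) β w
      rw [heq, sieg_mulVec, hwu, polar_self', dotProduct_sub, dotProduct_add, dotProduct_smul, dotProduct_smul,
        hβ] at e
      simp only [zero_smul, mul_zero, add_zero, smul_eq_mul, zero_mul, sub_eq_self] at e
      exact mul_ne_zero (mul_ne_zero h.two hw) h.two e
    refine ⟨hu, fun x => ?_⟩
    have heq := haxis hu0 (by
      rw [smul_dotProduct, pv_dot, polar_self', smul_eq_mul, mul_comm, mul_assoc, mul_inv_cancel₀ hu, mul_one])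
      hβ (h.flip_mem hu) hmem
    have h1 := dot_vecMul_inv g ((Q v)⁻¹ • pv Q v) x
    rw [← hβdef, heq, smul_dotProduct, smul_dotProduct, pv_dot, pv_dot, smul_eq_mul, smul_eq_mul] at h1
    field_simp at h1 ⊢
    linear_combination h1
  set G : Matrix (Fin 3) (Fin 3) F := (g : Matrix (Fin 3) (Fin 3) F)
  let l : (Fin 3 → F) → F := fun v => Q (G *ᵥ v) / Q v
  have hpol : ∀ a b, Q a ≠ 0 → Q b ≠ 0 → polar Q a b ≠ 0 → l a = l b := fun a b ha hb hab => by
    have h1 := (key g hg b hb).2 a
    have h3 := (key g hg a ha).2 b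
    rw [polar_comm Q (G *ᵥ b), h1, polar_comm Q b a] at h3
    exact (mul_right_cancel₀ hab h3).symm
  have hall : ∀ a b, Q a ≠ 0 → Q b ≠ 0 → l a = l b := fun a b ha hb => by
    by_cases hab : polar Q a b = 0
    · obtain ⟨v, hv, hva, hvb⟩ := exists_both h.nd h.two ha hb hab
      rw [← hpol v a hv ha hva, hpol v b hv hb hvb]
    · exact hpol a b ha hb hab
  obtain ⟨a, ha, -⟩ := exists_perp_aniso h.nd h.two (by omega : 0 < 3) ![] (fun i => i.elim0) fun i => i.elim0
  have hla : l a ≠ 0 := div_ne_zero (key g hg a ha).1 ha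
  refine ⟨Units.mk0 _ hla, fun x => ?_⟩
  rw [Units.val_mk0]
  by_cases hx : Q x = 0
  · rw [hx, mul_zero]
    by_contra hne
    have h1 := (key g⁻¹ (inv_mem hg) _ hne).1
    rw [Matrix.mulVec_mulVec, ← Units.val_mul, inv_mul_cancel, Units.val_one, Matrix.one_mulVec] at h1
    exact h1 hx
  · rw [hall a x ha hx]
    exact (div_mul_cancel₀ _ hx).symm

/-- The similitudes of a ternary form are maximal. -/
theorem maximal [Fintype F] (hQ : (polarBilin Q).Nondegenerate) (h2 : (2 : F) ≠ 0) :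
    Cfsg.Geo.IsMaximalIn (sl3 F) (Cfsg.Geo.quadSimilarityGroup ⇑Q ⊓ sl3 F) := by
  constructor
  · refine lt_of_le_of_ne inf_le_right fun heq => ?_
    obtain ⟨e, he0, he⟩ := CfsgLib.Geometry.exists_singular hQ (by simp)
    obtain ⟨f, w, hf, hef, -⟩ := exists_frame hQ h2 he0 he
    have h0 : pv Q e ⬝ᵥ e = 0 := by rw [pv_dot, polar_self', he, mul_zero]
    have hmem : tv e (pv Q e) h0 ∈ Cfsg.Geo.quadSimilarityGroup ⇑Q ⊓ sl3 F := by
      rw [heq]; exact tv_mem_specialLinear _ _ _
    obtain ⟨k, hk⟩ := hmem.1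
    have hfe : polar Q f e = 1 := by rw [polar_comm]; exact hef
    have h3 := hk f
    rw [tv_mulVec, pv_dot, hfe, one_smul, map_add', hf, he, hfe, mul_zero] at h3
    simp at h3
  intro M hHM hMS
  have h : Over Q M := ⟨hQ, h2, hHM⟩
  by_cases hel : HasElation M
  · exact Or.inr (le_antisymm hMS (h.sl3_le_of_elation hel))
  · exact Or.inl (le_antisymm (fun g hg => ⟨h.mem_of_no_elation hel hg, hMS hg⟩) hHM)

end CfsgLib.Dim3Max.Conic

namespace CfsgLib.Dim3Max

universe u

/-- S5774, row 6. -/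
theorem linOrthRow {F : Type u} [Field F] [Fintype F] : LinOrthRow F := by
  intro hodd Q hQ
  obtain ⟨Q', rfl, hnd⟩ := CfsgLib.Geometry.exists_quadraticForm hQ
  refine Conic.maximal hnd (Ring.two_ne_zero fun h => ?_)
  have heven := FiniteField.even_card_of_char_two h
  exact absurd (Nat.odd_iff.1 hodd) (by omega)

end CfsgLib.Dim3Max
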