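import Cfsg.Agent.Lib.Dim3Max.Calc

/-!
A full root group in an irreducible subgroup of dimension three generates the special linear group.
-/

set_option autoImplicit false

namespace CfsgLib.Dim3Max

open scoped Matrix MatrixGroups
open CfsgLib.Maximal

universe u

variable {F : Type u} [Field F]

/-- E1. -/
theorem fullRootStmt : FullRootStmt F := by
  intro M hirr c φ h
  obtain ⟨g, hg, hgd⟩ := exists_dot_orbit hirr h.1 h.2.1
  set d := (g : Matrix (Fin 3) (Fin 3) F) *ᵥ c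
  set ψ := φ ᵥ* ((g⁻¹ : GL (Fin 3) F) : Matrix (Fin 3) (Fin 3) F)
  have hY : FullRoot M d ψ := h.conj hg
  by_cases hψc : ψ ⬝ᵥ c = 0
  · exact sl3_le_of_tvCentre hirr h.1 (tvCentre_of_two h (h.comm hY hψc hgd) hgd hY.dot)
  -- the functional killing the plane of the two centres
  obtain ⟨η, hη0, hηc, hηd⟩ : ∃ η : Fin 3 → F, η ≠ 0 ∧ η ⬝ᵥ c = 0 ∧ η ⬝ᵥ d = 0 := by
    have hne : Submodule.span F (Set.range ![c, d]) ≠ ⊤ := by
      intro htop
      have hle := finrank_range_le_card (R := F) ![c, d]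
      rw [Set.finrank, htop, finrank_top] at hle
      simp at hle
    obtain ⟨u, -, hu⟩ := SetLike.exists_of_lt hne.lt_top
    obtain ⟨η, hη, hηu⟩ := exists_ann _ u hu
    exact ⟨η, fun h0 => by simp [h0] at hηu, hη c (Submodule.subset_span ⟨0, rfl⟩),
      hη d (Submodule.subset_span ⟨1, rfl⟩)⟩
  obtain ⟨g', hg', he⟩ := exists_dot_orbit hirr h.1 hη0
  set e := (g' : Matrix (Fin 3) (Fin 3) F) *ᵥ c
  set χ := φ ᵥ* ((g'⁻¹ : GL (Fin 3) F) : Matrix (Fin 3) (Fin 3) F)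
  have hZ : FullRoot M e χ := h.conj hg'
  -- a root group of the plane whose centre lies on the third axis
  obtain ⟨a, θ, hA, hηa, hχa⟩ : ∃ a θ : Fin 3 → F, FullRoot M a θ ∧ η ⬝ᵥ a = 0 ∧ χ ⬝ᵥ a = 0 := by
    by_cases hd0 : χ ⬝ᵥ d = 0
    · exact ⟨d, ψ, hY, hηd, hd0⟩
    set t := -(χ ⬝ᵥ c / χ ⬝ᵥ d)
    have hT := hY.2.2 (t / ψ ⬝ᵥ c)
    obtain ⟨h1, hmem⟩ := hT
    have hX := h.conj hmem
    rw [tv_mulVec, smul_smul, mul_div_cancel₀ _ hψc] at hX
    refine ⟨_, _, hX, ?_, ?_⟩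
    · rw [dotProduct_add, dotProduct_smul, hηc, hηd, smul_zero, add_zero]
    · rw [dotProduct_add, dotProduct_smul, smul_eq_mul, neg_mul, div_mul_cancel₀ _ hd0, add_neg_cancel]
  by_cases hθe : θ ⬝ᵥ e = 0
  · -- both centres lie on the axis of `θ`
    obtain ⟨z, hz⟩ := exists_dot_ne_zero hA.2.1
    set t := χ ⬝ᵥ z / θ ⬝ᵥ z with ht
    have hχθ : χ = t • θ := by
      refine ext_three hA.1 hA.dot hθe hz hηa he ?_ ?_ ?_
      · simp [hχa, hA.dot]
      · simp [hZ.dot, hθe]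
      · simp [ht, div_mul_cancel₀ _ hz]
    have ht0 : t ≠ 0 := fun h0 => hZ.2.1 (by rw [hχθ, h0, zero_smul])
    have hE : ∀ x : F, Has M (x • e) θ := fun x => by
      have := hZ.2.2 (x / t)
      rwa [hχθ, ← Has.smul_iff, smul_smul, mul_div_cancel₀ _ ht0] at this
    obtain ⟨g'', hg'', hθd'⟩ := exists_dot_orbit hirr hA.1 hA.2.1
    set d' := (g'' : Matrix (Fin 3) (Fin 3) F) *ᵥ a
    set ψ' := θ ᵥ* ((g''⁻¹ : GL (Fin 3) F) : Matrix (Fin 3) (Fin 3) F)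
    have hY' : FullRoot M d' ψ' := hA.conj hg''
    by_cases hψ'a : ψ' ⬝ᵥ a = 0
    · exact sl3_le_of_tvCentre hirr hA.1 (tvCentre_of_two hA (hA.comm hY' hψ'a hθd') hθd' hY'.dot)
    set P := (ψ' ⬝ᵥ e) • a - (ψ' ⬝ᵥ a) • e
    have hP0 : P ≠ 0 := fun h0 => by
      have := congrArg (η ⬝ᵥ ·) h0
      simp [P, dotProduct_sub, hηa, hψ'a, he] at this
    have hPψ : ψ' ⬝ᵥ P = 0 := by
      simp [P, dotProduct_sub, mul_comm]
    have hPθ : FullRoot M P θ := ⟨hP0, hA.2.1, fun x => by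
      rw [smul_sub, sub_eq_add_neg, ← neg_smul, smul_smul, smul_smul]
      exact (hA.2.2 _).add_left (by simpa [neg_mul] using hE (-(x * (ψ' ⬝ᵥ a))))⟩
    exact sl3_le_of_tvCentre hirr hP0 (tvCentre_of_two hPθ (hPθ.comm hY' hPψ hθd') hθd' hY'.dot)
  · exact sl3_le_of_tvCentre hirr hA.1 (tvCentre_of_two hA (hA.comm hZ hχa hθe) hθe hZ.dot)

/-- E1p. -/
theorem primeStmt [Fintype F] : PrimeStmt F := by
  intro hp M hirr ⟨c, φ, hc, hφ, h⟩
  refine fullRootStmt M hirr c φ ⟨hc, hφ, fun x => ?_⟩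
  obtain ⟨n, rfl⟩ : ∃ n : ℕ, (n : F) = x := by
    haveI : Fact (Nat.card F).Prime := ⟨by rwa [Nat.card_eq_fintype_card]⟩
    obtain ⟨n, hn⟩ := (AddSubmonoid.mem_multiples_iff _ _).1
      (mem_multiples_of_prime_card (p := Nat.card F) rfl (one_ne_zero : (1 : F) ≠ 0) (g' := x))
    exact ⟨n, by simpa [nsmul_eq_mul] using hn⟩
  induction n with
  | zero => simpa using has_of_zero (M := M) (φ := φ) (Or.inl rfl)
  | succ n ih =>
    rw [Nat.cast_succ, add_smul, one_smul]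
    exact ih.add_left h

end CfsgLib.Dim3Max
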