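import Mathlib

/-!
The possible indices over the normaliser of a Singer group in dimension three.

With `v = q² + q + 1`, `B = (q - 1)² (q + 1)` and `D ≡ 1 (mod v / d)`, `3 D ∣ q³ B` leaves four values of `D`.
-/

set_option autoImplicit false

namespace CfsgLib.Dim3Max.SingerArith

variable {q d w : ℕ}

/-- The data of the Singer group: `d w = q² + q + 1` with `d = gcd(3, q - 1)`. -/
structure Data (q d w : ℕ) : Prop where
  two_le : 2 ≤ q
  ne_four : q ≠ 4
  mul_eq : d * w = q * q + q + 1
  cases : d = 1 ∨ d = 3 ∧ q % 3 = 1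
  coprime : Nat.Coprime 3 w

/-- The order of the split part. -/
def bb (q : ℕ) : ℕ := (q - 1) ^ 2 * (q + 1)

theorem bb_eq (hq : 2 ≤ q) : bb q = (q - 2) * (q * q + q + 1) + 3 := by
  obtain ⟨t, rfl⟩ := Nat.exists_eq_add_of_le hq
  simp only [bb, show 2 + t - 1 = t + 1 by omega, show 2 + t - 2 = t by omega]
  ring

theorem bb_int (hq : 2 ≤ q) : ((q * bb q : ℕ) : ℤ) = (q : ℤ) * ((q : ℤ) - 1) ^ 2 * ((q : ℤ) + 1) := by
  simp only [bb]
  push_cast [Nat.cast_sub (show 1 ≤ q by omega)]
  ring

variable (h : Data q d w)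

include h

theorem one_lt : 1 < w := by
  have := h.mul_eq
  have := h.two_le
  have hqq : 2 * q ≤ q * q := Nat.mul_le_mul_right q h.two_le
  rcases h.cases with rfl | ⟨rfl, -⟩ <;> omega

theorem q_lt : q < w := by
  have := h.mul_eq
  have := h.two_le
  have hqq : 2 * q ≤ q * q := Nat.mul_le_mul_right q h.two_le
  rcases h.cases with rfl | ⟨rfl, -⟩ <;> omega

theorem three_unit : IsUnit (3 : ZMod w) := by
  simpa using (ZMod.isUnit_iff_coprime 3 w).2 h.coprime

theorem cast_v : ((q : ZMod w) * q + q + 1) = 0 := by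
  have : ((d * w : ℕ) : ZMod w) = 0 := by simp
  rw [h.mul_eq] at this
  push_cast at this
  exact this

theorem cast_bb : (bb q : ZMod w) = 3 := by
  rw [bb_eq h.two_le]
  push_cast
  rw [cast_v h]
  ring

theorem cast_cube : (q : ZMod w) ^ 3 = 1 := by
  linear_combination ((q : ZMod w) - 1) * cast_v h

theorem eq_add_mul {n r : ℕ} (hr : r < w) (hn : (n : ZMod w) = r) : ∃ j, n = r + w * j := by
  have h1 := (ZMod.natCast_eq_natCast_iff' n r w).1 hn
  rw [Nat.mod_eq_of_lt hr] at h1
  exact ⟨n / w, by rw [← h1, Nat.mod_add_div]⟩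

/-- Few `p`-elements: the index is one or makes the group prime to the characteristic. -/
theorem small {D : ℕ} (hD : (D : ZMod w) = 1) (hdvd : 3 * D ∣ q * bb q) : D = 1 ∨ 3 * D = bb q := by
  obtain ⟨m, hm⟩ := hdvd
  have hq := h.two_le
  have hqpos : 0 < q * bb q := Nat.mul_pos (by omega) (by rw [bb_eq hq]; omega)
  have hm' : (m : ZMod w) = q := by
    refine (three_unit h).mul_left_cancel ?_
    have := congrArg (Nat.cast : ℕ → ZMod w) hm
    push_cast at this
    rw [cast_bb h, hD] at this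
    linear_combination -this
  obtain ⟨j, rfl⟩ := eq_add_mul h (q_lt h) hm'
  rcases Nat.eq_zero_or_pos j with rfl | hj
  · right
    simp only [Nat.mul_zero, add_zero] at hm
    exact (Nat.eq_of_mul_eq_mul_left (show 0 < q by omega) (by rw [hm]; ring)).symm
  left
  obtain ⟨i, rfl⟩ := eq_add_mul h (one_lt h) (n := D) (r := 1) (by simpa using hD)
  rcases Nat.eq_zero_or_pos i with rfl | hi
  · simp
  exfalso
  have hlt : 3 * (1 + w * i) * w < q * bb q := by
    rw [hm]
    refine Nat.mul_lt_mul_of_pos_left ?_ (by omega)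
    have : w ≤ w * j := Nat.le_mul_of_pos_right w hj
    omega
  rw [bb_eq hq, mul_add, ← h.mul_eq] at hlt
  have hqw := q_lt h
  rcases h.cases with rfl | ⟨rfl, hq3⟩
  · simp only [one_mul] at hlt hm
    have h1 := h.mul_eq
    have h3 : 3 * (1 + w * i) ≤ q * (q - 2) := by
      by_contra hc
      have h2 : (q * (q - 2) + 1) * w ≤ 3 * (1 + w * i) * w := Nat.mul_le_mul_right w (by omega)
      have hqq : 2 * q ≤ q * q := Nat.mul_le_mul_right q hq
      nlinarith
    have h4 : w ≤ w * i := Nat.le_mul_of_pos_right w hi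
    have h5 : q * (q - 2) ≤ q * q := Nat.mul_le_mul_left q (by omega)
    omega
  · have h1 := h.mul_eq
    have h3 : 1 + w * i ≤ q * (q - 2) := by
      by_contra hc
      have h2 : (q * (q - 2) + 1) * w ≤ (1 + w * i) * w := Nat.mul_le_mul_right w (by omega)
      nlinarith
    have h5 : q * (q - 2) ≤ q * q := Nat.mul_le_mul_left q (by omega)
    have hi3 : i < 3 := by
      by_contra hc
      have : w * 3 ≤ w * i := Nat.mul_le_mul_left w (by omega)
      have : q * q + q + 1 ≤ q * (q - 2) := by omega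
      omega
    have hdvd : ((3 * (1 + w * i) : ℕ) : ℤ) ∣ ((q * bb q : ℕ) : ℤ) := Int.natCast_dvd_natCast.2 ⟨_, hm⟩
    rw [bb_int hq] at hdvd
    have h1' : 3 * (w : ℤ) = (q : ℤ) * q + q + 1 := by exact_mod_cast h1
    interval_cases i
    · have hE : ((3 * (1 + w * 1) : ℕ) : ℤ) ∣ ((12 * (q + 1) : ℕ) : ℤ) := by
        have hkey : ((12 * (q + 1) : ℕ) : ℤ) = (q : ℤ) * ((q : ℤ) - 1) ^ 2 * ((q : ℤ) + 1) -
            ((3 * (1 + w * 1) : ℕ) : ℤ) * ((q : ℤ) * q - 2 * q - 3) := by
          push_cast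
          linear_combination ((q : ℤ) * q - 2 * q - 3) * h1'
        rw [hkey]
        exact dvd_sub hdvd (dvd_mul_right _ _)
      rw [Int.natCast_dvd_natCast, show 3 * (1 + w * 1) = q * q + q + 4 by omega] at hE
      have hle := Nat.le_of_dvd (by omega) hE
      have : q ≤ 12 := by nlinarith
      have := h.ne_four
      interval_cases q <;> norm_num at hE <;> omega
    · have hE : ((3 * (1 + w * 2) : ℕ) : ℤ) ∣ ((15 * (2 * q + 1) : ℕ) : ℤ) := by
        have hkey : ((15 * (2 * q + 1) : ℕ) : ℤ) = 4 * ((q : ℤ) * ((q : ℤ) - 1) ^ 2 * ((q : ℤ) + 1)) -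
            ((3 * (1 + w * 2) : ℕ) : ℤ) * (2 * (q : ℤ) * q - 4 * q - 3) := by
          push_cast
          linear_combination (2 * (2 * (q : ℤ) * q - 4 * q - 3)) * h1'
        rw [hkey]
        exact dvd_sub (dvd_mul_of_dvd_right hdvd 4) (dvd_mul_right _ _)
      rw [Int.natCast_dvd_natCast, show 3 * (1 + w * 2) = 2 * (q * q) + 2 * q + 5 by omega] at hE
      have hle := Nat.le_of_dvd (by omega) hE
      have : q ≤ 15 := by nlinarith
      have := h.ne_four
      interval_cases q <;> norm_num at hE <;> omega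

/-- Middle exponents do not occur. -/
theorem middle {p c m k x y : ℕ} (hd : d ≤ c) (hc : c * m * k = bb q) (hpk : ¬ p ∣ k) (hpy : p ∣ y) (hy : y < w)
    (hk : (k : ZMod w) = y) (hx : x * (q - 1) + q + 1 < w) (hxm : (x : ZMod w) * m + q + 1 = 0) : False := by
  have hq := h.two_le
  obtain ⟨j, rfl⟩ := eq_add_mul h hy hk
  have hj : 0 < j := Nat.pos_of_ne_zero (by rintro rfl; exact hpk (by simpa using hpy))
  have hw : w ≤ w * j := Nat.le_mul_of_pos_right w hj
  have hpos : 0 < bb q := by rw [bb_eq hq]; omega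
  have hcm : c * m < q * d := by
    by_contra hcon
    have h1 : q * d * w ≤ c * m * (y + w * j) := Nat.mul_le_mul (by omega) (by omega)
    rw [hc, mul_assoc, h.mul_eq, bb_eq hq] at h1
    have h2 : (q - 2) * (q * q + q + 1) + 2 * (q * q + q + 1) = q * (q * q + q + 1) := by
      rw [← add_mul, Nat.sub_add_cancel hq]
    have h3 : 2 * q ≤ q * q := Nat.mul_le_mul_right q hq
    omega
  have hmq : m < q := by
    by_contra hcon
    have : q * d ≤ m * c := Nat.mul_le_mul (by omega) hd
    rw [mul_comm c m] at hcm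
    omega
  have hle : x * m ≤ x * (q - 1) := Nat.mul_le_mul_left x (by omega)
  have h0 : ((x * m + q + 1 : ℕ) : ZMod w) = 0 := by push_cast; exact hxm
  rw [ZMod.natCast_eq_zero_iff] at h0
  have := Nat.le_of_dvd (by omega) h0
  omega

omit h in
theorem pow_mul_inj {p i j u u' : ℕ} (hp : p.Prime) (hu : ¬ p ∣ u) (hu' : ¬ p ∣ u') (he : p ^ i * u = p ^ j * u') :
    i = j ∧ u = u' := by
  have hij : i = j := by
    rcases lt_trichotomy i j with hlt | heq | hgt
    · exfalso; obtain ⟨r, rfl⟩ := Nat.exists_eq_add_of_lt hlt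
      rw [show i + r + 1 = i + (r + 1) by ring, pow_add, mul_assoc] at he
      exact hu ⟨p ^ r * u', by rw [Nat.eq_of_mul_eq_mul_left (pow_pos hp.pos i) he]; ring⟩
    · exact heq
    · exfalso; obtain ⟨r, rfl⟩ := Nat.exists_eq_add_of_lt hgt
      rw [show j + r + 1 = j + (r + 1) by ring, pow_add, mul_assoc] at he
      exact hu' ⟨p ^ r * u, by rw [← Nat.eq_of_mul_eq_mul_left (pow_pos hp.pos j) he]; ring⟩
  subst hij
  exact ⟨rfl, Nat.eq_of_mul_eq_mul_left (pow_pos hp.pos i) he⟩

/-- The possible indices. -/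
theorem four_cases {p f D t : ℕ} (hp : p.Prime) (hq : q = p ^ f) (hT : 3 * D * t = q ^ 3 * bb q)
    (hD : (D : ZMod w) = 1) : D = 1 ∨ 3 * D = bb q ∨ D = q ^ 3 ∨ 3 * D = q ^ 3 * bb q := by
  have hq2 := h.two_le
  have hf : 0 < f := Nat.pos_of_ne_zero (by rintro rfl; simp at hq; omega)
  have ht : (t : ZMod w) = 1 := by
    refine (three_unit h).mul_left_cancel ?_
    have := congrArg (Nat.cast : ℕ → ZMod w) hT
    push_cast at this
    rw [cast_bb h, cast_cube h, hD] at this
    linear_combination this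
  have hpB : ¬ p ∣ bb q := by
    intro hdvd
    have hpq : p ∣ q := hq ▸ dvd_pow_self p hf.ne'
    rcases hp.dvd_mul.1 hdvd with hd1 | hd1
    · have h2 : p ∣ q - 1 := hp.dvd_of_dvd_pow hd1
      have := Nat.dvd_sub hpq h2
      rw [show q - (q - 1) = 1 by omega] at this
      exact hp.not_dvd_one this
    · have := Nat.dvd_sub hd1 hpq
      rw [show q + 1 - q = 1 by omega] at this
      exact hp.not_dvd_one this
  have hpos : 0 < q ^ 3 * bb q := Nat.mul_pos (pow_pos (by omega) 3) (by rw [bb_eq hq2]; omega)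
  have hD0 : D ≠ 0 := by rintro rfl; simp at hT; rcases hT with hT | hT <;> simp [hT] at hpos
  have ht0 : t ≠ 0 := by rintro rfl; simp at hT; rcases hT with hT | hT <;> simp [hT] at hpos
  obtain ⟨a, m, hm, hDm⟩ := Nat.exists_eq_pow_mul_and_not_dvd hD0 p hp.ne_one
  obtain ⟨b, k, hk, htk⟩ := Nat.exists_eq_pow_mul_and_not_dvd ht0 p hp.ne_one
  have hfin : (3 * D ∣ q * bb q ∨ 3 * t ∣ q * bb q) → D = 1 ∨ 3 * D = bb q ∨ D = q ^ 3 ∨ 3 * D = q ^ 3 * bb q := by
    rintro (hs | hs)
    · rcases small h hD hs with h1 | h1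
      · exact Or.inl h1
      · exact Or.inr (Or.inl h1)
    · rcases small h ht hs with h1 | h1
      · refine Or.inr (Or.inr (Or.inr ?_))
        rw [← hT, h1, mul_one]
      · refine Or.inr (Or.inr (Or.inl ?_))
        refine Nat.eq_of_mul_eq_mul_right (show 0 < bb q by rw [bb_eq hq2]; omega) ?_
        rw [← hT, ← h1]; ring
  have hqz : (q : ZMod w) = (p : ZMod w) ^ f := by rw [hq]; push_cast; rfl
  have hv0 := cast_v h
  have hu3 := cast_cube h
  have hpw : IsUnit (p : ZMod w) := by
    have : IsUnit ((p : ZMod w) ^ (f * 3)) := by rw [pow_mul, ← hqz, hu3]; exact isUnit_one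
    exact (isUnit_pow_iff (by omega)).1 this
  by_cases hp3 : p = 3
  · subst hp3
    have hd1 : d = 1 := by
      rcases h.cases with h1 | ⟨-, h1⟩
      · exact h1
      · exfalso
        have : 3 ∣ q := hq ▸ dvd_pow_self 3 hf.ne'
        omega
    have he : 3 ^ (a + b + 1) * (m * k) = 3 ^ (3 * f) * bb q := by
      rw [show 3 ^ (3 * f) * bb q = q ^ 3 * bb q by rw [hq, ← pow_mul]; ring_nf, ← hT, hDm, htk, pow_succ, pow_add]; ring
    obtain ⟨hab, hmk⟩ := pow_mul_inj hp (Nat.Prime.not_dvd_mul hp hm hk) hpB he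
    have hdiv : ∀ {i n : ℕ}, i + 1 ≤ f → n ∣ bb q → 3 * (3 ^ i * n) ∣ q * bb q := fun {i n} hi hn => by
      rw [← mul_assoc, ← pow_succ', hq]
      exact Nat.mul_dvd_mul (pow_dvd_pow 3 hi) (by rwa [← hq])
    have key : ∀ {i j n l : ℕ}, i + j + 1 = 3 * f → f ≤ i → i ≤ j → n * l = bb q → ¬ 3 ∣ l →
        ((3 : ℕ) : ZMod w) ^ i * n = 1 → ((3 : ℕ) : ZMod w) ^ j * l = 1 → False := by
      intro i j n l hij hi hle hnl hl h1 h2
      obtain ⟨c, rfl⟩ := Nat.exists_eq_add_of_le hi
      have hx2 : 3 * (3 ^ c * 3 ^ c) ≤ q := by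
        rw [hq, ← pow_add, ← pow_succ']; exact Nat.pow_le_pow_right (by norm_num) (by omega)
      have hx1 : 1 ≤ 3 ^ c := Nat.one_le_pow _ _ (by norm_num)
      have hxx : 3 ^ c ≤ 3 ^ c * 3 ^ c := Nat.le_mul_of_pos_left _ (by omega)
      have hx3 : 3 * 3 ^ c ≤ q := by omega
      have hw' := h.mul_eq
      rw [hd1, one_mul] at hw'
      refine middle h (p := 3) (c := 1) (x := 3 ^ c) (y := q * (3 * 3 ^ c)) (by omega) (by rw [one_mul, hnl]) hl
        (Dvd.intro (q * 3 ^ c) (by ring)) ?_ ?_ ?_ ?_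
      · have := Nat.mul_le_mul_left q hx3
        omega
      · refine (hpw.pow j).mul_left_cancel ?_
        rw [h2]
        push_cast
        rw [hqz]
        norm_num
        rw [← hu3, hqz, ← pow_mul, show f * 3 = j + (f + (1 + c)) by omega, pow_add, pow_add, pow_add]
        norm_num
      · have h6 : 3 ^ c * (q - 1) ≤ q * (q - 1) := Nat.mul_le_mul_right _ (by omega)
        have h7 : q * (q - 1) + q = q * q := by
          rw [← Nat.mul_succ]; congr 1; omega
        omega
      · have h3 : (q : ZMod w) * (((3 : ℕ) : ZMod w) ^ c * n) = 1 := by rw [hqz, ← mul_assoc, ← pow_add]; exact h1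
        push_cast
        linear_combination (q : ZMod w) ^ 2 * h3 - ((3 : ℕ) : ZMod w) ^ c * (n : ZMod w) * hu3 + hv0
    by_cases ha : a + 1 ≤ f
    · exact hfin (Or.inl (hDm ▸ hdiv ha ⟨k, hmk.symm⟩))
    by_cases hb : b + 1 ≤ f
    · exact hfin (Or.inr (htk ▸ hdiv hb ⟨m, by rw [← hmk, mul_comm]⟩))
    have hD' : ((3 : ℕ) : ZMod w) ^ a * m = 1 := by rw [← hD, hDm]; push_cast; rfl
    have ht' : ((3 : ℕ) : ZMod w) ^ b * k = 1 := by rw [← ht, htk]; push_cast; rfl
    rcases le_total a b with hle | hle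
    · exact (key hab (by omega) hle hmk hk hD' ht').elim
    · exact (key (by omega : b + a + 1 = 3 * f) (by omega) hle (by rw [← hmk, mul_comm]) hm ht' hD').elim
  · have h3p : ¬ p ∣ 3 := fun hdvd => hp3 ((Nat.prime_dvd_prime_iff_eq hp Nat.prime_three).1 hdvd)
    have he : p ^ (a + b) * (3 * m * k) = p ^ (3 * f) * bb q := by
      rw [show p ^ (3 * f) * bb q = q ^ 3 * bb q by rw [hq, ← pow_mul]; ring_nf, ← hT, hDm, htk, pow_add]; ring
    obtain ⟨hab, hmk⟩ := pow_mul_inj hp (Nat.Prime.not_dvd_mul hp (Nat.Prime.not_dvd_mul hp h3p hm) hk) hpB he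
    have hdiv : ∀ {i n : ℕ}, i ≤ f → 3 * n ∣ bb q → 3 * (p ^ i * n) ∣ q * bb q := fun {i n} hi hn => by
      rw [mul_left_comm, hq]
      exact Nat.mul_dvd_mul (pow_dvd_pow p hi) (by rwa [← hq])
    have key : ∀ {i j n l : ℕ}, i + j = 3 * f → f < i → i ≤ j → 3 * n * l = bb q → ¬ p ∣ l →
        (p : ZMod w) ^ i * n = 1 → (p : ZMod w) ^ j * l = 1 → False := by
      intro i j n l hij hi hle hnl hl h1 h2
      obtain ⟨c, rfl⟩ := Nat.exists_eq_add_of_le hi.le
      have hx2 : p ^ c * p ^ c ≤ q := by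
        rw [hq, ← pow_add]; exact Nat.pow_le_pow_right hp.pos (by omega)
      have hxdvd : p ^ c ∣ q := hq ▸ pow_dvd_pow p (by omega)
      have hx1 : 2 ≤ p ^ c := le_trans hp.two_le (Nat.le_self_pow (by omega) p)
      have hw' := h.mul_eq
      have hne := h.ne_four
      have hpq : p ∣ q := hq ▸ dvd_pow_self p hf.ne'
      have hq8 : 8 ≤ q := by
        have h4 : 4 ≤ p ^ c * p ^ c := Nat.mul_le_mul hx1 hx1
        by_contra hlt
        rw [not_le] at hlt
        have hc2 : 2 ≤ f := by omega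
        have : p ^ 2 ≤ q := hq ▸ Nat.pow_le_pow_right hp.pos hc2
        have hp2 : p = 2 := by
          have := hp.two_le
          by_contra hne2
          have : 9 ≤ p ^ 2 := Nat.pow_le_pow_left (show 3 ≤ p by omega) 2
          omega
        subst hp2
        have : f < 3 := by
          by_contra hf3
          have : 2 ^ 3 ≤ q := hq ▸ Nat.pow_le_pow_right hp.pos (by omega)
          omega
        have hf2 : f = 2 := by omega
        rw [hf2] at hq
        omega
      refine middle h (p := p) (c := 3) (x := p ^ c) (y := q * p ^ c) ?_ hnl hl (hpq.trans (dvd_mul_right q _)) ?_ ?_ ?_ ?_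
      · rcases h.cases with h' | ⟨h', -⟩ <;> omega
      · have h9 : (3 * (q * p ^ c)) * (3 * (q * p ^ c)) < (d * w) * (d * w) := by
          rw [hw']
          have e1 := Nat.mul_le_mul_left (9 * (q * q)) hx2
          have e2 := Nat.mul_le_mul_left (q * q * q) hq8
          nlinarith
        have h10 : 3 * (q * p ^ c) < d * w := Nat.mul_self_lt_mul_self_iff.1 h9
        rcases h.cases with h' | ⟨h', -⟩ <;> rw [h'] at h10 <;> omega
      · refine (hpw.pow j).mul_left_cancel ?_
        rw [h2]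
        push_cast
        rw [hqz, ← hu3, hqz, ← pow_mul, show f * 3 = j + (f + c) by omega, pow_add, pow_add]
      · rcases h.cases with hd' | ⟨hd', hq3⟩
        · rw [hd', one_mul] at hw'
          have h6 : p ^ c * (q - 1) ≤ q * (q - 1) := Nat.mul_le_mul_right _ (Nat.le_of_dvd (by omega) hxdvd)
          have h7 : q * (q - 1) + q = q * q := by
            rw [← Nat.mul_succ]; congr 1; omega
          omega
        · rw [hd'] at hw'
          by_cases h16 : 16 ≤ q
          · have h4x : 4 * p ^ c ≤ q := by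
              by_cases hx4 : 4 ≤ p ^ c
              · exact (Nat.mul_le_mul_right _ hx4).trans hx2
              · omega
            have h6 : 4 * (p ^ c * (q - 1)) ≤ q * (q - 1) := by
              rw [← mul_assoc]; exact Nat.mul_le_mul_right _ h4x
            have h7 : q * (q - 1) + q = q * q := by
              rw [← Nat.mul_succ]; congr 1; omega
            have h8 : 16 * q ≤ q * q := Nat.mul_le_mul_right q h16
            omega
          · have hx3 : p ^ c ≤ 3 := by
              by_contra hc4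
              have : 4 * 4 ≤ p ^ c * p ^ c := Nat.mul_le_mul (by omega) (by omega)
              omega
            rcases (show q = 10 ∨ q = 13 by omega) with rfl | rfl
            · have : p ^ c ≠ 3 := fun e => by
                rw [e] at hxdvd
                norm_num at hxdvd
              omega
            · omega
      · have h3 : (q : ZMod w) * ((p : ZMod w) ^ c * n) = 1 := by rw [hqz, ← mul_assoc, ← pow_add]; exact h1
        push_cast
        linear_combination (q : ZMod w) ^ 2 * h3 - (p : ZMod w) ^ c * (n : ZMod w) * hu3 + hv0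
    by_cases ha : a ≤ f
    · exact hfin (Or.inl (hDm ▸ hdiv ha ⟨k, hmk.symm⟩))
    by_cases hb : b ≤ f
    · exact hfin (Or.inr (htk ▸ hdiv hb ⟨m, by rw [← hmk]; ring⟩))
    have hD' : (p : ZMod w) ^ a * m = 1 := by rw [← hD, hDm]; push_cast; rfl
    have ht' : (p : ZMod w) ^ b * k = 1 := by rw [← ht, htk]; push_cast; rfl
    rcases le_total a b with hle | hle
    · exact (key hab (by omega) hle hmk hk hD' ht').elim
    · exact (key (by omega : b + a = 3 * f) (by omega) hle (by rw [← hmk]; ring) hm ht' hD').elim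

end CfsgLib.Dim3Max.SingerArith
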