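import Mathlib

/-!
Subgroups of order prime to the characteristic and of index `q` in `GL(2, q)`: none for `q ≥ 7`.

A point stabiliser is a split torus, so the points of the projective line fall into pairs `{r, -r}` with a
common stabiliser, and an element moving the pair `{0, ∞}` to `{1, -1}` breaks the pairing.
-/

set_option autoImplicit false

namespace CfsgLib.Dim3Max.SingerTorus

open Matrix
open scoped LinearAlgebra.Projectivization

variable {F : Type*} [Field F]

/-- A unipotent element of square-zero kind in a group of order invertible in the field is trivial. -/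
theorem eq_one_of_sq_zero {ι : Type*} [Fintype ι] [DecidableEq ι] {X : Subgroup (GL ι F)} [Finite X]
    (hX : (Nat.card X : F) ≠ 0) {g : GL ι F} (hg : g ∈ X)
    (hsq : ((g : Matrix ι ι F) - 1) * ((g : Matrix ι ι F) - 1) = 0) : g = 1 := by
  have key : ∀ n : ℕ, ((g : Matrix ι ι F)) ^ n = 1 + n • ((g : Matrix ι ι F) - 1) := by
    intro n
    induction n with
    | zero => simp
    | succ n ih =>
      rw [pow_succ, ih, show (g : Matrix ι ι F) = 1 + ((g : Matrix ι ι F) - 1) by abel, add_sub_cancel_left,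
        add_mul, one_mul, smul_mul_assoc, mul_add, mul_one, hsq, add_zero, add_assoc, succ_nsmul']
  have h1 : g ^ Nat.card X = 1 := by
    have := congrArg Subtype.val (pow_card_eq_one' (x := (⟨g, hg⟩ : X)))
    simpa only [SubmonoidClass.coe_pow, OneMemClass.coe_one] using this
  have h2 := key (Nat.card X)
  rw [← Units.val_pow_eq_pow_val, h1, Units.val_one, left_eq_add, ← Nat.cast_smul_eq_nsmul F, smul_eq_zero] at h2
  exact Units.ext (by rw [Units.val_one]; exact sub_eq_zero.1 (h2.resolve_left hX))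

/-- `g` fixes the point of `u`. -/
def Fixes (g : GL (Fin 2) F) (u : Fin 2 → F) : Prop :=
  ∃ c : F, (g : Matrix (Fin 2) (Fin 2) F) *ᵥ u = c • u

theorem Fixes.smul_iff {g : GL (Fin 2) F} {u : Fin 2 → F} {a : F} (ha : a ≠ 0) :
    Fixes g (a • u) ↔ Fixes g u := by
  constructor
  · rintro ⟨c, hc⟩
    refine ⟨c, ?_⟩
    rw [Matrix.mulVec_smul, smul_comm] at hc
    exact smul_right_injective _ ha hc
  · rintro ⟨c, hc⟩
    exact ⟨c, by rw [Matrix.mulVec_smul, hc, smul_comm]⟩

theorem fixes_conj (g k : GL (Fin 2) F) (u : Fin 2 → F) :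
    Fixes (k * g * k⁻¹) ((k : Matrix (Fin 2) (Fin 2) F) *ᵥ u) ↔ Fixes g u := by
  have e : ((k * g * k⁻¹ : GL (Fin 2) F) : Matrix (Fin 2) (Fin 2) F) *ᵥ ((k : Matrix (Fin 2) (Fin 2) F) *ᵥ u) =
      (k : Matrix (Fin 2) (Fin 2) F) *ᵥ ((g : Matrix (Fin 2) (Fin 2) F) *ᵥ u) := by
    rw [Matrix.mulVec_mulVec, ← Units.val_mul, inv_mul_cancel_right, Units.val_mul, Matrix.mulVec_mulVec]
  simp only [Fixes, e]
  constructor
  · rintro ⟨c, hc⟩
    refine ⟨c, ?_⟩
    have := congrArg (((k⁻¹ : GL (Fin 2) F) : Matrix (Fin 2) (Fin 2) F) *ᵥ ·) hc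
    simpa only [Matrix.mulVec_smul, Matrix.mulVec_mulVec, ← Matrix.mul_assoc, ← Units.val_mul, inv_mul_cancel_left, inv_mul_cancel,
      Units.val_one, Matrix.one_mul, Matrix.one_mulVec, one_mul] using this
  · rintro ⟨c, hc⟩
    exact ⟨c, by rw [hc, Matrix.mulVec_smul]⟩

theorem fixes_zero_iff {g : GL (Fin 2) F} :
    Fixes g ![1, 0] ↔ (g : Matrix (Fin 2) (Fin 2) F) 1 0 = 0 := by
  constructor
  · rintro ⟨c, hc⟩
    simpa [Matrix.mulVec, dotProduct, Fin.sum_univ_two] using congrFun hc 1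
  · intro h
    refine ⟨(g : Matrix (Fin 2) (Fin 2) F) 0 0, funext fun i => ?_⟩
    fin_cases i <;> simp [Matrix.mulVec, dotProduct, Fin.sum_univ_two, h]

theorem fixes_one_iff {g : GL (Fin 2) F} :
    Fixes g ![0, 1] ↔ (g : Matrix (Fin 2) (Fin 2) F) 0 1 = 0 := by
  constructor
  · rintro ⟨c, hc⟩
    simpa [Matrix.mulVec, dotProduct, Fin.sum_univ_two] using congrFun hc 0
  · intro h
    refine ⟨(g : Matrix (Fin 2) (Fin 2) F) 1 1, funext fun i => ?_⟩
    fin_cases i <;> simp [Matrix.mulVec, dotProduct, Fin.sum_univ_two, h]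

variable [Fintype F]

/-- The point stabiliser is as large as the diagonal group and the group is transitive on points. -/
theorem borel {X : Subgroup (GL (Fin 2) F)} (hX : (Nat.card X : F) ≠ 0)
    (hcard : Nat.card X = (Fintype.card F - 1) ^ 2 * (Fintype.card F + 1)) :
    (∀ a b : F, a ≠ 0 → b ≠ 0 → ∃ g ∈ X, (g : Matrix (Fin 2) (Fin 2) F) 1 0 = 0 ∧
      (g : Matrix (Fin 2) (Fin 2) F) 0 0 = a ∧ (g : Matrix (Fin 2) (Fin 2) F) 1 1 = b) ∧
    ∀ u : Fin 2 → F, u ≠ 0 → ∃ g ∈ X, ∃ c : F, c ≠ 0 ∧ (g : Matrix (Fin 2) (Fin 2) F) *ᵥ ![1, 0] = c • u := by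
  classical
  have he : (![1, 0] : Fin 2 → F) ≠ 0 := fun h => one_ne_zero (congrFun h 0)
  set P₀ : ℙ F (Fin 2 → F) := Projectivization.mk F ![1, 0] he
  have hP : Nat.card (ℙ F (Fin 2 → F)) = Fintype.card F + 1 := by
    rw [← Nat.card_eq_fintype_card]
    exact Projectivization.card_of_finrank_two F _ (by simp)
  set S := MulAction.stabilizer X P₀
  have hSmem : ∀ g : X, g ∈ S ↔ ((g : GL (Fin 2) F) : Matrix (Fin 2) (Fin 2) F) 1 0 = 0 := by
    intro g
    rw [← fixes_zero_iff, MulAction.mem_stabilizer_iff]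
    change (g : GL (Fin 2) F) • Projectivization.mk F ![1, 0] he = _ ↔ _
    rw [Projectivization.smul_mk, Projectivization.mk_eq_mk_iff']
    exact ⟨fun ⟨c, hc⟩ => ⟨c, hc.symm⟩, fun ⟨c, hc⟩ => ⟨c, hc.symm⟩⟩
  have hdet : ∀ g : S, (((g : X) : GL (Fin 2) F) : Matrix (Fin 2) (Fin 2) F) 0 0 ≠ 0 ∧
      (((g : X) : GL (Fin 2) F) : Matrix (Fin 2) (Fin 2) F) 1 1 ≠ 0 := by
    intro g
    have h := Matrix.GeneralLinearGroup.det_ne_zero ((g : X) : GL (Fin 2) F)
    rw [Matrix.det_fin_two, (hSmem g).1 g.2, mul_zero, sub_zero] at h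
    exact mul_ne_zero_iff.1 h
  let d : S → Fˣ × Fˣ := fun g => (Units.mk0 _ (hdet g).1, Units.mk0 _ (hdet g).2)
  have hdinj : Function.Injective d := by
    intro g g' h
    have h0 := congrArg (fun z : Fˣ × Fˣ => (z.1 : F)) h
    have h1 := congrArg (fun z : Fˣ × Fˣ => (z.2 : F)) h
    simp only [d, Units.val_mk0] at h0 h1
    refine mul_inv_eq_one.1 (Subtype.ext (Subtype.ext (eq_one_of_sq_zero hX (g * g'⁻¹ : S).1.2 ?_)))
    set k := ((g * g'⁻¹ : S) : X)
    have hk : ((k : GL (Fin 2) F) : Matrix (Fin 2) (Fin 2) F) * (((g' : X) : GL (Fin 2) F) : Matrix (Fin 2) (Fin 2) F) =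
        (((g : X) : GL (Fin 2) F) : Matrix (Fin 2) (Fin 2) F) := by
      rw [← Units.val_mul]
      simp [k]
    have k10 := (hSmem k).1 (g * g'⁻¹).2
    have e0 := congrFun (congrFun hk 0) 0
    have e1 := congrFun (congrFun hk 1) 1
    simp only [Matrix.mul_apply, Fin.sum_univ_two, (hSmem g').1 g'.2, k10, mul_zero, zero_mul, add_zero, zero_add,
      h0, h1] at e0 e1
    have k00 := (mul_eq_right₀ (hdet g').1).1 e0
    have k11 := (mul_eq_right₀ (hdet g').2).1 e1
    ext i j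
    fin_cases i <;> fin_cases j <;> simp [Matrix.mul_apply, Fin.sum_univ_two, k10, k00, k11]
  have hle : Nat.card S ≤ (Fintype.card F - 1) ^ 2 :=
    (Nat.card_le_card_of_injective d hdinj).trans_eq (by
      rw [Nat.card_prod, Nat.card_eq_fintype_card, Fintype.card_units, sq])
  have horb : (MulAction.orbit X P₀).ncard ≤ Fintype.card F + 1 := by
    rw [← hP]; exact Set.ncard_le_card _
  have hmul : (MulAction.orbit X P₀).ncard * Nat.card S = Nat.card X := by
    rw [← MulAction.index_stabilizer, Subgroup.index_mul_card]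
  have hpos : 0 < (Fintype.card F - 1) ^ 2 := pow_pos (by have := Fintype.one_lt_card (α := F); omega) 2
  have horbeq : (MulAction.orbit X P₀).ncard = Fintype.card F + 1 := by
    refine le_antisymm horb (Nat.le_of_mul_le_mul_left ?_ hpos)
    rw [← hcard, ← hmul, mul_comm]
    exact Nat.mul_le_mul_right _ hle
  have hSeq : Nat.card S = (Fintype.card F - 1) ^ 2 := by
    rw [horbeq, hcard, mul_comm] at hmul
    exact Nat.eq_of_mul_eq_mul_right (Nat.succ_pos _) hmul
  refine ⟨fun a b ha hb => ?_, fun u hu => ?_⟩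
  · have hsurj : Function.Surjective d := (hdinj.bijective_of_nat_card_le (by
      rw [hSeq, Nat.card_prod, Nat.card_eq_fintype_card, Fintype.card_units, sq])).2
    obtain ⟨g, hg⟩ := hsurj (Units.mk0 a ha, Units.mk0 b hb)
    exact ⟨_, (g : X).2, (hSmem g).1 g.2, congrArg (fun z : Fˣ × Fˣ => (z.1 : F)) hg,
      congrArg (fun z : Fˣ × Fˣ => (z.2 : F)) hg⟩
  · have huniv : MulAction.orbit X P₀ = Set.univ :=
      Set.eq_of_subset_of_ncard_le (Set.subset_univ _) (by rw [Set.ncard_univ, hP, horbeq])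
    obtain ⟨g, hg⟩ : Projectivization.mk F u hu ∈ MulAction.orbit X P₀ := huniv ▸ Set.mem_univ _
    change (g : GL (Fin 2) F) • Projectivization.mk F ![1, 0] he = _ at hg
    rw [Projectivization.smul_mk, Projectivization.mk_eq_mk_iff'] at hg
    obtain ⟨c, hc⟩ := hg
    refine ⟨g, g.2, c, ?_, hc.symm⟩
    rintro rfl
    rw [zero_smul] at hc
    exact (smul_ne_zero_iff_ne (g : GL (Fin 2) F)).2 he hc.symm

/-- The pairing of the points breaks. -/
theorem false_of_diag {X : Subgroup (GL (Fin 2) F)} (hq : 7 ≤ Fintype.card F)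
    (hdiag : ∀ a b : F, a ≠ 0 → b ≠ 0 → ∃ g ∈ X, (g : Matrix (Fin 2) (Fin 2) F) = !![a, 0; 0, b])
    (hS : ∀ g ∈ X, Fixes g ![1, 0] ↔ Fixes g ![0, 1]) {h : GL (Fin 2) F} (hh : h ∈ X) {β α γ : F}
    (hhm : (h : Matrix (Fin 2) (Fin 2) F) = !![β, α; β, γ]) : False := by
  classical
  obtain ⟨μ, hμ⟩ := IsCyclic.exists_ofOrder_eq_natCard (α := Fˣ)
  rw [Nat.card_eq_fintype_card, Fintype.card_units] at hμ
  -- the points fixed by a point stabiliser
  have L1 : ∀ k ∈ X, ∀ u : Fin 2 → F,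
      (∀ g ∈ X, Fixes g ((k : Matrix (Fin 2) (Fin 2) F) *ᵥ ![1, 0]) → Fixes g u) →
      ∃ c : F, u = c • ((k : Matrix (Fin 2) (Fin 2) F) *ᵥ ![1, 0]) ∨
        u = c • ((k : Matrix (Fin 2) (Fin 2) F) *ᵥ ![0, 1]) := by
    intro k hk u hu
    have hμ1 : (μ : F) ≠ 1 := fun e => by
      rw [Units.val_eq_one.1 e, orderOf_one] at hμ; omega
    obtain ⟨d, hd, hdm⟩ := hdiag 1 μ one_ne_zero μ.ne_zero
    set u' := ((k⁻¹ : GL (Fin 2) F) : Matrix (Fin 2) (Fin 2) F) *ᵥ u
    have hku : (k : Matrix (Fin 2) (Fin 2) F) *ᵥ u' = u := by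
      simp only [u', Matrix.mulVec_mulVec, ← Units.val_mul, mul_inv_cancel, Units.val_one, Matrix.one_mulVec]
    have h1 := hu (k * d * k⁻¹) (X.mul_mem (X.mul_mem hk hd) (X.inv_mem hk))
      ((fixes_conj d k _).2 (fixes_zero_iff.2 (by simp [hdm])))
    rw [← hku, fixes_conj] at h1
    obtain ⟨c, hc⟩ := h1
    rw [hdm] at hc
    have c0 : u' 0 = c * u' 0 := by simpa [Matrix.mulVec, dotProduct, Fin.sum_univ_two] using congrFun hc 0
    have c1 : (μ : F) * u' 1 = c * u' 1 := by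
      simpa [Matrix.mulVec, dotProduct, Fin.sum_univ_two] using congrFun hc 1
    by_cases h0 : u' 0 = 0
    · refine ⟨u' 1, Or.inr ?_⟩
      rw [← hku, ← Matrix.mulVec_smul]
      congr 1; funext i; fin_cases i <;> simp [h0]
    · refine ⟨u' 0, Or.inl ?_⟩
      have hc1 : c = 1 := (mul_eq_right₀ h0).1 c0.symm
      have h10 : u' 1 = 0 := by
        by_contra hne
        exact hμ1 ((mul_right_cancel₀ hne c1).trans hc1)
      rw [← hku, ← Matrix.mulVec_smul]
      congr 1; funext i; fin_cases i <;> simp [h10]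
  have L2 : ∀ k ∈ X, ∀ g ∈ X, Fixes g ((k : Matrix (Fin 2) (Fin 2) F) *ᵥ ![1, 0]) ↔
      Fixes g ((k : Matrix (Fin 2) (Fin 2) F) *ᵥ ![0, 1]) := by
    intro k hk g hg
    have e : g = k * (k⁻¹ * g * k) * k⁻¹ := by group
    rw [e, fixes_conj, fixes_conj]
    exact hS _ (X.mul_mem (X.mul_mem (X.inv_mem hk) hg) hk)
  have hdeth : β * (γ - α) ≠ 0 := by
    have hd0 := Matrix.GeneralLinearGroup.det_ne_zero h
    rw [hhm, Matrix.det_fin_two] at hd0
    simp at hd0
    intro e; exact hd0 (by linear_combination e)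
  have hβ : β ≠ 0 := left_ne_zero_of_mul hdeth
  have h0 : (h : Matrix (Fin 2) (Fin 2) F) *ᵥ ![1, 0] = β • ![1, 1] := by
    rw [hhm]; funext i; fin_cases i <;> simp [Matrix.mulVec, dotProduct, Fin.sum_univ_two]
  have h1 : (h : Matrix (Fin 2) (Fin 2) F) *ᵥ ![0, 1] = ![α, γ] := by
    rw [hhm]; funext i; fin_cases i <;> simp [Matrix.mulVec, dotProduct, Fin.sum_univ_two]
  have hμ1 : (μ : F) ≠ 1 := fun e => by
    rw [Units.val_eq_one.1 e, orderOf_one] at hμ; omega
  have hα : α ≠ 0 := by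
    intro hα0
    obtain ⟨d, hd, hdm⟩ := hdiag 1 μ one_ne_zero μ.ne_zero
    have hγ : γ ≠ 0 := fun e => hdeth (by rw [e, hα0]; ring)
    have hfix : Fixes d ((h : Matrix (Fin 2) (Fin 2) F) *ᵥ ![0, 1]) := by
      rw [h1, hα0]
      refine ⟨μ, funext fun i => ?_⟩
      rw [hdm]
      fin_cases i <;> simp [Matrix.mulVec, dotProduct, Fin.sum_univ_two]
    have := (L2 h hh d hd).2 hfix
    rw [h0, Fixes.smul_iff hβ] at this
    obtain ⟨c, hc⟩ := this
    rw [hdm] at hc
    have c0 : (1 : F) = c := by simpa [Matrix.mulVec, dotProduct, Fin.sum_univ_two] using congrFun hc 0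
    have c1 : (μ : F) = c := by simpa [Matrix.mulVec, dotProduct, Fin.sum_univ_two] using congrFun hc 1
    exact hμ1 (c1.trans c0.symm)
  set ρ := γ / α
  have hρ1 : ρ ≠ 1 := fun e => hdeth (by
    rw [div_eq_one_iff_eq hα] at e; rw [e, sub_self, mul_zero])
  have hρ0 : ρ ≠ 0 := by
    intro e
    have hγ : γ = 0 := by simpa [ρ, hα] using e
    obtain ⟨d, hd, hdm⟩ := hdiag 1 μ one_ne_zero μ.ne_zero
    have hfix : Fixes d ((h : Matrix (Fin 2) (Fin 2) F) *ᵥ ![0, 1]) := by
      rw [h1, hγ]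
      refine ⟨1, funext fun i => ?_⟩
      rw [hdm]
      fin_cases i <;> simp [Matrix.mulVec, dotProduct, Fin.sum_univ_two]
    have := (L2 h hh d hd).2 hfix
    rw [h0, Fixes.smul_iff hβ] at this
    obtain ⟨c, hc⟩ := this
    rw [hdm] at hc
    have c0 : (1 : F) = c := by simpa [Matrix.mulVec, dotProduct, Fin.sum_univ_two] using congrFun hc 0
    have c1 : (μ : F) = c := by simpa [Matrix.mulVec, dotProduct, Fin.sum_univ_two] using congrFun hc 1
    exact hμ1 (c1.trans c0.symm)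
  have L3 : ∀ r : F, r ≠ 0 → ∃ k ∈ X, (k : Matrix (Fin 2) (Fin 2) F) *ᵥ ![1, 0] = β • ![1, r] ∧
      (k : Matrix (Fin 2) (Fin 2) F) *ᵥ ![0, 1] = α • ![1, r * ρ] := by
    intro r hr
    obtain ⟨d, hd, hdm⟩ := hdiag 1 r one_ne_zero hr
    refine ⟨d * h, X.mul_mem hd hh, ?_, ?_⟩
    · rw [Units.val_mul, ← Matrix.mulVec_mulVec, h0, Matrix.mulVec_smul, hdm]
      congr 1; funext i; fin_cases i <;> simp [Matrix.mulVec, dotProduct, Fin.sum_univ_two]
    · rw [Units.val_mul, ← Matrix.mulVec_mulVec, h1, hdm]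
      funext i; fin_cases i <;> simp [Matrix.mulVec, dotProduct, Fin.sum_univ_two, ρ]
      field_simp
  have hpair : ∀ r : F, r ≠ 0 → ∀ g ∈ X, Fixes g ![1, r] ↔ Fixes g ![1, r * ρ] := by
    intro r hr g hg
    obtain ⟨k, hk, e0, e1⟩ := L3 r hr
    have := L2 k hk g hg
    rwa [e0, e1, Fixes.smul_iff hβ, Fixes.smul_iff hα] at this
  have hneed : ∀ r s : F, r ≠ 0 → (∀ g ∈ X, Fixes g ![1, r] → Fixes g ![1, s]) → s = r ∨ s = r * ρ := by
    intro r s hr hrs
    obtain ⟨k, hk, e0, e1⟩ := L3 r hr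
    obtain ⟨c, hc⟩ := L1 k hk ![1, s] (fun g hg hf => hrs g hg (by rwa [e0, Fixes.smul_iff hβ] at hf))
    rw [e0, e1, smul_smul, smul_smul] at hc
    rcases hc with hc | hc
    · left
      have c0 := congrFun hc 0
      have c1 := congrFun hc 1
      simp at c0 c1
      rw [c1, ← c0, one_mul]
    · right
      have c0 := congrFun hc 0
      have c1 := congrFun hc 1
      simp at c0 c1
      rw [c1, ← c0, one_mul]
  have hρm : ρ = -1 := by
    rcases hneed 1 (ρ * ρ) one_ne_zero (fun g hg hf => (hpair ρ hρ0 g hg).1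
      (by simpa using (hpair 1 one_ne_zero g hg).1 hf)) with e | e
    · exact (mul_self_eq_one_iff.1 e).resolve_left hρ1
    · exact absurd ((mul_eq_right₀ hρ0).1 (by rwa [one_mul] at e)) hρ1
  have hγ : γ = -α := by
    have : γ / α = -1 := hρm
    field_simp at this
    exact this
  have hkey : ∀ r : F, r ≠ 0 → β + α * r ≠ 0 → β - α * r ≠ 0 → β ^ 2 + α ^ 2 * r ^ 2 = 0 := by
    intro r hr hp hm
    set s := (β - α * r) / (β + α * r)
    have hs : s ≠ 0 := div_ne_zero hm hp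
    have ea : (h : Matrix (Fin 2) (Fin 2) F) *ᵥ ![1, r] = (β + α * r) • ![1, s] := by
      rw [hhm, hγ]; funext i; fin_cases i <;> simp [Matrix.mulVec, dotProduct, Fin.sum_univ_two, s]
      · field_simp; ring
    have eb : (h : Matrix (Fin 2) (Fin 2) F) *ᵥ ![1, -r] = (β - α * r) • ![1, s⁻¹] := by
      rw [hhm, hγ]; funext i; fin_cases i <;> simp [Matrix.mulVec, dotProduct, Fin.sum_univ_two, s]
      · ring
      · field_simp
    have himp : ∀ g ∈ X, Fixes g ![1, s] → Fixes g ![1, s⁻¹] := by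
      intro g hg hf
      rw [← Fixes.smul_iff hm, ← eb, show g = h * (h⁻¹ * g * h) * h⁻¹ by group, fixes_conj]
      rw [← Fixes.smul_iff hp, ← ea, show g = h * (h⁻¹ * g * h) * h⁻¹ by group, fixes_conj] at hf
      have := (hpair r hr _ (X.mul_mem (X.mul_mem (X.inv_mem hh) hg) hh)).1 hf
      rwa [hρm, mul_neg, mul_one] at this
    have h20 : (2 : F) ≠ 0 := by
      intro h2
      exact hρ1 (by rw [hρm]; linear_combination -h2)
    rcases hneed s s⁻¹ hs himp with e | e
    · exfalso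
      have e' : s * s = 1 := by
        calc s * s = s * s⁻¹ := by rw [e]
          _ = 1 := mul_inv_cancel₀ hs
      have hsm : s * (β + α * r) = β - α * r := div_mul_cancel₀ _ hp
      exact mul_ne_zero (mul_ne_zero (mul_ne_zero h20 h20) (mul_ne_zero hβ hα)) hr (by
        linear_combination (-(β + α * r) ^ 2) * e' + (s * (β + α * r) + (β - α * r)) * hsm)
    · rw [hρm] at e
      have hsm : s * (β + α * r) = β - α * r := div_mul_cancel₀ _ hp
      clear_value s
      have e' : s * s = -1 := by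
        have h3 := congrArg (s * ·) e
        simp only [mul_inv_cancel₀ hs] at h3
        linear_combination h3
      have h2' : (2 : F) * (β ^ 2 + α ^ 2 * r ^ 2) = 0 := by
        linear_combination (β + α * r) ^ 2 * e' - (s * (β + α * r) + (β - α * r)) * hsm
      exact (mul_eq_zero.1 h2').resolve_left h20
  have hgood : ∀ r : F, r ≠ 0 → (α * r) ^ 2 ≠ β ^ 2 → β + α * r ≠ 0 ∧ β - α * r ≠ 0 := fun r hr hne =>
    ⟨fun e => hne (by linear_combination (α * r - β) * e), fun e => hne (by linear_combination (-(α * r + β)) * e)⟩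
  have hpow : ∀ i j : ℕ, i ≤ 4 → j ≤ 4 → (μ : F) ^ i = (μ : F) ^ j → i = j := by
    intro i j hi hj he
    rw [← Units.val_pow_eq_pow_val, ← Units.val_pow_eq_pow_val, Units.val_inj] at he
    exact pow_injOn_Iio_orderOf (by rw [hμ, Set.mem_Iio]; omega) (by rw [hμ, Set.mem_Iio]; omega) he
  have hall : ∀ i j : ℕ, i ≤ 2 → j ≤ 2 → i ≠ j → (α * (μ : F) ^ i) ^ 2 ≠ β ^ 2 → (α * (μ : F) ^ j) ^ 2 = β ^ 2 := by
    intro i j hi hj hij hbi
    by_contra hbj
    have hri := pow_ne_zero i μ.ne_zero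
    have hrj := pow_ne_zero j μ.ne_zero
    have ei := hkey _ hri (hgood _ hri hbi).1 (hgood _ hri hbi).2
    have ej := hkey _ hrj (hgood _ hrj hbj).1 (hgood _ hrj hbj).2
    have : ((μ : F) ^ i) ^ 2 = ((μ : F) ^ j) ^ 2 := mul_left_cancel₀ (pow_ne_zero 2 hα) (by linear_combination ei - ej)
    rw [← pow_mul, ← pow_mul] at this
    have := hpow _ _ (by omega) (by omega) this
    omega
  have hne : ∀ i j : ℕ, i ≤ 2 → j ≤ 2 → (α * (μ : F) ^ i) ^ 2 = β ^ 2 → (α * (μ : F) ^ j) ^ 2 = β ^ 2 → i = j := by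
    intro i j hi hj ei ej
    have : ((μ : F) ^ i) ^ 2 = ((μ : F) ^ j) ^ 2 := mul_left_cancel₀ (pow_ne_zero 2 hα) (by linear_combination ei - ej)
    rw [← pow_mul, ← pow_mul] at this
    have := hpow _ _ (by omega) (by omega) this
    omega
  by_cases b0 : (α * (μ : F) ^ 0) ^ 2 = β ^ 2
  · have b1 : (α * (μ : F) ^ 1) ^ 2 ≠ β ^ 2 := fun b => absurd (hne 0 1 (by norm_num) (by norm_num) b0 b) (by norm_num)
    exact absurd (hne 0 2 (by norm_num) (by norm_num) b0 (hall 1 2 (by norm_num) (by norm_num) (by norm_num) b1)) (by norm_num)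
  · have b1 := hall 0 1 (by norm_num) (by norm_num) (by norm_num) b0
    have b2 := hall 0 2 (by norm_num) (by norm_num) (by norm_num) b0
    exact absurd (hne 1 2 (by norm_num) (by norm_num) b1 b2) (by norm_num)

/-- No subgroup of index `q` prime to the characteristic for `q ≥ 7`. -/
theorem false_of_card {X : Subgroup (GL (Fin 2) F)} (hq : 7 ≤ Fintype.card F) (hX : (Nat.card X : F) ≠ 0)
    (hcard : Nat.card X = (Fintype.card F - 1) ^ 2 * (Fintype.card F + 1)) : False := by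
  classical
  obtain ⟨μ, hμ⟩ := IsCyclic.exists_ofOrder_eq_natCard (α := Fˣ)
  rw [Nat.card_eq_fintype_card, Fintype.card_units] at hμ
  have hμ1 : (μ : F) ≠ 1 := fun e => by
    rw [Units.val_eq_one.1 e, orderOf_one] at hμ; omega
  obtain ⟨hB, -⟩ := borel hX hcard
  obtain ⟨t, ht, t10, t00, t11⟩ := hB 1 μ one_ne_zero μ.ne_zero
  set P : GL (Fin 2) F := Matrix.GeneralLinearGroup.mkOfDetNeZero
    !![1, (t : Matrix (Fin 2) (Fin 2) F) 0 1; 0, (μ : F) - 1]
    (by simp [Matrix.det_fin_two, sub_ne_zero.2 hμ1]) with hPdef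
  have hPm : (P : Matrix (Fin 2) (Fin 2) F) = !![1, (t : Matrix (Fin 2) (Fin 2) F) 0 1; 0, (μ : F) - 1] := rfl
  set X' := X.map (MulAut.conj P⁻¹).toMonoidHom with hX'
  have hcard' : Nat.card X' = Nat.card X := Subgroup.card_map_of_injective (MulAut.conj P⁻¹).injective
  have hXf' : (Nat.card X' : F) ≠ 0 := by rwa [hcard']
  obtain ⟨hB', htr⟩ := borel hXf' (hcard'.trans hcard)
  have hd0 : P⁻¹ * t * P ∈ X' := ⟨t, ht, by simp⟩
  have hd0m : ((P⁻¹ * t * P : GL (Fin 2) F) : Matrix (Fin 2) (Fin 2) F) = !![1, 0; 0, (μ : F)] := by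
    have e : (t : Matrix (Fin 2) (Fin 2) F) * P = P * !![1, 0; 0, (μ : F)] := by
      rw [hPm]
      ext i j
      fin_cases i <;> fin_cases j <;> simp [Matrix.mul_apply, Fin.sum_univ_two, t10, t00, t11] <;> ring
    rw [mul_assoc, Units.val_mul, Units.val_mul, e, ← Matrix.mul_assoc, ← Units.val_mul, inv_mul_cancel,
      Units.val_one, Matrix.one_mul]
  -- the point stabilisers at the two coordinate points are diagonal
  have hcomm : ∀ g ∈ X', ((g : Matrix (Fin 2) (Fin 2) F) 1 0 = 0 ∨ (g : Matrix (Fin 2) (Fin 2) F) 0 1 = 0) →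
      (g : Matrix (Fin 2) (Fin 2) F) 1 0 = 0 ∧ (g : Matrix (Fin 2) (Fin 2) F) 0 1 = 0 := by
    intro g hg hor
    set d := P⁻¹ * t * P
    have hk : g * d * g⁻¹ * d⁻¹ = 1 := by
      refine eq_one_of_sq_zero hXf' (X'.mul_mem (X'.mul_mem (X'.mul_mem hg hd0) (X'.inv_mem hg)) (X'.inv_mem hd0)) ?_
      set k := g * d * g⁻¹ * d⁻¹
      have hkm : (k : Matrix (Fin 2) (Fin 2) F) * ((d : Matrix (Fin 2) (Fin 2) F) * g) =
          (g : Matrix (Fin 2) (Fin 2) F) * d := by
        rw [← Units.val_mul, ← Units.val_mul, ← Units.val_mul]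
        simp [k, mul_assoc]
      have hdet := Matrix.GeneralLinearGroup.det_ne_zero g
      rw [Matrix.det_fin_two] at hdet
      have e00 := congrFun (congrFun hkm 0) 0
      have e01 := congrFun (congrFun hkm 0) 1
      have e10 := congrFun (congrFun hkm 1) 0
      have e11 := congrFun (congrFun hkm 1) 1
      have hμ0 := μ.ne_zero
      rcases hor with h | h
      · simp only [Matrix.mul_apply, Fin.sum_univ_two, hd0m, h, Matrix.of_apply, Matrix.cons_val', Matrix.cons_val_zero,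
          Matrix.cons_val_one, Matrix.empty_val', Matrix.cons_val_fin_one, mul_zero, zero_mul, add_zero, zero_add,
          one_mul, mul_one, sub_zero] at e00 e01 e10 e11 hdet
        have k00 := (mul_eq_right₀ (left_ne_zero_of_mul hdet)).1 e00
        have k10 := (mul_eq_zero.1 e10).resolve_right (left_ne_zero_of_mul hdet)
        have k11 : (k : Matrix (Fin 2) (Fin 2) F) 1 1 = 1 := by
          rw [k10, zero_mul, zero_add] at e11
          exact mul_right_cancel₀ (mul_ne_zero hμ0 (right_ne_zero_of_mul hdet)) (by linear_combination e11)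
        ext i j
        fin_cases i <;> fin_cases j <;> simp [Matrix.mul_apply, Fin.sum_univ_two, k00, k10, k11]
      · simp only [Matrix.mul_apply, Fin.sum_univ_two, hd0m, h, Matrix.of_apply, Matrix.cons_val', Matrix.cons_val_zero,
          Matrix.cons_val_one, Matrix.empty_val', Matrix.cons_val_fin_one, mul_zero, zero_mul, add_zero, zero_add,
          one_mul, mul_one, sub_zero] at e00 e01 e10 e11 hdet
        have k01 := (mul_eq_zero.1 e01).resolve_right (mul_ne_zero hμ0 (right_ne_zero_of_mul hdet))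
        have k00 : (k : Matrix (Fin 2) (Fin 2) F) 0 0 = 1 := by
          rw [k01, zero_mul, add_zero] at e00
          exact (mul_eq_right₀ (left_ne_zero_of_mul hdet)).1 e00
        have k11 : (k : Matrix (Fin 2) (Fin 2) F) 1 1 = 1 :=
          mul_right_cancel₀ (mul_ne_zero hμ0 (right_ne_zero_of_mul hdet)) (by linear_combination e11)
        ext i j
        fin_cases i <;> fin_cases j <;> simp [Matrix.mul_apply, Fin.sum_univ_two, k00, k01, k11]
    have hgd : g * d = d * g := mul_inv_eq_iff_eq_mul.1 (mul_inv_eq_one.1 hk)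
    have e := congrArg (Units.val : GL (Fin 2) F → Matrix (Fin 2) (Fin 2) F) hgd
    rw [Units.val_mul g d, Units.val_mul d g, hd0m] at e
    have e10 := congrFun (congrFun e 1) 0
    have e01 := congrFun (congrFun e 0) 1
    simp [Matrix.mul_apply, Fin.sum_univ_two] at e10 e01
    exact ⟨(mul_eq_zero.1 (show ((μ : F) - 1) * (g : Matrix (Fin 2) (Fin 2) F) 1 0 = 0 by linear_combination -e10)).resolve_left
        (sub_ne_zero.2 hμ1),
      (mul_eq_zero.1 (show ((μ : F) - 1) * (g : Matrix (Fin 2) (Fin 2) F) 0 1 = 0 by linear_combination e01)).resolve_left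
        (sub_ne_zero.2 hμ1)⟩
  obtain ⟨g, hg, c, hc, hgu⟩ := htr ![1, 1] (fun e => one_ne_zero (congrFun e 0))
  refine false_of_diag (X := X') hq (fun a b ha hb => ?_) (fun g hg => ?_) hg
    (β := c) (α := (g : Matrix (Fin 2) (Fin 2) F) 0 1) (γ := (g : Matrix (Fin 2) (Fin 2) F) 1 1) ?_
  · obtain ⟨g, hg, g10, g00, g11⟩ := hB' a b ha hb
    refine ⟨g, hg, ?_⟩
    ext i j
    fin_cases i <;> fin_cases j <;> simp [g10, g00, g11, (hcomm g hg (Or.inl g10)).2]
  · rw [fixes_zero_iff, fixes_one_iff]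
    exact ⟨fun e => (hcomm g hg (Or.inl e)).2, fun e => (hcomm g hg (Or.inr e)).1⟩
  · have g0 : (g : Matrix (Fin 2) (Fin 2) F) 0 0 = c := by
      simpa [Matrix.mulVec, dotProduct, Fin.sum_univ_two] using congrFun hgu 0
    have g1 : (g : Matrix (Fin 2) (Fin 2) F) 1 0 = c := by
      simpa [Matrix.mulVec, dotProduct, Fin.sum_univ_two] using congrFun hgu 1
    ext i j
    fin_cases i <;> fin_cases j <;> simp [g0, g1]

end CfsgLib.Dim3Max.SingerTorus
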