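import Cfsg.Agent.Lib.Dim3Max.SingerGroup
import Cfsg.Agent.Lib.Dim3Max.SingerArith
import Cfsg.Agent.Lib.Dim3Max.SingerTorus
import Cfsg.Agent.Lib.Dim3Max.LinRoot
import Cfsg.Agent.Lib.Classical.Order
import Cfsg.Agent.Lib.Perm.PrimeTwinFive

/-!
S5774, row 3: the normaliser of a cubic field of matrices is maximal in `SL(3, q)` for `q ≠ 4`.

The index `D` below an overgroup is one modulo the order of the projective Singer group, so it is one of
`1`, `(q - 1)² (q + 1) / 3`, `q³`, `q³ (q - 1)² (q + 1) / 3`.  The third value gives a full root group, and the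
second one gives a point stabiliser which is too large for a group of order prime to the characteristic.
-/

set_option autoImplicit false
set_option linter.style.haveILetI false

namespace CfsgLib.Dim3Max.LinSinger

open scoped Matrix MatrixGroups
open CfsgLib.Maximal

universe u

variable {F : Type u} [Field F]

/-- The first basis vector. -/
def e0 : Fin 3 → F := Pi.single 0 1

theorem e0_ne_zero : (e0 : Fin 3 → F) ≠ 0 := fun h => by simpa [e0] using congrFun h 0

theorem mulVec_e0 (A : Matrix (Fin 3) (Fin 3) F) (i : Fin 3) : (A *ᵥ e0) i = A i 0 := by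
  simp [e0]

theorem mul_col {A B : Matrix (Fin 3) (Fin 3) F} (h1 : B 1 0 = 0) (h2 : B 2 0 = 0) (i : Fin 3) :
    (A * B) i 0 = A i 0 * B 0 0 := by
  simp [Matrix.mul_apply, Fin.sum_univ_three, h1, h2]

variable [Fintype F]

/-- The stabiliser of the first point. -/
def pointStab (M : Subgroup (GL (Fin 3) F)) : Subgroup M :=
  haveI : Finite M := Finite.of_injective _ (Units.val_injective.comp Subtype.val_injective)
  let S : Submonoid M :=
    { carrier := {g | ((g : GL (Fin 3) F) : Matrix (Fin 3) (Fin 3) F) 1 0 = 0 ∧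
        ((g : GL (Fin 3) F) : Matrix (Fin 3) (Fin 3) F) 2 0 = 0}
      one_mem' := by simp
      mul_mem' := fun {a b} ha hb => by
        constructor <;> simp only [Subgroup.coe_mul, Units.val_mul, mul_col hb.1 hb.2, ha.1, ha.2, zero_mul] }
  { S with
    inv_mem' := fun {x} hx => by
      have h1 : x⁻¹ = x ^ (orderOf x - 1) := by
        rw [inv_eq_iff_mul_eq_one, ← pow_succ', Nat.sub_add_cancel (isOfFinOrder_of_finite x).orderOf_pos,
          pow_orderOf_eq_one]
      show x⁻¹ ∈ S
      rw [h1]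
      exact pow_mem hx _ }

theorem mem_pointStab {M : Subgroup (GL (Fin 3) F)} {g : M} :
    g ∈ pointStab M ↔ ((g : GL (Fin 3) F) : Matrix (Fin 3) (Fin 3) F) 1 0 = 0 ∧
      ((g : GL (Fin 3) F) : Matrix (Fin 3) (Fin 3) F) 2 0 = 0 := Iff.rfl

theorem mem_pointStab_iff {M : Subgroup (GL (Fin 3) F)} {g : M} :
    g ∈ pointStab M ↔ ∃ a : F, ((g : GL (Fin 3) F) : Matrix (Fin 3) (Fin 3) F) *ᵥ e0 = a • e0 := by
  rw [mem_pointStab]
  constructor
  · rintro ⟨h1, h2⟩
    refine ⟨((g : GL (Fin 3) F) : Matrix (Fin 3) (Fin 3) F) 0 0, funext fun i => ?_⟩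
    rw [mulVec_e0]
    fin_cases i <;> simp [e0, h1, h2]
  · rintro ⟨a, ha⟩
    constructor
    · simpa [mulVec_e0, e0] using congrFun ha 1
    · simpa [mulVec_e0, e0] using congrFun ha 2

/-- The point of the image of the first basis vector. -/
noncomputable def toPoint (M : Subgroup (GL (Fin 3) F)) : M ⧸ pointStab M → Projectivization F (Fin 3 → F) :=
  Quotient.lift
    (fun g : M => Projectivization.mk F (((g : GL (Fin 3) F) : Matrix (Fin 3) (Fin 3) F) *ᵥ e0)
      (mulVec_ne_zero _ e0_ne_zero))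
    (fun a b hab => by
      have h : a⁻¹ * b ∈ pointStab M := QuotientGroup.leftRel_apply.1 hab
      obtain ⟨s, hs⟩ := mem_pointStab_iff.1 h
      refine ((Projectivization.mk_eq_mk_iff' F _ _ _ _).2 ⟨s, ?_⟩).symm
      have hb : ((b : M) : GL (Fin 3) F) = (a : GL (Fin 3) F) * ((a⁻¹ * b : M) : GL (Fin 3) F) := by simp
      rw [hb, Units.val_mul, ← Matrix.mulVec_mulVec, hs, Matrix.mulVec_smul])

theorem toPoint_injective (M : Subgroup (GL (Fin 3) F)) : Function.Injective (toPoint M) := by
  intro x y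
  refine Quotient.inductionOn₂ x y fun a b hab => ?_
  obtain ⟨s, hs⟩ := (Projectivization.mk_eq_mk_iff' F _ _ _ _).1 hab.symm
  refine Quotient.sound (QuotientGroup.leftRel_apply.2 (mem_pointStab_iff.2 ⟨s, ?_⟩))
  rw [Subgroup.coe_mul, Units.val_mul, ← Matrix.mulVec_mulVec, ← hs, Matrix.mulVec_smul, Matrix.mulVec_mulVec,
    ← Units.val_mul, ← Subgroup.coe_mul, inv_mul_cancel, Subgroup.coe_one, Units.val_one, Matrix.one_mulVec]

theorem card_points :
    Nat.card (Projectivization F (Fin 3 → F)) = Fintype.card F * Fintype.card F + Fintype.card F + 1 := by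
  have h := Projectivization.card F (Fin 3 → F)
  rw [Nat.card_fun, Nat.card_eq_fintype_card (α := F), Nat.card_fin] at h
  exact SingerGroup.arith_norm Fintype.one_lt_card h.symm

/-- The lower block on the stabiliser of the first point. -/
def blockHom (M : Subgroup (GL (Fin 3) F)) : pointStab M →* Matrix (Fin 2) (Fin 2) F where
  toFun g := (((g : M) : GL (Fin 3) F) : Matrix (Fin 3) (Fin 3) F).submatrix Fin.succ Fin.succ
  map_one' := by
    simp only [Subgroup.coe_one, Units.val_one]
    exact Matrix.submatrix_one _ (Fin.succ_injective _)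
  map_mul' g h := by
    ext i j
    have hg : (((g : M) : GL (Fin 3) F) : Matrix (Fin 3) (Fin 3) F) i.succ 0 = 0 := by
      fin_cases i
      · exact g.2.1
      · exact g.2.2
    simp only [Subgroup.coe_mul, Units.val_mul, Matrix.submatrix_apply, Matrix.mul_apply, Fin.sum_univ_succ (n := 2),
      hg, zero_mul, zero_add]

theorem blockHom_injective {M : Subgroup (GL (Fin 3) F)} (hMS : M ≤ sl3 F) (hcard : (Nat.card M : F) ≠ 0) :
    Function.Injective (blockHom M).toHomUnits := by
  haveI : Finite M := Finite.of_injective _ (Units.val_injective.comp Subtype.val_injective)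
  rw [injective_iff_map_eq_one]
  intro g hg
  have hb : blockHom M g = 1 := congrArg Units.val hg
  set A := (((g : M) : GL (Fin 3) F) : Matrix (Fin 3) (Fin 3) F) with hA
  have h10 : A 1 0 = 0 := g.2.1
  have h20 : A 2 0 = 0 := g.2.2
  have h11 : A 1 1 = 1 := by simpa [blockHom, hA] using congrFun (congrFun hb 0) 0
  have h12 : A 1 2 = 0 := by simpa [blockHom, hA] using congrFun (congrFun hb 0) 1
  have h21 : A 2 1 = 0 := by simpa [blockHom, hA] using congrFun (congrFun hb 1) 0
  have h22 : A 2 2 = 1 := by simpa [blockHom, hA] using congrFun (congrFun hb 1) 1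
  have hdet : A.det = 1 := (mem_specialLinear_iff _).1 (hMS (g : M).2)
  rw [Matrix.det_fin_three] at hdet
  have h00 : A 0 0 = 1 := by simpa [h10, h20, h11, h12, h21, h22] using hdet
  refine Subtype.ext (Subtype.ext ?_)
  refine SingerTorus.eq_one_of_sq_zero hcard (g : M).2 ?_
  ext i j
  fin_cases i <;> fin_cases j <;>
    simp [Matrix.mul_apply, Fin.sum_univ_three, ← hA, h00, h10, h20, h11, h12, h21, h22]

theorem cast_bb {q : ℕ} (hq : 1 ≤ q) (h0 : (q : F) = 0) : (SingerArith.bb q : F) = 1 := by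
  rw [SingerArith.bb, Nat.cast_mul, Nat.cast_pow, Nat.cast_sub hq, Nat.cast_add, h0]
  simp

theorem card_sl3 : Nat.card (sl3 F) =
    Fintype.card F ^ 3 * ((Fintype.card F * Fintype.card F + Fintype.card F + 1) * SingerArith.bb (Fintype.card F)) := by
  have he : sl3 F = (Matrix.GeneralLinearGroup.det : GL (Fin 3) F →* Fˣ).ker := rfl
  rw [he, Classical.card_det_ker, Classical.card_SL_fin', Nat.card_eq_fintype_card (α := F)]
  obtain ⟨t, ht⟩ : ∃ t, Fintype.card F = 2 + t :=
    ⟨Fintype.card F - 2, by have := Fintype.one_lt_card (α := F); omega⟩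
  rw [ht, SingerArith.bb]
  simp only [Finset.prod_range_succ, Finset.prod_range_zero, one_mul, show 3 * (3 - 1) / 2 = 3 by rfl,
    show 3 - 1 = 2 by rfl, show 2 + t - 1 = t + 1 by omega, zero_add]
  congr 1
  have e1 : (2 + t) ^ 2 - 1 = (t + 1) * (2 + t + 1) := by
    rw [Nat.sub_eq_iff_eq_add (Nat.one_le_pow _ _ (by omega))]; ring
  have e2 : (2 + t) ^ 3 - 1 = (t + 1) * ((2 + t) * (2 + t) + (2 + t) + 1) := by
    rw [Nat.sub_eq_iff_eq_add (Nat.one_le_pow _ _ (by omega))]; ring
  norm_num only [e1, e2]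
  ring

/-- A subgroup containing a Sylow subgroup of the characteristic contains a full root group. -/
theorem exists_fullRoot {p f : ℕ} (hp : p.Prime) (hq : Fintype.card F = p ^ f) (hpn : ¬ p ∣
      (Fintype.card F * Fintype.card F + Fintype.card F + 1) * SingerArith.bb (Fintype.card F))
    {M : Subgroup (GL (Fin 3) F)} (hMS : M ≤ sl3 F) (hdvd : Fintype.card F ^ 3 ∣ Nat.card M) :
    ∃ c φ : Fin 3 → F, FullRoot M c φ := by
  classical
  haveI := Fact.mk hp
  haveI : Finite (GL (Fin 3) F) := inferInstance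
  rw [hq, ← pow_mul] at hdvd
  obtain ⟨P, hP⟩ := Sylow.exists_subgroup_card_pow_prime (G := M) p hdvd
  set P' : Subgroup (sl3 F) := P.map (Subgroup.inclusion hMS) with hP'
  have hP'card : Nat.card P' = p ^ (f * 3) := by
    rw [hP', Subgroup.card_map_of_injective (Subgroup.inclusion_injective hMS), hP]
  obtain ⟨Q, hQ⟩ := (IsPGroup.of_card hP'card).exists_le_sylow
  have hQP : (Q : Subgroup (sl3 F)) = P' := by
    refine (Subgroup.eq_of_le_of_card_ge hQ ?_).symm
    obtain ⟨n, hn⟩ := Q.isPGroup'.exists_card_eq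
    have hd : p ^ n ∣ p ^ (f * 3) * ((Fintype.card F * Fintype.card F + Fintype.card F + 1) *
        SingerArith.bb (Fintype.card F)) := by
      rw [← hn, pow_mul, ← hq, ← card_sl3]
      exact Subgroup.card_subgroup_dvd_card _
    rw [hn, hP'card]
    exact Nat.le_of_dvd (pow_pos hp.pos _) (((hp.coprime_iff_not_dvd.2 hpn).pow_left n).dvd_of_dvd_mul_right hd)
  let e2 : Fin 3 → F := Pi.single 2 1
  have hdot : ∀ x : F, e2 ⬝ᵥ (x • e0) = 0 := fun x => by simp [e2, e0]
  let ρ : Multiplicative F →* sl3 F :=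
    { toFun := fun x => ⟨tv (Multiplicative.toAdd x • e0) e2 (hdot _), tv_mem_specialLinear _ _ _⟩
      map_one' := Subtype.ext (Units.ext (by simp [tv_val]))
      map_mul' := fun x y => Subtype.ext (Units.ext (by
        simp only [Subgroup.coe_mul, Units.val_mul, tv_val, toAdd_mul, add_smul, Matrix.add_vecMulVec, mul_add,
          add_mul, one_mul, mul_one, Matrix.vecMulVec_mul_vecMulVec, hdot]
        simp [add_assoc])) }
  obtain ⟨R, hR⟩ := ((IsPGroup.of_card (p := p) (n := f) (G := Multiplicative F) (by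
    rw [Nat.card_congr Multiplicative.toAdd, Nat.card_eq_fintype_card, hq])).of_surjective ρ.rangeRestrict
      ρ.rangeRestrict_surjective).exists_le_sylow
  obtain ⟨g, hg⟩ := MulAction.exists_smul_eq (sl3 F) R Q
  refine ⟨((g : GL (Fin 3) F) : Matrix (Fin 3) (Fin 3) F) *ᵥ e0,
    e2 ᵥ* (((g : GL (Fin 3) F)⁻¹ : GL (Fin 3) F) : Matrix (Fin 3) (Fin 3) F), mulVec_ne_zero _ e0_ne_zero,
    vecMul_inv_ne_zero _ (fun h => by simpa [e2] using congrFun h 2), fun x => ?_⟩
  have hmem : g * ρ (Multiplicative.ofAdd x) * g⁻¹ ∈ P' := by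
    rw [← hQP, ← hg, Sylow.coe_subgroup_smul]
    exact Subgroup.smul_mem_pointwise_smul _ (MulAut.conj g) _ (hR ⟨_, rfl⟩)
  obtain ⟨m, -, hm⟩ := Subgroup.mem_map.1 hmem
  rw [← Matrix.mulVec_smul]
  have hd : (e2 ᵥ* (((g : GL (Fin 3) F)⁻¹ : GL (Fin 3) F) : Matrix (Fin 3) (Fin 3) F)) ⬝ᵥ
      (((g : GL (Fin 3) F) : Matrix (Fin 3) (Fin 3) F) *ᵥ (x • e0)) = 0 := by
    rw [dot_vecMul_inv, hdot]
  refine ⟨hd, ?_⟩
  convert m.2 using 1
  have h2 := congrArg (fun z : sl3 F => (z : GL (Fin 3) F)) hm
  simp only [Subgroup.coe_inclusion, Subgroup.coe_mul, Subgroup.coe_inv] at h2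
  rw [h2]
  refine Units.ext ?_
  simp only [Units.val_mul, ρ, MonoidHom.coe_mk, OneHom.coe_mk, tv_val, toAdd_ofAdd, mul_add, add_mul, mul_one,
    Matrix.mul_vecMulVec, Matrix.vecMulVec_mul]
  rw [← Units.val_mul, mul_inv_cancel, Units.val_one]

/-- The exceptional group of order `31 · 96` over the field of five elements. -/
theorem false_five (hq : Fintype.card F = 5) {M : Subgroup (GL (Fin 3) F)} (hMS : M ≤ sl3 F)
    (hM : Nat.card M = 31 * 96) (hidx : (pointStab M).index = 31) : False := by
  classical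
  haveI : Fact (Nat.Prime 31) := ⟨by norm_num⟩
  haveI : Finite M := Finite.of_injective _ (Units.val_injective.comp Subtype.val_injective)
  haveI : Fintype (M ⧸ pointStab M) := Fintype.ofFinite _
  have hΩ : Fintype.card (M ⧸ pointStab M) = 31 := by
    rw [← Nat.card_eq_fintype_card]; exact hidx
  have hbij : Function.Bijective (toPoint M) := by
    refine (Nat.bijective_iff_injective_and_card _).2 ⟨toPoint_injective M, ?_⟩
    rw [card_points, hq]; exact hidx
  let φ : M →* Equiv.Perm (M ⧸ pointStab M) := MulAction.toPermHom M _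
  have hφ : Function.Injective φ := by
    rw [injective_iff_map_eq_one]
    intro z hz
    have heig : ∀ u : Fin 3 → F, u ≠ 0 → ∃ s : F, ((z : GL (Fin 3) F) : Matrix (Fin 3) (Fin 3) F) *ᵥ u = s • u := by
      intro u hu
      obtain ⟨x, hx⟩ := hbij.2 (Projectivization.mk F u hu)
      obtain ⟨m, rfl⟩ := QuotientGroup.mk_surjective x
      obtain ⟨r, hr⟩ := (Projectivization.mk_eq_mk_iff' F _ _ _ _).1 hx
      have h1 : ((z * m : M) : M ⧸ pointStab M) = (m : M ⧸ pointStab M) := by
        have := congrArg (fun e : Equiv.Perm (M ⧸ pointStab M) => e (m : M ⧸ pointStab M)) hz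
        simpa [φ] using this
      obtain ⟨s, hs⟩ := (Projectivization.mk_eq_mk_iff' F _ _ _ _).1 (congrArg (toPoint M) h1)
      have hr0 : r ≠ 0 := fun e => mulVec_ne_zero (m : GL (Fin 3) F) e0_ne_zero (by rw [← hr, e, zero_smul])
      refine ⟨s, ?_⟩
      rw [Subgroup.coe_mul, Units.val_mul, ← Matrix.mulVec_mulVec, ← hr, Matrix.mulVec_smul, smul_comm] at hs
      exact (smul_right_injective _ hr0 hs).symm
    set A := ((z : GL (Fin 3) F) : Matrix (Fin 3) (Fin 3) F) with hA
    have hij : ∀ i j, i ≠ j → A i j = 0 ∧ A i i = A j j := by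
      intro i j hne
      obtain ⟨a, ha⟩ := heig (Pi.single i 1) (fun h => by simpa using congrFun h i)
      obtain ⟨b, hb⟩ := heig (Pi.single j 1) (fun h => by simpa using congrFun h j)
      obtain ⟨c, hc⟩ := heig (Pi.single i 1 + Pi.single j 1) (fun h => by simpa [hne] using congrFun h i)
      have hai := congrFun ha i
      have haj := congrFun ha j
      have hbi := congrFun hb i
      have hbj := congrFun hb j
      have hci := congrFun hc i
      have hcj := congrFun hc j
      simp [Matrix.mulVec_add, hne, hne.symm] at hai haj hbi hbj hci hcj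
      rw [hbi, add_zero] at hci
      rw [haj, zero_add] at hcj
      exact ⟨hbi, hci.trans hcj.symm⟩
    have hAs : A = A 0 0 • (1 : Matrix (Fin 3) (Fin 3) F) := by
      ext i j
      by_cases hne : i = j
      · subst hne
        rcases eq_or_ne i 0 with rfl | h0
        · simp
        · simp [(hij i 0 h0).2]
      · simp [hne, (hij i j hne).1]
    have h3 : (A 0 0) ^ 3 = 1 := by
      have hd : A.det = 1 := (mem_specialLinear_iff _).1 (hMS z.2)
      rw [hAs, Matrix.det_smul, Fintype.card_fin, Matrix.det_one, mul_one] at hd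
      exact hd
    have h0 : A 0 0 ≠ 0 := fun e => by rw [e] at h3; norm_num at h3
    have h4 : (A 0 0) ^ 4 = 1 := by
      have := FiniteField.pow_card_sub_one_eq_one (A 0 0) h0
      rwa [hq] at this
    have h1 : A 0 0 = 1 := by rw [← h4, pow_succ, h3, one_mul]
    exact Subtype.ext (Units.ext (by rw [← hA, hAs, h1, one_smul]; rfl))
  set G := φ.range with hG
  haveI : MulAction.IsPretransitive G (M ⧸ pointStab M) := ⟨fun x y => by
    obtain ⟨m, hm⟩ := MulAction.exists_smul_eq M x y
    exact ⟨⟨φ m, m, rfl⟩, hm⟩⟩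
  have hGcard : Nat.card G = 31 * 96 := by
    rw [hG, ← Nat.card_congr (MonoidHom.ofInjective hφ).toEquiv, hM]
  by_cases hsol : Group.IsSolvable G
  · obtain ⟨e, he, hed⟩ := PrimeHalf.card_of_isSolvable hΩ hsol
    rw [hGcard] at he
    have : e = 96 := (Nat.eq_of_mul_eq_mul_left (by norm_num) he).symm
    subst this
    norm_num at hed
  · have h2 := Perm.two_transitive hΩ hsol
    obtain ⟨a⟩ : Nonempty (M ⧸ pointStab M) := ⟨(1 : M)⟩
    obtain ⟨b, hb⟩ := Fintype.exists_ne_of_one_lt_card (by rw [hΩ]; norm_num) a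
    have h := PrimeHalf.card_eq_mul_pairStab h2 hb
    rw [hGcard, hΩ] at h
    omega

/-- An overgroup of index `(q - 1)² (q + 1) / 3` does not exist. -/
theorem false_middle {M : Subgroup (GL (Fin 3) F)} (hMS : M ≤ sl3 F) (hq : 5 ≤ Fintype.card F)
    (h6 : Fintype.card F ≠ 6) {p f : ℕ} (hp : p.Prime) (hpf : Fintype.card F = p ^ f)
    (hM : Nat.card M = (Fintype.card F * Fintype.card F + Fintype.card F + 1) * SingerArith.bb (Fintype.card F)) :
    False := by
  classical
  haveI : Finite M := Finite.of_injective _ (Units.val_injective.comp Subtype.val_injective)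
  set q := Fintype.card F with hqdef
  set v := q * q + q + 1
  have hqF : (q : F) = 0 := Nat.cast_card_eq_zero F
  have hB := cast_bb (F := F) (q := q) (by omega) hqF
  have hMF : (Nat.card M : F) ≠ 0 := by
    rw [hM, Nat.cast_mul, hB]
    simp only [v, Nat.cast_add, Nat.cast_mul, hqF, Nat.cast_one, zero_mul, zero_add, one_mul, mul_one]
    exact one_ne_zero
  have hidx : (pointStab M).index ≤ v := by
    have := Nat.card_le_card_of_injective _ (toPoint_injective M)
    rwa [card_points] at this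
  set n := Nat.card (pointStab M)
  have hinj := blockHom_injective hMS hMF
  have hnX : Nat.card (blockHom M).toHomUnits.range = n :=
    (Nat.card_congr (MonoidHom.ofInjective hinj).toEquiv).symm
  have hnGL : n ∣ q * SingerArith.bb q := by
    have h1 := Subgroup.card_dvd_of_injective _ hinj
    rw [Classical.card_GL_two, Nat.card_eq_fintype_card (α := F), ← hqdef] at h1
    refine h1.trans (dvd_of_eq ?_)
    rw [SingerArith.bb, show q ^ 2 - 1 = (q - 1) * (q + 1) by
      rw [mul_comm, ← Nat.sq_sub_sq, one_pow]]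
    ring
  have hnp : ¬ p ∣ n := by
    rintro ⟨r, hr⟩
    refine hMF ?_
    rw [← (pointStab M).card_mul_index]
    have hp0 : (p : F) = 0 := by
      have hf : f ≠ 0 := by rintro rfl; simp at hpf; omega
      have := hqF
      rw [hpf, Nat.cast_pow] at this
      exact (pow_eq_zero_iff hf).1 this
    show ((n * (pointStab M).index : ℕ) : F) = 0
    rw [hr, Nat.cast_mul, Nat.cast_mul, hp0, zero_mul, zero_mul]
  have hnB : n ∣ SingerArith.bb q := by
    refine Nat.Coprime.dvd_of_dvd_mul_left ?_ hnGL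
    rw [hpf]
    exact ((hp.coprime_iff_not_dvd.2 hnp).symm).pow_right f
  have hBpos : 0 < SingerArith.bb q := by rw [SingerArith.bb_eq (by omega)]; omega
  have hn_le := Nat.le_of_dvd hBpos hnB
  have hmul : n * (pointStab M).index = v * SingerArith.bb q := by rw [← hM]; exact (pointStab M).card_mul_index
  have hn : n = SingerArith.bb q := by
    refine le_antisymm hn_le (Nat.le_of_mul_le_mul_left ?_ (show 0 < v by omega))
    rw [← hmul, mul_comm v n]
    exact Nat.mul_le_mul_left n hidx
  rw [hn, mul_comm v] at hmul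
  have hidxeq : (pointStab M).index = v := Nat.eq_of_mul_eq_mul_left hBpos hmul
  by_cases h7 : 7 ≤ q
  · refine SingerTorus.false_of_card h7 ?_ (by rw [hnX, hn]; rfl)
    rw [hnX, hn, hB]
    exact one_ne_zero
  · have h5 : q = 5 := by omega
    refine false_five h5 hMS ?_ ?_
    · rw [hM]; simp only [v, h5, SingerArith.bb]; norm_num
    · rw [hidxeq]; simp only [v, h5]

/-- An overgroup of the field normaliser is irreducible. -/
theorem irr {K : Subalgebra F (Matrix (Fin 3) (Fin 3) F)} (hK : Cfsg.Geo.IsFieldSubalgebra 3 K)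
    {M : Subgroup (GL (Fin 3) F)} (hle : SingerGroup.hGroup K ≤ M) : Irr M := by
  classical
  obtain ⟨-, c, hc, hord⟩ := SingerGroup.exists_generator hK
  obtain ⟨hcK, hcS⟩ := (SingerGroup.mem_cGroup hK).1 hc
  intro W hW
  let L : Subalgebra F K :=
    { carrier := {x | ∀ w ∈ W, (x : Matrix (Fin 3) (Fin 3) F) *ᵥ w ∈ W}
      mul_mem' := fun {a b} ha hb w hw => by
        rw [MulMemClass.coe_mul, ← Matrix.mulVec_mulVec]; exact ha _ (hb _ hw)
      add_mem' := fun {a b} ha hb w hw => by
        rw [AddMemClass.coe_add, Matrix.add_mulVec]; exact add_mem (ha _ hw) (hb _ hw)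
      algebraMap_mem' := fun a w hw => by
        rw [Subalgebra.coe_algebraMap, Algebra.algebraMap_eq_smul_one, Matrix.smul_mulVec, Matrix.one_mulVec]
        exact W.smul_mem a hw }
  letI : Field K := fieldOfSub K hK one_ne_zero
  haveI := Subalgebra.isSimpleOrder_of_finrank_prime F K (by rw [hK.finrank_eq]; exact Nat.prime_three)
  have htop : L = ⊤ := (eq_bot_or_eq_top L).resolve_left fun e => by
    have hcL : (⟨(c : Matrix (Fin 3) (Fin 3) F), hcK⟩ : K) ∈ L := fun w hw =>
      hW _ ⟨c, hle (SingerGroup.cGroup_le hK hc), rfl⟩ ⟨w, hw, Matrix.toLin'_apply _ _⟩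
    rw [e, Algebra.mem_bot] at hcL
    obtain ⟨a, ha⟩ := hcL
    have h3 := SingerGroup.eq_scalar_pow hcS (a := a)
      (by rw [← Algebra.algebraMap_eq_smul_one]; exact (congrArg Subtype.val ha).symm)
    have := Nat.le_of_dvd (by norm_num) (orderOf_dvd_of_pow_eq_one h3)
    have : 2 ≤ Fintype.card F := Fintype.one_lt_card
    rw [hord] at *
    nlinarith
  refine or_iff_not_imp_left.2 fun hne => Submodule.eq_top_iff'.2 fun x => ?_
  obtain ⟨w, hw, hw0⟩ := W.exists_mem_ne_zero_of_ne_bot hne
  obtain ⟨a, ha⟩ := (SingerGroup.evalEquiv hK).surjective w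
  obtain ⟨b, hb⟩ := (SingerGroup.evalEquiv hK).surjective x
  have ha0 : a ≠ 0 := fun e => hw0 (by rw [← ha, e, map_zero])
  have hmem : (b * a⁻¹ : K) ∈ L := htop ▸ Algebra.mem_top
  have := hmem w hw
  rwa [← ha, SingerGroup.mulVec_evalEquiv, inv_mul_cancel_right₀ ha0, hb] at this

/-- S5774, row 3, from the root group criterion. -/
theorem linSingerRow_of_fullRoot (hfr : FullRootStmt F) : LinSingerRow F := by
  classical
  intro h4 K hK
  set q := Fintype.card F with hqdef
  obtain ⟨p, _⟩ := CharP.exists F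
  obtain ⟨f, hp, hpf⟩ := FiniteField.card F p
  rw [← hqdef] at hpf
  have hq2 : 2 ≤ q := Fintype.one_lt_card
  set v := q * q + q + 1 with hv
  obtain ⟨d, w, hd⟩ : ∃ d w, SingerArith.Data q d w := by
    by_cases h3 : q % 3 = 1
    · obtain ⟨k, hk⟩ : ∃ k, q = 3 * k + 1 := ⟨q / 3, by omega⟩
      refine ⟨3, 3 * (k * k) + 3 * k + 1, hq2, h4, by rw [hk]; ring, Or.inr ⟨rfl, h3⟩, ?_⟩
      exact Nat.prime_three.coprime_iff_not_dvd.2 (by omega)
    · refine ⟨1, v, hq2, h4, one_mul _, Or.inl rfl, Nat.prime_three.coprime_iff_not_dvd.2 ?_⟩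
      obtain ⟨k, hk | hk⟩ : ∃ k, q = 3 * k ∨ q = 3 * k + 2 := ⟨q / 3, by omega⟩
      · rw [hv, hk, show 3 * k * (3 * k) = 3 * (3 * (k * k)) by ring]; omega
      · rw [hv, hk, show (3 * k + 2) * (3 * k + 2) = 3 * (3 * (k * k) + 4 * k + 1) + 1 by ring]; omega
  have hqF : (q : F) = 0 := Nat.cast_card_eq_zero F
  have hpn : ¬ p ∣ v * SingerArith.bb q := by
    intro h
    have h0 : ((v * SingerArith.bb q : ℕ) : F) = 0 := (CharP.cast_eq_zero_iff F p _).2 h
    rw [Nat.cast_mul, cast_bb (by omega) hqF, mul_one, hv] at h0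
    push_cast at h0
    rw [hqF] at h0
    simp at h0
  have hS : Nat.card (sl3 F) = q ^ 3 * (v * SingerArith.bb q) := card_sl3
  have hH := SingerGroup.card_hGroup hK
  rw [← hqdef, ← hv] at hH
  have hBpos : 3 ≤ SingerArith.bb q := by rw [SingerArith.bb_eq hq2]; omega
  have hvpos : 0 < v := by omega
  refine ⟨lt_of_le_of_ne inf_le_right fun e => ?_, fun M hle hMS => ?_⟩
  · have h1 : Nat.card (SingerGroup.hGroup K) = Nat.card (sl3 F) := by
      rw [show SingerGroup.hGroup K = sl3 F from e]
    rw [hH, hS] at h1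
    have h8 : 2 ^ 3 ≤ q ^ 3 := Nat.pow_le_pow_left hq2 3
    nlinarith [Nat.mul_le_mul h8 hBpos]
  change SingerGroup.hGroup K ≤ M at hle
  set D := ((SingerGroup.hGroup K).subgroupOf M).index with hD
  set t := (M.subgroupOf (sl3 F)).index with ht
  have hMc : Nat.card M = 3 * v * D := by
    rw [← ((SingerGroup.hGroup K).subgroupOf M).card_mul_index,
      Nat.card_congr (Subgroup.subgroupOfEquivOfLe hle).toEquiv, hH]
  have hSc : Nat.card (sl3 F) = Nat.card M * t := by
    rw [← (M.subgroupOf (sl3 F)).card_mul_index, Nat.card_congr (Subgroup.subgroupOfEquivOfLe hMS).toEquiv]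
  have hT : 3 * D * t = q ^ 3 * SingerArith.bb q := by
    refine Nat.eq_of_mul_eq_mul_left hvpos ?_
    rw [hS, hMc] at hSc
    linarith [hSc]
  have hcast : ((D : ℕ) : ZMod w) = 1 := SingerGroup.index_cast hK hd.mul_eq hd.coprime hle hMS
  rcases SingerArith.four_cases hd hp hpf hT hcast with h1 | h1 | h1 | h1
  · exact Or.inl (le_antisymm (fun g hg => Subgroup.mem_subgroupOf.1
      (show (⟨g, hg⟩ : M) ∈ (SingerGroup.hGroup K).subgroupOf M by rw [Subgroup.index_eq_one.1 h1]; trivial)) hle)
  · by_cases h5 : 5 ≤ q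
    · exfalso
      refine false_middle hMS h5 ?_ hp hpf ?_
      · intro h6
        rw [SingerArith.bb, show q = 6 from h6] at h1
        norm_num at h1
        omega
      · rw [hMc, ← hqdef, ← hv, ← h1]; ring
    · have hq' : q = 2 ∨ q = 3 := by omega
      rcases hq' with hq' | hq' <;> rw [SingerArith.bb, hq'] at h1 <;> norm_num at h1
      · exact Or.inl (le_antisymm (fun g hg => Subgroup.mem_subgroupOf.1
          (show (⟨g, hg⟩ : M) ∈ (SingerGroup.hGroup K).subgroupOf M by
            rw [Subgroup.index_eq_one.1 h1]; trivial)) hle)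
      · omega
  · refine Or.inr (le_antisymm hMS ?_)
    obtain ⟨c, φ, hcφ⟩ := exists_fullRoot hp hpf hpn hMS (by rw [← hqdef, hMc, h1]; exact dvd_mul_left _ _)
    exact hfr M (irr hK hle) c φ hcφ
  · refine Or.inr (le_antisymm hMS ?_)
    rw [Subgroup.eq_of_le_of_card_ge hMS ?_]
    rw [hS, hMc, show q ^ 3 * (v * SingerArith.bb q) = v * (q ^ 3 * SingerArith.bb q) by ring, ← h1]
    exact le_of_eq (by ring)

/-- S5774, row 3. -/
theorem linSingerRow : LinSingerRow F := linSingerRow_of_fullRoot fullRootStmt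

/-- S5774, row 3, from the shared statements. -/
theorem linSingerRow_of_tools (h : LinTools F) : LinSingerRow F := linSingerRow_of_fullRoot h.full_root

end CfsgLib.Dim3Max.LinSinger
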