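import Cfsg.Agent.Lib.Dim3Max.Calc

/-!
Full isotropic points in dimension three: a triangle of them generates the special unitary group, since the
secants through an outside point would be too few.  Consequences: E2, E2p and the two point stabiliser rows.
-/

set_option autoImplicit false
set_option linter.unusedSectionVars false

namespace CfsgLib.Dim3Max

open scoped Matrix MatrixGroups
open CfsgLib.Maximal

universe u

variable {F : Type u} [Field F] [Fintype F] {q : ℕ} {τ : F ≃+* F} (H : USetup (F := F) q τ)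
include H

local notation "hh" => hf3 F q
local notation "VV" => (Fin 3 → F)

theorem USetup.hh_sub (a b v : VV) : hh (a - b) v = hh a v - hh b v := by
  rw [sub_eq_add_neg, H.form.add_left, ← neg_one_smul F b, H.form.smul_left]; ring

theorem USetup.flip {a b : VV} (h : hh a b = 0) : hh b a = 0 := by rw [H.form.herm, h, map_zero]

theorem USetup.flip_ne {a b : VV} (h : hh a b ≠ 0) : hh b a ≠ 0 := fun e => h (H.flip e)

theorem USetup.zero_left (v : VV) : hh 0 v = 0 := un_zero_left H.form v

omit H in
/-- The skew elements. -/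
def USetup.skew (_H : USetup (F := F) q τ) : Set F := {k | τ k = -k}

theorem USetup.skew_card : q ≤ (H.skew).ncard := by
  classical
  let g : F →+ F :=
    { toFun := fun z => z - τ z, map_zero' := by simp, map_add' := fun a b => by rw [map_add]; ring }
  have hsub : (g.range : Set F) ⊆ H.skew := by
    rintro _ ⟨z, rfl⟩
    show τ (z - τ z) = -(z - τ z)
    rw [map_sub, H.form.involutive]; ring
  refine le_trans ?_ (Set.ncard_le_ncard hsub (Set.toFinite _))
  have h1 := g.ker.index_mul_card
  have hker : Nat.card g.ker ≤ q := by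
    rw [← SetLike.coe_sort_coe, Nat.card_coe_set_eq]
    have hq := H.three_le
    have hne : (Polynomial.X ^ q - Polynomial.X : Polynomial F) ≠ 0 :=
      FiniteField.X_pow_card_sub_X_ne_zero F (by omega)
    refine le_trans (Set.ncard_le_ncard (t := ↑(Polynomial.X ^ q - Polynomial.X : Polynomial F).roots.toFinset)
      (fun z hz => ?_) (Set.toFinite _)) ?_
    · have hz' : z - τ z = 0 := hz
      rw [Finset.mem_coe, Multiset.mem_toFinset, Polynomial.mem_roots hne, Polynomial.IsRoot.def,
        Polynomial.eval_sub, Polynomial.eval_pow, Polynomial.eval_X, ← H.pow, sub_eq_zero]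
      exact (sub_eq_zero.1 hz').symm
    · rw [Set.ncard_coe_finset]
      refine (Multiset.toFinset_card_le _).trans ((Polynomial.card_roots' _).trans ?_)
      rw [FiniteField.X_pow_card_sub_X_natDegree_eq F (by omega)]
  have h2 : g.ker.index = (g.range : Set F).ncard := by
    rw [← Nat.card_coe_set_eq]
    exact AddSubgroup.index_ker g
  rw [h2, Nat.card_eq_fintype_card (α := F), H.card, pow_two] at h1
  by_contra hlt
  have := Nat.mul_le_mul_left (g.range : Set F).ncard hker
  rw [h1] at this
  have h3 : 0 < q := by have := H.three_le; omega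
  exact absurd (Nat.le_of_mul_le_mul_right this h3) hlt

/-- The perpendicular of two points. -/
theorem USetup.exists_perp (a b : VV) : ∃ c, hh c a = 0 ∧ hh c b = 0 ∧ c ≠ 0 := by
  have hne : Submodule.span F (Set.range ![a, b]) ≠ ⊤ := by
    intro htop
    have hle := finrank_range_le_card (R := F) ![a, b]
    rw [Set.finrank, htop, finrank_top] at hle
    simp at hle
  obtain ⟨x, -, hx⟩ := SetLike.exists_of_lt hne.lt_top
  obtain ⟨y, hy, hyx⟩ := un_eval₀ H.form ![a, b] hx
  exact ⟨y, hy 0, hy 1, fun h => by rw [h, H.zero_left] at hyx; exact zero_ne_one hyx⟩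

/-- The perpendicular of a secant is anisotropic and the three points span. -/
theorem USetup.frame {u v c : VV} (huu : hh u u = 0) (hvv : hh v v = 0) (huv : hh u v ≠ 0) (hcu : hh c u = 0)
    (hcv : hh c v = 0) (hc : c ≠ 0) :
    hh c c ≠ 0 ∧ ∀ x : VV, x = (hh x v / hh u v) • u + (hh x u / hh v u) • v + (hh x c / hh c c) • c := by
  have key : ∀ g : Fin 3 → F, g 0 • u + g 1 • v + g 2 • c = 0 → g 0 = 0 ∧ g 1 = 0 := by
    intro g hg
    constructor
    · have := congrArg (hh · v) hg
      simp only [H.form.add_left, H.form.smul_left, hvv, hcv, H.zero_left, mul_zero, add_zero] at this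
      exact (mul_eq_zero.1 this).resolve_right huv
    · have := congrArg (hh · u) hg
      simp only [H.form.add_left, H.form.smul_left, huu, hcu, H.zero_left, mul_zero, add_zero, zero_add] at this
      exact (mul_eq_zero.1 this).resolve_right (H.flip_ne huv)
  have hind : LinearIndependent F ![u, v, c] := by
    rw [Fintype.linearIndependent_iff]
    intro g hg
    simp only [Fin.sum_univ_three, Matrix.cons_val_zero, Matrix.cons_val_one, Matrix.cons_val] at hg
    obtain ⟨e0, e1⟩ := key g hg
    rw [e0, e1, zero_smul, zero_smul, zero_add, zero_add, smul_eq_zero] at hg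
    intro i
    fin_cases i
    · exact e0
    · exact e1
    · exact hg.resolve_right hc
  have hspan : ∀ x, ∃ a b d : F, x = a • u + b • v + d • c := fun x => by
    have hx : x ∈ Submodule.span F (Set.range ![u, v, c]) := by
      rw [hind.span_eq_top_of_card_eq_finrank (by simp)]; exact Submodule.mem_top
    obtain ⟨g, hg⟩ := (Submodule.mem_span_range_iff_exists_fun F).1 hx
    simp only [Fin.sum_univ_three, Matrix.cons_val_zero, Matrix.cons_val_one, Matrix.cons_val] at hg
    exact ⟨g 0, g 1, g 2, hg.symm⟩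
  have hcc : hh c c ≠ 0 := by
    intro h0
    obtain ⟨x, hx⟩ := un_exists H.form c hc
    obtain ⟨a, b, d, rfl⟩ := hspan x
    rw [un_add_right H.form, un_add_right H.form, un_smul_right H.form, un_smul_right H.form,
      un_smul_right H.form, hcu, hcv, h0] at hx
    simp at hx
  refine ⟨hcc, fun x => ?_⟩
  obtain ⟨a, b, d, rfl⟩ := hspan x
  simp only [H.form.add_left, H.form.smul_left, huu, hvv, hcu, hcv, H.flip hcu, H.flip hcv, mul_zero, add_zero,
    zero_add, mul_div_cancel_right₀ _ huv, mul_div_cancel_right₀ _ (H.flip_ne huv),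
    mul_div_cancel_right₀ _ hcc]

/-- Isotropic points are pairwise non-orthogonal. -/
theorem USetup.orth_iso {u v : VV} (huu : hh u u = 0) (hvv : hh v v = 0) (hu : u ≠ 0) (h : hh v u = 0) :
    ∃ a : F, v = a • u := by
  obtain ⟨e, he⟩ := un_exists H.form u hu
  have heu : hh e u = 1 := by rw [H.form.herm, he, map_one]
  obtain ⟨θ, hθ⟩ := CfsgLib.Geometry.exists_trace_one (σ := (τ : F →+* F))
    (fun h => H.form.ne_refl (RingEquiv.ext fun a => RingHom.congr_fun h a)) (fun a => H.form.involutive a)
  change θ + τ θ = 1 at hθ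
  set f := e + (-(θ * hh e e)) • u with hf
  have hfu : hh f u = 1 := by rw [hf, H.form.add_left, H.form.smul_left, heu, huu, mul_zero, add_zero]
  have hff : hh f f = 0 := by
    simp only [hf, H.form.add_left, un_add_right H.form, H.form.smul_left, un_smul_right H.form, huu, heu, he,
      map_neg, map_mul]
    rw [show τ (hh e e) = hh e e from (H.form.herm e e).symm]
    linear_combination (-hh e e) * hθ
  have huf : hh u f ≠ 0 := H.flip_ne (by rw [hfu]; exact one_ne_zero)
  obtain ⟨c, hcu, hcf, hc⟩ := H.exists_perp u f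
  obtain ⟨hcc, hco⟩ := H.frame huu hff huf hcu hcf hc
  refine ⟨hh v f / hh u f, ?_⟩
  have e1 := hco v
  rw [h, zero_div, zero_smul, add_zero] at e1
  suffices hd : hh v c / hh c c = 0 by rwa [hd, zero_smul, add_zero] at e1
  set A := hh v f / hh u f
  set D := hh v c / hh c c
  rw [e1] at hvv
  simp only [H.form.add_left, un_add_right H.form, H.form.smul_left, un_smul_right H.form, huu, hcu,
    H.flip hcu, mul_zero, add_zero, zero_add, mul_eq_zero, hcc, or_false] at hvv
  rcases hvv with h' | h'
  · exact h'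
  · exact τ.injective (h'.trans (map_zero τ).symm)

variable {M : Subgroup (GL (Fin 3) F)}

/-- The special unitary group is generated by the full points. -/
theorem USetup.su3_le (h : ∀ v : VV, hh v v = 0 → UFull τ q M v) : su3 F q ≤ M := by
  have hF : Nat.card F = q ^ 2 := by rw [Nat.card_eq_fintype_card, H.card]
  obtain ⟨s, hs⟩ := CfsgLib.Classical.Unitary.exists_uFrob (F := F) (q := q) hF
  have hsτ : ∀ x, s x = τ x := fun x => by rw [hs.pow, H.pow]
  let φ : ↥(Cfsg.SU 3 F q) →* GL (Fin 3) F :=
    Matrix.SpecialLinearGroup.toGL.comp (Cfsg.SU 3 F q).subtype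
  intro g hg
  obtain ⟨hg1, hg2⟩ := Subgroup.mem_inf.1 hg
  rw [mem_specialLinear_iff] at hg2
  let A : ↥(Cfsg.SU 3 F q) :=
    ⟨⟨(g : Matrix (Fin 3) (Fin 3) F), hg2⟩, fun u v => (mem_GU_iff g).1 hg1 u v⟩
  have hA : A ∈ CfsgLib.Classical.Unitary.transvGroup 3 F q := by
    rw [CfsgLib.Classical.Unitary.transvGroup_eq_top hF hs 3 (by norm_num) (fun _ => H.three_le)]
    exact Subgroup.mem_top A
  have hle : CfsgLib.Classical.Unitary.transvGroup 3 F q ≤ M.comap φ :=
    CfsgLib.Classical.Unitary.mem_of_eq_utv hs fun v c hv hc => by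
      have hv' : hh v v = 0 := (hs.hermForm_eq ..).trans hv
      obtain ⟨h1, h2⟩ := h v hv' c (by rw [← hsτ]; exact eq_neg_of_add_eq_zero_right hc)
      show φ _ ∈ M
      convert h2 using 1
      refine Units.ext (CfsgLib.Geometry.matrix_eq_of_mulVec fun x => ?_)
      rw [tv_mulVec, un_dot H.form, smul_smul]
      show (CfsgLib.Classical.Unitary.utv hs v c hv hc).1.1 *ᵥ x = _
      rw [CfsgLib.Classical.Unitary.utv_mulVec, show hf3 F q x v = _ from hs.hermForm_eq .., mul_comm]
  have := hle hA
  suffices heq : g = φ A by rw [heq]; exact this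
  exact Units.ext (rfl : (g : Matrix (Fin 3) (Fin 3) F) = (φ A : Matrix (Fin 3) (Fin 3) F))

/-- A triangle of full points gives everything. -/
theorem USetup.su3_le_of_triangle (hMS : M ≤ su3 F q) {u v w : VV} (huu : hh u u = 0) (hvv : hh v v = 0)
    (hww : hh w w = 0) (huv : hh u v ≠ 0) (hu : UFull τ q M u) (hv : UFull τ q M v) (hw : UFull τ q M w)
    (hout : ∀ c, hh c u = 0 → hh c v = 0 → c ≠ 0 → hh w c ≠ 0) : su3 F q ≤ M := by
  classical
  refine H.su3_le fun x hxx => ?_
  rcases eq_or_ne x 0 with rfl | hx0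
  · intro k _; exact has_of_zero (Or.inl (smul_zero k))
  by_contra hx
  obtain ⟨c, hcu, hcv, hc⟩ := H.exists_perp u v
  obtain ⟨hcc, hco⟩ := H.frame huu hvv huv hcu hcv hc
  have hwc := hout c hcu hcv hc
  have hvu := H.flip_ne huv
  let K := H.skew
  -- the points of the secant
  let P : Option K → VV := fun o => o.elim u fun k => v + ((k : F) * hh v u) • u
  have hP : ∀ o, hh (P o) (P o) = 0 ∧ UFull τ q M (P o) ∧ hh (P o) c = 0 ∧ P o ≠ 0 := by
    rintro (_ | ⟨k, hk⟩)
    · exact ⟨huu, hu, H.flip hcu, fun e => huv (by rw [show u = 0 from e, H.zero_left])⟩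
    · have hk' : τ k = -k := hk
      have h0 : hh (v + (k * hh v u) • u) (v + (k * hh v u) • u) = 0 := by
        simp only [H.form.add_left, un_add_right H.form, H.form.smul_left, un_smul_right H.form, huu, hvv,
          map_mul, hk', ← H.form.herm u v]
        ring
      refine ⟨h0, UFull.move H.form hMS hv hu hvv huu hvu h0, ?_, fun e => hvu ?_⟩
      · show hh (v + (k * hh v u) • u) c = 0
        rw [H.form.add_left, H.form.smul_left, H.flip hcv, H.flip hcu]; ring
      · have := congrArg (hh · u) (show v + (k * hh v u) • u = 0 from e)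
        simpa [H.form.add_left, H.form.smul_left, huu, H.zero_left] using this
  have hPw : ∀ o, hh w (P o) ≠ 0 := fun o h0 => by
    obtain ⟨a, ha⟩ := H.orth_iso (hP o).1 hww (hP o).2.2.2 h0
    exact hwc (by rw [ha, H.form.smul_left, (hP o).2.2.1, mul_zero])
  have hPinj : ∀ o o' : Option K, ∀ a : F, P o' = a • P o → o' = o := by
    intro o o' a e
    have ev := congrArg (hh · v) e
    have eu := congrArg (hh · u) e
    rcases o with _ | ⟨k, hk⟩ <;> rcases o' with _ | ⟨k', hk'⟩
    · rfl
    · exfalso
      simp only [P, Option.elim, H.form.add_left, H.form.smul_left, huu, mul_zero, add_zero] at eu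
      exact hvu eu
    · exfalso
      simp only [P, Option.elim, H.form.add_left, H.form.smul_left, huu, mul_zero, add_zero] at eu
      have ha := (mul_eq_zero.1 eu.symm).resolve_right hvu
      simp only [P, Option.elim, ha, zero_smul] at e
      exact huv (by rw [e, H.zero_left])
    · simp only [P, Option.elim, H.form.add_left, H.form.smul_left, huu, hvv, mul_zero, zero_add, add_zero] at eu ev
      have ha : a = 1 := (mul_right_cancel₀ hvu (by rw [one_mul]; exact eu)).symm
      rw [ha, one_mul] at ev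
      exact congrArg some (Subtype.ext (mul_right_cancel₀ hvu (mul_right_cancel₀ huv ev)))
  -- the points on the secants through `w`
  let X : Option K × K → VV := fun p =>
    if (p.2 : F) = 0 then P p.1 else w + ((p.2 : F) * hh w (P p.1)) • P p.1
  have hX : ∀ p, hh (X p) (X p) = 0 ∧ UFull τ q M (X p) := by
    rintro ⟨o, k, hk⟩
    show hh (ite _ _ _) (ite _ _ _) = 0 ∧ UFull τ q M (ite _ _ _)
    split_ifs with h
    · exact ⟨(hP o).1, (hP o).2.1⟩
    · have hk' : τ k = -k := hk
      have h0 : hh (w + (k * hh w (P o)) • P o) (w + (k * hh w (P o)) • P o) = 0 := by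
        simp only [H.form.add_left, un_add_right H.form, H.form.smul_left, un_smul_right H.form, (hP o).1, hww,
          map_mul, hk', ← H.form.herm (P o) w]
        ring
      exact ⟨h0, UFull.move H.form hMS hw (hP o).2.1 hww (hP o).1 (hPw o) h0⟩
  have hXinj : ∀ p p', ∀ a : F, X p' = a • X p → p' = p := by
    rintro ⟨o, ⟨k, hk⟩⟩ ⟨o', ⟨k', hk'⟩⟩ a e
    simp only [X] at e
    have ec := congrArg (hh · c) e
    split_ifs at e ec with h1 h2 h2
    · obtain rfl := hPinj o o' a e
      obtain rfl : k' = k := h1.trans h2.symm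
      rfl
    · exfalso
      simp only [H.form.smul_left, H.form.add_left, (hP o).2.2.1, (hP o').2.2.1, mul_zero, add_zero] at ec
      have ha := (mul_eq_zero.1 ec.symm).resolve_right hwc
      rw [ha, zero_smul] at e
      exact (hP o').2.2.2 e
    · exfalso
      simp only [H.form.smul_left, H.form.add_left, (hP o).2.2.1, (hP o').2.2.1, mul_zero, add_zero] at ec
      exact hwc ec
    · simp only [H.form.smul_left, H.form.add_left, (hP o).2.2.1, (hP o').2.2.1, mul_zero, add_zero] at ec
      have ha : a = 1 := (mul_right_cancel₀ hwc (by rw [one_mul]; exact ec)).symm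
      rw [ha, one_smul] at e
      have e2 := add_left_cancel e
      have hne : k' * hh w (P o') ≠ 0 := mul_ne_zero h1 (hPw o')
      obtain rfl := hPinj o o' ((k' * hh w (P o'))⁻¹ * (k * hh w (P o))) (by
        rw [← smul_smul, ← e2, smul_smul, inv_mul_cancel₀ hne, one_smul])
      have e3 : (k' * hh w (P o') - k * hh w (P o')) • P o' = 0 := by rw [sub_smul, e2, sub_self]
      have e4 := sub_eq_zero.1 ((smul_eq_zero.1 e3).resolve_right (hP o').2.2.2)
      obtain rfl : k' = k := mul_right_cancel₀ (hPw o') e4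
      rfl
  -- the secants through `x`
  obtain ⟨y, hy⟩ := un_exists H.form x hx0
  obtain ⟨d, hdx, hdy, hd⟩ := H.exists_perp x y
  have hXx : ∀ p, hh (X p) x ≠ 0 := fun p h0 => by
    obtain ⟨a, ha⟩ := H.orth_iso hxx (hX p).1 hx0 h0
    rcases eq_or_ne a 0 with rfl | ha0
    · obtain ⟨o, k⟩ := p
      have h1 : X (o, k) = 0 := by rw [ha, zero_smul]
      simp only [X] at h1
      split_ifs at h1 with h
      · exact (hP o).2.2.2 h1
      · have := congrArg (hh · c) h1
        simp [H.form.add_left, H.form.smul_left, (hP o).2.2.1, H.zero_left] at this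
        exact hwc this
    · have := (hX p).2.smul H.form a⁻¹
      rw [ha, inv_smul_smul₀ ha0] at this
      exact hx this
  have hΦ : Function.Injective fun p => hh (X p) d / hh (X p) x := by
    intro p p' e
    set s := X p
    set s' := X p'
    set z := hh s x • s' - hh s' x • s with hz
    have hzx : hh z x = 0 := by rw [hz, H.hh_sub, H.form.smul_left, H.form.smul_left]; ring
    have hzd : hh z d = 0 := by
      rw [hz, H.hh_sub, H.form.smul_left, H.form.smul_left]
      have := (div_eq_div_iff (hXx p) (hXx p')).1 e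
      linear_combination -this
    -- `z` is a multiple of `x`
    obtain ⟨t, ht⟩ : ∃ t : F, z = t • x := by
      have hyx : hh y x = 1 := by rw [H.form.herm, hy, map_one]
      obtain ⟨θ, hθ⟩ := CfsgLib.Geometry.exists_trace_one (σ := (τ : F →+* F))
        (fun h => H.form.ne_refl (RingEquiv.ext fun a => RingHom.congr_fun h a)) (fun a => H.form.involutive a)
      change θ + τ θ = 1 at hθ
      set f := y + (-(θ * hh y y)) • x with hf
      have hff : hh f f = 0 := by
        simp only [hf, H.form.add_left, un_add_right H.form, H.form.smul_left, un_smul_right H.form, hxx, hyx, hy,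
          map_neg, map_mul]
        rw [show τ (hh y y) = hh y y from (H.form.herm y y).symm]
        linear_combination (-hh y y) * hθ
      have hxf : hh x f ≠ 0 := by
        rw [hf, un_add_right H.form, un_smul_right H.form, hxx, hy]; simp
      have hdf : hh d f = 0 := by
        rw [hf, un_add_right H.form, un_smul_right H.form, hdx, hdy]; simp
      obtain ⟨-, hco'⟩ := H.frame hxx hff hxf hdx hdf hd
      refine ⟨hh z f / hh x f, ?_⟩
      have := hco' z
      rwa [hzx, hzd, zero_div, zero_div, zero_smul, zero_smul, add_zero, add_zero] at this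
    rcases eq_or_ne t 0 with rfl | ht0
    · rw [zero_smul, hz, sub_eq_zero] at ht
      exact (hXinj p p' (hh s' x / hh s x) (by
        rw [div_eq_inv_mul, ← smul_smul, ← ht, inv_smul_smul₀ (hXx p)])).symm
    exfalso
    refine hx ?_
    have hss : hh s' s ≠ 0 := by
      intro h0
      obtain ⟨a, ha⟩ := H.orth_iso (hX p).1 (hX p').1 (fun e0 => hXx p (by
        show hh s x = 0
        rw [show s = 0 from e0, H.zero_left])) h0
      have e' : z = 0 := by
        rw [hz, show s' = a • s from ha, H.form.smul_left, smul_smul]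
        rw [mul_comm a, sub_self]
      rw [e'] at ht
      exact (smul_ne_zero ht0 hx0) ht.symm
    have hzz : hh z z = 0 := by rw [ht, H.form.smul_left, un_smul_right H.form, hxx]; ring
    set r := -(hh s' x / hh s x) with hr
    have hz' : z = hh s x • (s' + r • s) := by
      rw [hz, smul_add, smul_smul, hr, mul_neg, mul_div_cancel₀ _ (hXx p), neg_smul, sub_eq_add_neg]
    have hiso : hh (s' + r • s) (s' + r • s) = 0 := by
      have e1 := hzz
      rw [hz', H.form.smul_left, un_smul_right H.form] at e1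
      have hτ0 : τ (hh s x) ≠ 0 := fun h => hXx p (τ.injective (h.trans (map_zero τ).symm))
      simp only [mul_eq_zero, hτ0, false_or] at e1
      exact e1.resolve_left (hXx p)
    have := (UFull.move H.form hMS (hX p').2 (hX p).2 (hX p').1 (hX p).1 hss hiso).smul H.form (t⁻¹ * hh s x)
    rwa [← smul_smul, ← hz', ht, inv_smul_smul₀ ht0] at this
  have hle := Nat.card_le_card_of_injective _ hΦ
  rw [Nat.card_prod, Finite.card_option, Nat.card_eq_fintype_card (α := F), H.card, pow_two] at hle
  have h1 : q ≤ Nat.card K := by rw [Nat.card_coe_set_eq]; exact H.skew_card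
  have h2 := Nat.mul_lt_mul_of_lt_of_le (show q < Nat.card K + 1 by omega) h1
    (show 0 < Nat.card K by have := H.three_le; omega)
  omega

/-- E2. -/
theorem uFullStmt : UFullStmt q τ (F := F) := by
  intro M hMS hirr v hv0 hvv hv
  have hne : fvec hh v ≠ 0 := fun h => hv0 (un_fvec_injective H.form (h.trans (un_fvec_zero H.form).symm))
  obtain ⟨g, hg, hgv⟩ := exists_dot_orbit hirr hv0 hne
  rw [un_dot H.form] at hgv
  set u := (g : Matrix (Fin 3) (Fin 3) F) *ᵥ v
  have hgu := fun {g : GL (Fin 3) F} (hg : g ∈ M) => (mem_GU_iff g).1 (hMS hg).1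
  have huu : hh u u = 0 := (hgu hg v v).trans hvv
  obtain ⟨c, hcu, hcv, hc⟩ := H.exists_perp u v
  have hne' : fvec hh c ≠ 0 := fun h => hc (un_fvec_injective H.form (h.trans (un_fvec_zero H.form).symm))
  obtain ⟨g', hg', hwc⟩ := exists_dot_orbit hirr hv0 hne'
  rw [un_dot H.form] at hwc
  refine H.su3_le_of_triangle hMS huu hvv ((hgu hg' v v).trans hvv) hgv (hv.map H.form hMS hg) hv
    (hv.map H.form hMS hg') fun c' h1 h2 h3 h0 => hwc ?_
  obtain ⟨hcc, hco⟩ := H.frame huu hvv hgv hcu hcv hc
  have e := hco c'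
  rw [h1, h2, zero_div, zero_div, zero_smul, zero_smul, zero_add, zero_add] at e
  rw [e, un_smul_right H.form, mul_eq_zero] at h0
  refine h0.resolve_left fun ht => h3 ?_
  rw [e, τ.injective (ht.trans (map_zero τ).symm), zero_smul]

/-- An elation of the unitary group is a unitary elation. -/
theorem USetup.elation (hMS : M ≤ su3 F q) {c φ : VV} (hc : c ≠ 0) (hφ : φ ≠ 0) (h : Has M c φ) :
    hh c c = 0 ∧ ∃ k : F, k ≠ 0 ∧ τ k = -k ∧ φ = k • fvec hh c ∧ Has M (k • c) (fvec hh c) := by
  obtain ⟨h0, hm⟩ := h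
  have iso : ∀ x y, (φ ⬝ᵥ x) * hh c y + τ (φ ⬝ᵥ y) * hh x c + (φ ⬝ᵥ x) * τ (φ ⬝ᵥ y) * hh c c = 0 := by
    intro x y
    have e := (mem_GU_iff _).1 (hMS hm).1 x y
    simp only [tv_mulVec, H.form.add_left, un_add_right H.form, H.form.smul_left, un_smul_right H.form] at e
    linear_combination e
  obtain ⟨x₀, hx₀⟩ := exists_dot_ne_zero hφ
  have hcc : hh c c = 0 := by
    have e := iso x₀ c
    rw [h0, map_zero, zero_mul, mul_zero, zero_mul, add_zero, add_zero, mul_eq_zero] at e
    exact e.resolve_left hx₀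
  refine ⟨hcc, ?_⟩
  obtain ⟨y, hy⟩ := un_exists H.form c hc
  have key : φ = (-τ (φ ⬝ᵥ y)) • fvec hh c := dot_ext fun x => by
    have e := iso x y
    rw [hy, hcc] at e
    rw [smul_dotProduct, un_dot H.form, smul_eq_mul]
    linear_combination e
  have hyc : hh y c = 1 := by rw [H.form.herm, hy, map_one]
  have hk : φ ⬝ᵥ y = -τ (φ ⬝ᵥ y) := by
    have e : φ ⬝ᵥ y = ((-τ (φ ⬝ᵥ y)) • fvec hh c) ⬝ᵥ y := congrArg (· ⬝ᵥ y) key
    rwa [smul_dotProduct, un_dot H.form, smul_eq_mul, hyc, mul_one] at e
  refine ⟨φ ⬝ᵥ y, fun h' => hφ ?_, ?_, hk ▸ key, ?_⟩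
  · rw [key, h', map_zero, neg_zero, zero_smul]
  · linear_combination hk
  · rw [Has.smul_iff, hk, ← key]
    exact ⟨h0, hm⟩

/-- E2p. -/
theorem uPrimeStmt : UPrimeStmt (F := F) q := by
  intro hp M hMS hirr ⟨c, φ, hc, hφ, h⟩
  obtain ⟨hcc, k, hk0, hk, -, hhas⟩ := H.elation hMS hc hφ h
  refine uFullStmt H M hMS hirr c hc hcc fun k' hk' => ?_
  haveI : Fact q.Prime := ⟨hp⟩
  haveI : CharP F q := charP_of_card_eq_prime_pow (f := 2) H.card
  have hr : (k' / k) ^ q = k' / k := by rw [← H.pow, map_div₀, hk', hk, neg_div_neg_eq]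
  obtain ⟨n, hn⟩ : ∃ n : ℕ, k' / k = n := by
    obtain ⟨z, hz⟩ := (mem_bot_iff_intCast q F).1 ((Subfield.mem_bot_iff_pow_eq_self F q).2 hr)
    refine ⟨(z : ZMod q).val, ?_⟩
    rw [← map_natCast (ZMod.castHom dvd_rfl F), ZMod.natCast_zmod_val, map_intCast, hz]
  have hk'' : k' = n * k := by rw [← hn, div_mul_cancel₀ _ hk0]
  subst hk''
  clear hn hr hk'
  induction n with
  | zero => exact has_of_zero (Or.inl (by simp))
  | succ n ih =>
    rw [Nat.cast_succ, add_mul, one_mul, add_smul]
    exact ih.add_left hhas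

/-- An isotropic point with the same form value, off the secant. -/
theorem USetup.exists_iso_off {c : VV} (hc : c ≠ 0) : ∃ v, hh v v = 0 ∧ hh v c = 1 := by
  have hP : Cfsg.Geo.IsNondegenerateOn hh (⊤ : Submodule F VV) := fun w _ hw => by
    obtain ⟨⟨a, ha⟩, b, hb⟩ := H.form.nondegenerate w hw
    exact ⟨⟨a, Submodule.mem_top, ha⟩, b, Submodule.mem_top, hb⟩
  obtain ⟨a, -, ha, -, hac⟩ := un_supply_sharp H.form ⊤ hP ⊥ (by simp)
    (fun p hp r _ => by rw [Submodule.mem_bot] at hp; rw [hp, H.zero_left]) (k := 0) ![] (fun i => i.elim0)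
    (by simp) Submodule.mem_top (x := c) (by
      rw [Matrix.range_empty, Submodule.span_empty, Submodule.mem_bot]; exact hc) (map_zero τ)
  exact ⟨a, ha, hac⟩

theorem USetup.stab_of_line {c : VV} {g : GL (Fin 3) F} (hc : c ≠ 0) {a : F}
    (h : (g : Matrix (Fin 3) (Fin 3) F) *ᵥ c = a • c) :
    g ∈ Cfsg.Geo.subspaceStabilizer (Submodule.span F {c}) := by
  have ha : a ≠ 0 := fun e => mulVec_ne_zero g hc (by rw [h, e, zero_smul])
  refine (mem_subspaceStabilizer_iff _ g).2 fun v => ⟨fun hv => ?_, fun hv => ?_⟩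
  · obtain ⟨r, rfl⟩ := Submodule.mem_span_singleton.1 hv
    rw [Matrix.mulVec_smul, h, smul_smul]
    exact Submodule.smul_mem _ _ (Submodule.mem_span_singleton_self c)
  · obtain ⟨r, hr⟩ := Submodule.mem_span_singleton.1 hv
    refine Submodule.mem_span_singleton.2 ⟨r / a, mulVec_inj g ?_⟩
    show (g : Matrix (Fin 3) (Fin 3) F) *ᵥ ((r / a) • c) = (g : Matrix (Fin 3) (Fin 3) F) *ᵥ v
    rw [Matrix.mulVec_smul, h, smul_smul, div_mul_cancel₀ _ ha, hr]

theorem USetup.full_of_perp {c v : VV}
    (hHM : Cfsg.Geo.subspaceStabilizer (Submodule.span F {c}) ⊓ su3 F q ≤ M) (hvv : hh v v = 0)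
    (hcv : hh c v = 0) : UFull τ q M v := fun k hk =>
  ⟨_, hHM ⟨tv_mem_stab_of_ann _ (k • v) (fvec hh v) (un_tv_dot H.form hvv k) (fun w hw => by
    obtain ⟨r, rfl⟩ := Submodule.mem_span_singleton.1 hw
    rw [un_dot H.form, H.form.smul_left, hcv, mul_zero]), utv_mem_su H.form hvv hk⟩⟩

/-- The stabiliser of a point is proper. -/
theorem USetup.proper {c : VV} (hc : c ≠ 0) :
    Cfsg.Geo.subspaceStabilizer (Submodule.span F {c}) ⊓ su3 F q < su3 F q := by
  refine lt_of_le_of_ne inf_le_right fun heq => ?_
  obtain ⟨v, hvv, hvc⟩ := H.exists_iso_off hc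
  obtain ⟨k, hk0, hk⟩ := un_skew_exists H.form
  have hmem : tv (k • v) (fvec hh v) (un_tv_dot H.form hvv k) ∈
      Cfsg.Geo.subspaceStabilizer (Submodule.span F {c}) ⊓ su3 F q := by
    rw [heq]; exact utv_mem_su H.form hvv hk
  have h1 := ((mem_subspaceStabilizer_iff _ _).1 hmem.1 c).1 (Submodule.mem_span_singleton_self c)
  have hne : hh c v ≠ 0 := H.flip_ne (by rw [hvc]; exact one_ne_zero)
  rw [tv_mulVec, un_dot H.form, smul_smul, Submodule.add_mem_iff_right _ (Submodule.mem_span_singleton_self c),
    Submodule.smul_mem_iff _ (mul_ne_zero hne hk0)] at h1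
  obtain ⟨r, rfl⟩ := Submodule.mem_span_singleton.1 h1
  rcases eq_or_ne r 0 with rfl | hr
  · simp [H.zero_left] at hvc
  · refine hne (H.flip ?_)
    rw [H.form.smul_left, un_smul_right H.form, mul_eq_zero, mul_eq_zero] at hvv
    rw [H.form.smul_left]
    rcases hvv with h' | h' | h'
    · exact absurd h' hr
    · exact absurd (τ.injective (h'.trans (map_zero τ).symm)) hr
    · rw [h', mul_zero]

/-- S5777, row 1. -/
theorem uIsoRow (W : Submodule F VV) (hW0 : W ≠ ⊥) (hW : Cfsg.Geo.IsTotallySingularFor hh W) :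
    Cfsg.Geo.IsMaximalIn (su3 F q) (Cfsg.Geo.subspaceStabilizer W ⊓ su3 F q) := by
  obtain ⟨d, hdW, hd0⟩ := W.exists_mem_ne_zero_of_ne_bot hW0
  have hdd : hh d d = 0 := hW d hdW d hdW
  have hWd : W = Submodule.span F {d} := le_antisymm (fun v hv => by
      obtain ⟨a, rfl⟩ := H.orth_iso hdd (hW v hv v hv) hd0 (hW v hv d hdW)
      exact Submodule.smul_mem _ _ (Submodule.mem_span_singleton_self d))
    ((Submodule.span_singleton_le_iff_mem _ _).2 hdW)
  subst hWd
  refine ⟨H.proper hd0, fun M hHM hMS => or_iff_not_imp_left.2 fun hne => le_antisymm hMS ?_⟩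
  obtain ⟨g, hgM, hg⟩ : ∃ g ∈ M, g ∉ Cfsg.Geo.subspaceStabilizer (Submodule.span F {d}) := by
    by_contra hcon
    push Not at hcon
    exact hne (le_antisymm (fun g hg => ⟨hcon g hg, hMS hg⟩) hHM)
  have hfd : UFull τ q M d := H.full_of_perp hHM hdd hdd
  set u := (g : Matrix (Fin 3) (Fin 3) F) *ᵥ d
  have huu : hh u u = 0 := ((mem_GU_iff g).1 (hMS hgM).1 d d).trans hdd
  have hud : hh u d ≠ 0 := fun h0 => by
    obtain ⟨a, ha⟩ := H.orth_iso hdd huu hd0 h0
    exact hg (H.stab_of_line hd0 ha)
  obtain ⟨c, hcu, hcd, hc⟩ := H.exists_perp u d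
  obtain ⟨hcc, hco⟩ := H.frame huu hdd hud hcu hcd hc
  obtain ⟨θ, hθ⟩ := CfsgLib.Geometry.exists_trace_one (σ := (τ : F →+* F))
    (fun h => H.form.ne_refl (RingEquiv.ext fun a => RingHom.congr_fun h a)) (fun a => H.form.involutive a)
  change θ + τ θ = 1 at hθ
  have hs : -(θ * hh c c) + τ (-(θ * hh c c)) + hh c c = 0 := by
    rw [map_neg, map_mul, ← H.form.herm c c]
    linear_combination (-hh c c) * hθ
  have hS : unSiegel H.form hdd hcd (-(θ * hh c c)) ∈ M := hHM ⟨H.stab_of_line hd0 (a := 1) (by
    rw [unSiegel_mulVec, hdd, H.flip hcd, one_smul]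
    simp), siegel_mem_su H.form hdd hcd hs⟩
  have hwfull := (hfd.map H.form hMS hgM).map H.form hMS hS
  refine H.su3_le_of_triangle hMS huu hdd
    (((mem_GU_iff _).1 (hMS hS).1 u u).trans huu) hud (hfd.map H.form hMS hgM) hfd hwfull
    fun c' h1 h2 h3 h0 => ?_
  have e := hco c'
  rw [h1, h2, zero_div, zero_div, zero_smul, zero_smul, zero_add, zero_add] at e
  rw [e, un_smul_right H.form, mul_eq_zero] at h0
  rcases h0 with ht | ht
  · exact h3 (by rw [e, τ.injective (ht.trans (map_zero τ).symm), zero_smul])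
  · rw [unSiegel_mulVec, H.form.add_left, H.form.add_left,
      H.form.smul_left, H.form.smul_left, H.flip hcu, H.flip hcd] at ht
    simp [hud, hcc] at ht

/-- S5777, row 2. -/
theorem uNondegRow (W : Submodule F VV) (hW0 : W ≠ ⊥) (hW : Cfsg.Geo.IsNondegenerateOn hh W)
    (hdim : 2 * Module.finrank F W < 3) :
    Cfsg.Geo.IsMaximalIn (su3 F q) (Cfsg.Geo.subspaceStabilizer W ⊓ su3 F q) := by
  obtain ⟨c, hcW, hc0⟩ := W.exists_mem_ne_zero_of_ne_bot hW0
  have hWc : W = Submodule.span F {c} := by
    refine (Submodule.eq_of_le_of_finrank_le ((Submodule.span_singleton_le_iff_mem _ _).2 hcW) ?_).symm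
    rw [finrank_span_singleton hc0]; omega
  subst hWc
  have hcc : hh c c ≠ 0 := by
    intro h
    obtain ⟨z, hz, hzc⟩ := (hW c hcW hc0).1
    obtain ⟨r, rfl⟩ := Submodule.mem_span_singleton.1 hz
    exact hzc (by rw [H.form.smul_left, h, mul_zero])
  refine ⟨H.proper hc0, fun M hHM hMS => or_iff_not_imp_left.2 fun hne => le_antisymm hMS ?_⟩
  obtain ⟨g, hgM, hg⟩ : ∃ g ∈ M, g ∉ Cfsg.Geo.subspaceStabilizer (Submodule.span F {c}) := by
    by_contra hcon
    push Not at hcon
    exact hne (le_antisymm (fun g hg => ⟨hcon g hg, hMS hg⟩) hHM)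
  -- two isotropic points on the polar line
  obtain ⟨p, hpc, -, hp0⟩ := H.exists_perp c c
  obtain ⟨r, hrc, hrp, hr0⟩ := H.exists_perp c p
  obtain ⟨e, f, hee, hff, hef, hce, hcf⟩ : ∃ e f : VV, hh e e = 0 ∧ hh f f = 0 ∧ hh e f ≠ 0 ∧
      hh c e = 0 ∧ hh c f = 0 := by
    by_cases hpp : hh p p = 0
    · obtain ⟨v, hvv, hvp⟩ := H.exists_iso_off hp0
      -- move `v` into the polar line
      obtain ⟨θ, hθ⟩ := CfsgLib.Geometry.exists_trace_one (σ := (τ : F →+* F))
        (fun h => H.form.ne_refl (RingEquiv.ext fun a => RingHom.congr_fun h a)) (fun a => H.form.involutive a)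
      change θ + τ θ = 1 at hθ
      have hpv : hh p v = 1 := by rw [H.form.herm, hvp, map_one]
      have hcp : hh c p = 0 := H.flip hpc
      set β := hh v c / hh c c with hβ
      have hb : hh v c = β * hh c c := by rw [hβ, div_mul_cancel₀ _ hcc]
      set f := v + (-β) • c + (θ * (β * τ β * hh c c)) • p with hf
      have hfc : hh f c = 0 := by
        simp only [hf, H.form.add_left, H.form.smul_left, hpc, hb]; ring
      refine ⟨p, f, hpp, ?_, ?_, hcp, H.flip hfc⟩
      · simp only [hf, H.form.add_left, un_add_right H.form, H.form.smul_left, un_smul_right H.form, hvv, hpp,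
          hpc, hcp, hvp, hpv, map_neg, map_mul, H.form.involutive, ← H.form.herm c c]
        rw [H.form.herm c v, hb, map_mul, ← H.form.herm c c]
        linear_combination (β * τ β * hh c c) * hθ
      · simp only [hf, un_add_right H.form, un_smul_right H.form, hpp, hpc, hpv, mul_zero, add_zero]
        exact one_ne_zero
    · have hrr : hh r r ≠ 0 := by
        intro h0
        have hind : LinearIndependent F ![c, p, r] := by
          rw [Fintype.linearIndependent_iff]
          intro t ht
          simp only [Fin.sum_univ_three, Matrix.cons_val_zero, Matrix.cons_val_one, Matrix.cons_val] at ht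
          have ec := congrArg (hh · c) ht
          simp only [H.form.add_left, H.form.smul_left, hpc, hrc, H.zero_left, mul_zero, add_zero, mul_eq_zero,
            hcc, or_false] at ec
          have ep := congrArg (hh · p) ht
          simp only [H.form.add_left, H.form.smul_left, H.flip hpc, hrp, H.zero_left, mul_zero, add_zero,
            zero_add, mul_eq_zero, hpp, or_false] at ep
          rw [ec, ep, zero_smul, zero_smul, zero_add, zero_add, smul_eq_zero] at ht
          intro i
          fin_cases i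
          · exact ec
          · exact ep
          · exact ht.resolve_right hr0
        obtain ⟨x, hx⟩ := un_exists H.form r hr0
        have hxs : x ∈ Submodule.span F (Set.range ![c, p, r]) := by
          rw [hind.span_eq_top_of_card_eq_finrank (by simp)]; exact Submodule.mem_top
        obtain ⟨t, rfl⟩ := (Submodule.mem_span_range_iff_exists_fun F).1 hxs
        simp [Fin.sum_univ_three, un_add_right H.form, un_smul_right H.form, hrc, hrp, h0] at hx
      have hσ : (τ : F →+* F) ≠ RingHom.id F := fun h =>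
        H.form.ne_refl (RingEquiv.ext fun a => RingHom.congr_fun h a)
      obtain ⟨μ, hμ⟩ := CfsgLib.Geometry.exists_norm_eq (σ := (τ : F →+* F)) hσ (fun a => H.form.involutive a)
        (c := -(hh p p) / hh r r) (by
          show τ (-(hh p p) / hh r r) = _
          rw [map_div₀, map_neg, ← H.form.herm p p, ← H.form.herm r r])
      change μ * τ μ = _ at hμ
      have hμ0 : μ ≠ 0 := fun h => by
        rw [h, zero_mul] at hμ
        rcases div_eq_zero_iff.1 hμ.symm with h | h
        · exact hpp (neg_eq_zero.1 h)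
        · exact hrr h
      obtain ⟨y, hy⟩ : ∃ y : F, τ y ≠ y := by
        by_contra hcon
        push Not at hcon
        exact H.form.ne_refl (RingEquiv.ext hcon)
      have hy0 : y ≠ 0 := fun h => hy (by rw [h, map_zero])
      have hτy0 : τ y ≠ 0 := fun h => hy0 (τ.injective (h.trans (map_zero τ).symm))
      set t := y / τ y with ht
      have htt : t * τ t = 1 := by
        rw [ht, map_div₀, H.form.involutive, div_mul_div_comm, mul_comm, div_self (mul_ne_zero hτy0 hy0)]
      have hkey : μ * τ μ * hh r r = -(hh p p) := by rw [hμ, div_mul_cancel₀ _ hrr]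
      have hpr : hh p r = 0 := H.flip hrp
      refine ⟨p + μ • r, p + (μ * t) • r, ?_, ?_, fun h => ?_, ?_, ?_⟩
      · simp only [H.form.add_left, un_add_right H.form, H.form.smul_left, un_smul_right H.form, hrp, hpr]
        linear_combination hkey
      · simp only [H.form.add_left, un_add_right H.form, H.form.smul_left, un_smul_right H.form, hrp, hpr,
          map_mul]
        linear_combination hkey + (μ * τ μ * hh r r) * htt
      · simp only [H.form.add_left, un_add_right H.form, H.form.smul_left, un_smul_right H.form, hrp, hpr,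
          map_mul] at h
        have h2 : (1 - τ t) * hh p p = 0 := by linear_combination h - τ t * hkey
        rcases mul_eq_zero.1 h2 with h3 | h3
        · refine hy ?_
          have h4 : τ t = 1 := (sub_eq_zero.1 h3).symm
          rw [ht, map_div₀, H.form.involutive, div_eq_one_iff_eq hy0] at h4
          exact h4
        · exact hpp h3
      · simp [un_add_right H.form, un_smul_right H.form, H.flip hpc, H.flip hrc]
      · simp [un_add_right H.form, un_smul_right H.form, H.flip hpc, H.flip hrc]
  have he : UFull τ q M e := H.full_of_perp hHM hee hce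
  have hf : UFull τ q M f := H.full_of_perp hHM hff hcf
  have hgu := (mem_GU_iff g).1 (hMS hgM).1
  obtain ⟨hcc', hco⟩ := H.frame hee hff hef hce hcf hc0
  obtain ⟨w, hw, hww, hwc⟩ : ∃ w, UFull τ q M w ∧ hh w w = 0 ∧ hh w c ≠ 0 := by
    by_cases h1 : hh ((g : Matrix (Fin 3) (Fin 3) F) *ᵥ e) c = 0
    swap
    · exact ⟨_, he.map H.form hMS hgM, (hgu e e).trans hee, h1⟩
    by_cases h2 : hh ((g : Matrix (Fin 3) (Fin 3) F) *ᵥ f) c = 0
    swap
    · exact ⟨_, hf.map H.form hMS hgM, (hgu f f).trans hff, h2⟩
    exfalso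
    obtain ⟨y, hy⟩ := mulVec_surj g c
    replace hy : (g : Matrix (Fin 3) (Fin 3) F) *ᵥ y = c := hy
    replace h1 : hh e y = 0 := (hgu e y).symm.trans (by rw [hy]; exact h1)
    replace h2 : hh f y = 0 := (hgu f y).symm.trans (by rw [hy]; exact h2)
    have e1 := hco y
    rw [H.flip h1, H.flip h2, zero_div, zero_div, zero_smul, zero_smul, zero_add, zero_add] at e1
    have hs : hh y c / hh c c ≠ 0 := fun h0 => hc0 (by rw [← hy, e1, h0, zero_smul, Matrix.mulVec_zero])
    refine hg (H.stab_of_line hc0 (a := (hh y c / hh c c)⁻¹) ?_)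
    rw [e1, Matrix.mulVec_smul] at hy
    exact (eq_inv_smul_iff₀ hs).2 hy
  refine H.su3_le_of_triangle hMS hee hff hww hef he hf hw fun c' h1 h2 h3 h0 => hwc ?_
  have e1 := hco c'
  rw [h1, h2, zero_div, zero_div, zero_smul, zero_smul, zero_add, zero_add] at e1
  rw [e1, un_smul_right H.form, mul_eq_zero] at h0
  refine h0.resolve_left fun ht => h3 ?_
  rw [e1, τ.injective (ht.trans (map_zero τ).symm), zero_smul]

end CfsgLib.Dim3Max
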