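import Cfsg.Agent.Lib.Dim3Max.Six.Core
import Cfsg.Agent.Lib.Dim3Max.USix.Reduce

/-!
S5774, row 5: the normaliser of a symplectic type group is maximal.
-/

set_option autoImplicit false
set_option linter.unusedSectionVars false

namespace CfsgLib.Dim3Max

open scoped Matrix MatrixGroups
open CfsgLib.Maximal Six Four

universe u

variable {F : Type u} [Field F] [Fintype F]

theorem conjG_sl3 (g : GL (Fin 3) F) : conjG g (sl3 F) = sl3 F := by
  ext m
  rw [mem_conjG, mem_specialLinear_iff, mem_specialLinear_iff, Units.val_mul, Units.val_mul, Matrix.det_mul,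
    Matrix.det_mul, mul_right_comm, ← Matrix.det_mul, Units.mul_inv, Matrix.det_one, one_mul]

theorem Six.Root.u_sl (r : Six.Root F) : r.u ∈ sl3 F :=
  (mem_specialLinear_iff _).2 (by simp [Six.Root.u, Matrix.det_fin_three])

/-- A cube root of `w` needs nine to divide the order of the multiplicative group. -/
theorem Six.Root.mod_nine (r : Six.Root F) {p : ℕ} (hcard : Fintype.card F = p)
    (he : ∃ e : Fˣ, (e : F) ^ 3 = r.w) : p % 9 = 1 ∨ p % 9 = 8 := by
  obtain ⟨e, he⟩ := he
  left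
  haveI : Fact (Nat.Prime 3) := ⟨Nat.prime_three⟩
  have hord : orderOf (e : F) = 3 ^ (1 + 1) := by
    refine orderOf_eq_prime_pow (fun h => r.w_ne_one (by rw [← he]; simpa using h)) ?_
    rw [show (3 : ℕ) ^ (1 + 1) = 3 * 3 from rfl, pow_mul, he]
    linear_combination r.w_cube
  have hqq : (e : F) ^ (p - 1) = 1 := by rw [← hcard]; exact FiniteField.pow_card_sub_one_eq_one _ e.ne_zero
  have hd := orderOf_dvd_of_pow_eq_one hqq
  rw [hord] at hd
  have : 0 < p := hcard ▸ Fintype.card_pos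
  omega

theorem linSixRow (T : LinTools F) (_ : LinOrthRow F) : LinSixRow F := by
  intro p R hp hcard hmod hR
  obtain ⟨q, hq⟩ := CharP.exists F
  haveI := hq
  haveI : Fact p.Prime := ⟨hp⟩
  haveI : CharP F p := charP_of_card_eq_prime_pow (f := 1) (by rw [hcard, pow_one])
  have hp5 : 5 ≤ p := by
    have := hp.two_le
    have : p ≠ 4 := fun h => by rw [h] at hp; norm_num at hp
    omega
  have h2F : (2 : F) ≠ 0 := fun h => by
    have := (CharP.cast_eq_zero_iff F p 2).1 (by exact_mod_cast h)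
    exact absurd (Nat.le_of_dvd (by norm_num) this) (by omega)
  have h3F : (3 : F) ≠ 0 := fun h => by
    have := (CharP.cast_eq_zero_iff F p 3).1 (by exact_mod_cast h)
    exact absurd (Nat.le_of_dvd (by norm_num) this) (by omega)
  obtain ⟨r, g0, hg0⟩ := Six.exists_frame h2F h3F hR
  set g := g0⁻¹ with hgd
  have hgR : conjG g R = r.grp := by
    rw [← hg0]
    ext m
    rw [mem_conjG, Subgroup.mem_map]
    constructor
    · exact fun h => ⟨_, h, by simp [hgd, mul_assoc]⟩
    · rintro ⟨x, hx, rfl⟩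
      simpa [hgd, mul_assoc] using hx
  have hN : conjG g (Cfsg.Geo.subgroupNormalizer R) = Cfsg.Geo.subgroupNormalizer r.grp := by
    rw [← hgR]
    exact Subgroup.comap_normalizer_eq_of_surjective R (MulAut.conj g).surjective
  have hmono : ∀ {A B : Subgroup (GL (Fin 3) F)}, conjG g A ≤ conjG g B → A ≤ B := fun h x hx => by
    have := h (show g⁻¹ * x * g ∈ conjG g _ by rw [mem_conjG]; convert hx using 1; group)
    rw [mem_conjG] at this
    convert this using 1; group
  have hinf : conjG g (Cfsg.Geo.subgroupNormalizer R ⊓ sl3 F) = Cfsg.Geo.subgroupNormalizer r.grp ⊓ sl3 F := by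
    rw [← hN]; nth_rw 2 [← conjG_sl3 g]
    exact Subgroup.comap_inf _ _ _
  have hgrp : r.grp ≤ sl3 F := (Subgroup.closure_le _).2 (by
    rintro s (rfl | rfl)
    exacts [r.x_sl, r.y_sl])
  refine ⟨lt_of_le_of_ne inf_le_right fun he => ?_, fun M hHM hMS => ?_⟩
  · have := (hinf.symm.trans ((congrArg (conjG g) he).trans (conjG_sl3 g))).symm.le r.u_sl
    exact USix.u_not_normalizer r this.1
  have hRH : R ≤ Cfsg.Geo.subgroupNormalizer R ⊓ sl3 F :=
    le_inf Subgroup.le_normalizer (hmono (by rw [hgR, conjG_sl3]; exact hgrp))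
  have hirrM : Irr M := fun W hW => hR.absIrred.1 W fun s ⟨x, hx, hs⟩ => hW s ⟨x, hHM (hRH hx), hs⟩
  by_cases hel : HasElation M
  · exact .inr (le_antisymm hMS (T.prime (hcard ▸ hp) M hirrM hel))
  refine .inl (le_antisymm (le_inf (hmono ?_) hMS) hHM)
  rw [hN]
  have hNM : Cfsg.Geo.subgroupNormalizer r.grp ⊓ sl3 F ≤ conjG g M := hinf ▸ Subgroup.comap_mono hHM
  have hgn : r.grp ≤ Cfsg.Geo.subgroupNormalizer r.grp := Subgroup.le_normalizer
  have hne : Six.NoElation (conjG g M) := fun c φ hc hφ h =>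
    hel ⟨_, _, mulVec_ne_zero g hc, vecMul_inv_ne_zero g hφ, has_conjG.1 h⟩
  refine Six.Six.le_normalizer (p := p) (Six.Six.of_prime hp hcard hmod ?_ hne (hNM ⟨hgn r.x_mem, r.x_sl⟩)
    (hNM ⟨hgn r.y_mem, r.y_sl⟩) (hNM ⟨r.f_mem_normalizer, r.f_sl⟩) (hNM ⟨r.g_mem_normalizer, r.g_sl⟩)
    fun e he => hNM ⟨mul_mem (Subgroup.mem_normalizer_iff.2 fun v => by
        rw [Six.scl_comm, mul_assoc, mul_inv_cancel, mul_one]) r.s_mem_normalizer, ?_⟩) (r.mod_nine hcard)
  · exact conjG_sl3 g ▸ Subgroup.comap_mono hMS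
  · refine (mem_specialLinear_iff _).2 ?_
    rw [Units.val_mul, Six.scl_val, Matrix.smul_mul, Matrix.one_mul, Matrix.det_smul, Fintype.card_fin, he]
    simp [Six.Root.s, Matrix.det_fin_three]
    linear_combination r.w_cube

end CfsgLib.Dim3Max
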