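import Cfsg.Agent.Lib.Dim3Max.Pair

/-!
Subfield subgroups are maximal in the special linear group of dimension three.

An elation with a rational centre has a rational axis and dually.  Otherwise the pair lemma shows that it is
rational, except over the field with two elements, where two rational elations with one centre would be conjugate
by an element fixing the centre and a non-rational line through it.
-/

set_option autoImplicit false
set_option linter.unusedSectionVars false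
set_option linter.unusedSimpArgs false
set_option linter.style.haveILetI false

namespace CfsgLib.Dim3Max.LinSub

open scoped Matrix MatrixGroups
open CfsgLib.Maximal

universe u

variable {F : Type u} [Field F] {F₀ : Subfield F} {M : Subgroup (GL (Fin 3) F)}

/-- An overgroup of the rational group without larger root groups at rational flags. -/
structure Sub3 (F₀ : Subfield F) (M : Subgroup (GL (Fin 3) F)) : Prop where
  mem : ∀ g : GL (Fin 3) F, g ∈ sl3 F → RatUpToScalar F₀ g → g ∈ M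
  root : ∀ c φ : Fin 3 → F, RatV F₀ c → RatV F₀ φ → c ≠ 0 → φ ≠ 0 → ∀ μ : F, Has M (μ • c) φ → μ ∈ F₀

/-- Rational elations. -/
theorem has_rat (hmem : ∀ g : GL (Fin 3) F, g ∈ sl3 F → RatUpToScalar F₀ g → g ∈ M) {u ψ : Fin 3 → F}
    (hu : RatV F₀ u) (hψ : RatV F₀ ψ) (h0 : ψ ⬝ᵥ u = 0) : Has M u ψ :=
  ⟨h0, hmem _ (tv_mem_specialLinear _ _ _) ⟨1, one_ne_zero, by
    rw [one_smul, tv_val]; exact ratM_one.add (ratM_vecMulVec hu hψ)⟩⟩

theorem exists_ne_two : ∀ a b : Fin 3, ∃ p, p ≠ a ∧ p ≠ b := by decide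

/-- A rational functional killing two rational vectors. -/
theorem exists_rat_ann {a c : Fin 3 → F} (ha : RatV F₀ a) (hc : RatV F₀ c) :
    ∃ ψ : Fin 3 → F, RatV F₀ ψ ∧ ψ ≠ 0 ∧ ψ ⬝ᵥ a = 0 ∧ ψ ⬝ᵥ c = 0 := by
  let A : Matrix (Fin 3) (Fin 3) F := Matrix.of fun i j => ![a i, c i, 0] j
  have hA : RatM F₀ A := fun i j => by fin_cases j <;> simp [A, ha i, hc i, F₀.zero_mem]
  obtain ⟨ψ, hψ, hψ0, h⟩ := hA.exists_left_null (Matrix.det_eq_zero_of_column_eq_zero 2 (by simp [A]))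
  refine ⟨ψ, hψ, hψ0, ?_, ?_⟩
  · simpa [A, Matrix.vecMul, dotProduct] using congrFun h 0
  · simpa [A, Matrix.vecMul, dotProduct] using congrFun h 1

/-- A rational centre has a rational axis. -/
theorem Sub3.axis_rat (h : Sub3 F₀ M) {a φ : Fin 3 → F} (hX : Has M a φ) (ha : RatV F₀ a) (ha0 : a ≠ 0) :
    RatV F₀ φ := by
  intro k
  obtain ⟨ψ, hψ, hψ0, hψa, hψk⟩ := exists_rat_ann ha (ratV_single k F₀.one_mem)
  have h1 := hX.comm_left (has_rat h.mem (ratV_single k F₀.one_mem) hψ hψk) hψa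
  rw [dotProduct_single, mul_one] at h1
  exact h.root a ψ ha hψ ha0 hψ0 _ h1

/-- A rational axis has a rational centre. -/
theorem Sub3.centre_rat (h : Sub3 F₀ M) {a φ : Fin 3 → F} (hX : Has M a φ) (hφ : RatV F₀ φ) (hφ0 : φ ≠ 0) :
    RatV F₀ a := by
  intro k
  obtain ⟨c, hc, hc0, hcφ, hck⟩ := exists_rat_ann hφ (ratV_single k F₀.one_mem)
  rw [dotProduct_comm] at hcφ hck
  have h1 := hX.comm_right (has_rat h.mem hc (ratV_single k F₀.one_mem) hck) hcφ
  rw [← Has.smul_iff, single_dotProduct, one_mul] at h1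
  exact h.root c φ hc hφ hc0 hφ0 _ h1

theorem Sub3.of_centre (h : Sub3 F₀ M) {a φ : Fin 3 → F} (hX : Has M a φ) (ha0 : a ≠ 0) {c : F} (hc : c ≠ 0)
    (ha : RatV F₀ (c • a)) : RatM F₀ (Matrix.vecMulVec a φ) := by
  have h1 : Has M (c • a) (c⁻¹ • φ) := by
    rw [Has.smul_iff, smul_smul, mul_inv_cancel₀ hc, one_smul]; exact hX
  have h2 := ratM_vecMulVec ha (h.axis_rat h1 ha (smul_ne_zero hc ha0))
  rwa [Matrix.smul_vecMulVec, Matrix.vecMulVec_smul, smul_smul, mul_inv_cancel₀ hc, one_smul] at h2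

theorem Sub3.of_axis (h : Sub3 F₀ M) {a φ : Fin 3 → F} (hX : Has M a φ) (hφ0 : φ ≠ 0) {c : F} (hc : c ≠ 0)
    (hφ : RatV F₀ (c • φ)) : RatM F₀ (Matrix.vecMulVec a φ) := by
  have h1 : Has M (c⁻¹ • a) (c • φ) := by
    rw [Has.smul_iff, smul_smul, inv_mul_cancel₀ hc, one_smul]; exact hX
  have h2 := ratM_vecMulVec (h.centre_rat h1 hφ (smul_ne_zero hc hφ0)) hφ
  rwa [Matrix.smul_vecMulVec, Matrix.vecMulVec_smul, smul_smul, inv_mul_cancel₀ hc, one_smul] at h2

/-- A centre on a rational line gives a rational elation. -/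
theorem Sub3.of_dep (h : Sub3 F₀ M) {a φ ψ : Fin 3 → F} (hX : Has M a φ) (hψ : RatV F₀ ψ) (hψ0 : ψ ≠ 0)
    (hψa : ψ ⬝ᵥ a = 0) : RatM F₀ (Matrix.vecMulVec a φ) := by
  classical
  rcases eq_or_ne a 0 with rfl | ha0
  · intro i j; simp [Matrix.vecMulVec_apply, F₀.zero_mem]
  rcases eq_or_ne φ 0 with rfl | hφ0
  · intro i j; simp [Matrix.vecMulVec_apply, F₀.zero_mem]
  by_cases hc : ∃ c : Fin 3 → F, RatV F₀ c ∧ ψ ⬝ᵥ c = 0 ∧ φ ⬝ᵥ c ≠ 0
  · obtain ⟨c, hc, hψc, hφc⟩ := hc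
    exact h.of_centre hX ha0 hφc (h.centre_rat (hX.comm_left (has_rat h.mem hc hψ hψc) hψa) hψ hψ0)
  · push Not at hc
    obtain ⟨q, hq⟩ := Function.ne_iff.1 hψ0
    have hqne : ψ q ≠ 0 := hq
    have h1 : ∀ x, φ x * ψ q = φ q * ψ x := fun x => by
      have := hc (Pi.single x (ψ q) - Pi.single q (ψ x))
        ((ratV_single x (hψ q)).sub (ratV_single q (hψ x))) (by simp [dotProduct_sub, mul_comm])
      simp [dotProduct_sub] at this
      linear_combination this
    have hφq : φ q ≠ 0 := fun h0 => hφ0 (funext fun x => by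
      have := h1 x
      rw [h0, zero_mul] at this
      exact (mul_eq_zero.1 this).resolve_right hq)
    refine h.of_axis hX hφ0 (c := (φ q)⁻¹) (inv_ne_zero hφq) fun x => ?_
    have e : ((φ q)⁻¹ • φ) x = ψ x * (ψ q)⁻¹ := by
      simp only [Pi.smul_apply, smul_eq_mul]
      field_simp
      linear_combination h1 x
    rw [e]
    exact F₀.mul_mem (hψ x) (F₀.inv_mem (hψ q))

/-- An axis through a rational point gives a rational elation. -/
theorem Sub3.of_dep' (h : Sub3 F₀ M) {a φ c : Fin 3 → F} (hX : Has M a φ) (hc : RatV F₀ c) (hc0 : c ≠ 0)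
    (hφc : φ ⬝ᵥ c = 0) : RatM F₀ (Matrix.vecMulVec a φ) := by
  classical
  rcases eq_or_ne φ 0 with rfl | hφ0
  · intro i j; simp [Matrix.vecMulVec_apply, F₀.zero_mem]
  rcases eq_or_ne a 0 with rfl | ha0
  · intro i j; simp [Matrix.vecMulVec_apply, F₀.zero_mem]
  by_cases hψ : ∃ ψ : Fin 3 → F, RatV F₀ ψ ∧ ψ ⬝ᵥ c = 0 ∧ ψ ⬝ᵥ a ≠ 0
  · obtain ⟨ψ, hψ, hψc, hψa⟩ := hψ
    exact h.of_axis hX hφ0 hψa (h.axis_rat (hX.comm_right (has_rat h.mem hc hψ hψc) hφc) hc hc0)
  · push Not at hψ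
    obtain ⟨q, hq⟩ := Function.ne_iff.1 hc0
    have hqne : c q ≠ 0 := hq
    have h1 : ∀ x, a x * c q = a q * c x := fun x => by
      have := hψ (Pi.single x (c q) - Pi.single q (c x))
        ((ratV_single x (hc q)).sub (ratV_single q (hc x))) (by simp [sub_dotProduct, mul_comm])
      simp [sub_dotProduct] at this
      linear_combination this
    have haq : a q ≠ 0 := fun h0 => ha0 (funext fun x => by
      have := h1 x
      rw [h0, zero_mul] at this
      exact (mul_eq_zero.1 this).resolve_right hq)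
    refine h.of_centre hX ha0 (c := (a q)⁻¹) (inv_ne_zero haq) fun x => ?_
    have e : ((a q)⁻¹ • a) x = c x * (c q)⁻¹ := by
      simp only [Pi.smul_apply, smul_eq_mul]
      field_simp
      linear_combination h1 x
    rw [e]
    exact F₀.mul_mem (hc x) (F₀.inv_mem (hc q))

/-- The elements fixing a functional. -/
def fixFun (η : Fin 3 → F) : Subgroup (GL (Fin 3) F) where
  carrier := {g | η ᵥ* (g : Matrix (Fin 3) (Fin 3) F) = η}
  one_mem' := by simp
  mul_mem' := fun {g h} (hg : _ = η) (hh : _ = η) => by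
    rw [Set.mem_ofPred_eq, Units.val_mul, ← Matrix.vecMul_vecMul, hg, hh]
  inv_mem' := fun {g} (hg : _ = η) => by
    rw [Set.mem_ofPred_eq]
    nth_rewrite 1 [← hg]
    rw [Matrix.vecMul_vecMul, ← Units.val_mul, mul_inv_cancel, Units.val_one, Matrix.vecMul_one]

theorem tv_mem_fixFun {η c φ : Fin 3 → F} (h : φ ⬝ᵥ c = 0) (hη : η ⬝ᵥ c = 0) : tv c φ h ∈ fixFun η := by
  show η ᵥ* (tv c φ h : Matrix (Fin 3) (Fin 3) F) = η
  rw [tv_val, Matrix.vecMul_add, Matrix.vecMul_one, Matrix.vecMul_vecMulVec, hη, zero_smul, add_zero]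

/-- In characteristic two opposite elations are conjugate, fixing the functional killing both centres. -/
theorem conj_of_opposite [Finite F] (h2 : (2 : F) = 0) {c φ a χ η : Fin 3 → F} (hφc : φ ⬝ᵥ c = 0)
    (hχa : χ ⬝ᵥ a = 0) (hx : tv c φ hφc ∈ M) (ht : tv a χ hχa ∈ M) (hφa : φ ⬝ᵥ a ≠ 0) (hχc : χ ⬝ᵥ c ≠ 0)
    (hη : η ≠ 0) (hηc : η ⬝ᵥ c = 0) (hηa : η ⬝ᵥ a = 0) :
    ∃ g ∈ M, η ᵥ* (g : Matrix (Fin 3) (Fin 3) F) = η ∧ g * tv c φ hφc * g⁻¹ = tv a χ hχa := by
  classical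
  haveI := Fintype.ofFinite F
  have tt : ∀ (b ψ : Fin 3 → F) (h0 : ψ ⬝ᵥ b = 0), tv b ψ h0 * tv b ψ h0 = 1 := fun b ψ h0 => Units.ext (by
    rw [Units.val_mul, tv_val, add_mul, one_mul, mul_add, mul_one, Matrix.vecMulVec_mul_vecMulVec, h0, zero_smul,
      Matrix.vecMulVec_zero, add_zero, Units.val_one]
    refine Matrix.ext fun i j => ?_
    simp only [Matrix.add_apply]
    linear_combination (Matrix.vecMulVec b ψ i j) * h2)
  rcases exists_central_or_pow_conj (tt c φ hφc) (tt a χ hχa) with ⟨i, hi⟩ | ⟨z, w, k, hz2, hz1, hxz, htz, -⟩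
  · have hm : (tv c φ hφc * tv a χ hχa) ^ i ∈ M ⊓ fixFun η :=
      pow_mem (mul_mem (Subgroup.mem_inf.2 ⟨hx, tv_mem_fixFun _ hηc⟩) (Subgroup.mem_inf.2 ⟨ht, tv_mem_fixFun _ hηa⟩)) i
    exact ⟨_, hm.1, hm.2, hi⟩
  exfalso
  set Z : Matrix (Fin 3) (Fin 3) F := (z : Matrix (Fin 3) (Fin 3) F) with hZ
  have hZZ : Z * Z = 1 := by rw [hZ, ← Units.val_mul, hz2, Units.val_one]
  have key : ∀ (b ψ y : Fin 3 → F) (h0 : ψ ⬝ᵥ b = 0), tv b ψ h0 * z = z * tv b ψ h0 → b ≠ 0 → ψ ⬝ᵥ y ≠ 0 →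
      Z *ᵥ b = b ∧ ψ ᵥ* Z = ψ := by
    intro b ψ y h0 hc hb hy
    have h1 := congrArg (fun g : GL (Fin 3) F => (g : Matrix (Fin 3) (Fin 3) F)) hc
    simp only [Units.val_mul, tv_val, ← hZ, add_mul, one_mul, mul_add, mul_one, Matrix.vecMulVec_mul,
      Matrix.mul_vecMulVec] at h1
    have h1' := add_left_cancel h1
    obtain ⟨β, hβ⟩ : ∃ β : F, Z *ᵥ b = β • b := by
      refine ⟨(ψ ᵥ* Z) ⬝ᵥ y / ψ ⬝ᵥ y, funext fun l => ?_⟩
      have h3 := congrFun (congrArg (· *ᵥ y) h1') l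
      simp only [Matrix.vecMulVec_mulVec, op_smul_eq_smul, Pi.smul_apply, smul_eq_mul] at h3
      rw [Pi.smul_apply, smul_eq_mul, div_mul_eq_mul_div, eq_div_iff hy]
      linear_combination -h3
    have hβ1 : β = 1 := by
      obtain ⟨l, hl⟩ := Function.ne_iff.1 hb
      have h4 := congrFun (congrArg (Z *ᵥ ·) hβ) l
      simp only [Matrix.mulVec_smul] at h4
      rw [Matrix.mulVec_mulVec, hZZ, Matrix.one_mulVec, Pi.smul_apply, hβ, Pi.smul_apply, smul_eq_mul,
        smul_eq_mul, ← mul_assoc] at h4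
      have h5 : β * β = 1 := mul_right_cancel₀ (show b l ≠ 0 from hl) (by rw [one_mul]; exact h4.symm)
      have h6 : (β - 1) * (β - 1) = 0 := by linear_combination h5 + (1 - β) * h2
      exact sub_eq_zero.1 (mul_self_eq_zero.1 h6)
    rw [hβ1, one_smul] at hβ
    refine ⟨hβ, funext fun j => ?_⟩
    obtain ⟨l, hl⟩ := Function.ne_iff.1 hb
    have h5 := congrFun (congrFun h1' l) j
    rw [hβ, Matrix.vecMulVec_apply, Matrix.vecMulVec_apply] at h5
    exact mul_left_cancel₀ (show b l ≠ 0 from hl) h5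
  have hc0 : c ≠ 0 := fun e => hχc (by rw [e, dotProduct_zero])
  have ha0 : a ≠ 0 := fun e => hφa (by rw [e, dotProduct_zero])
  obtain ⟨hZc, hφZ⟩ := key c φ a hφc hxz hc0 hφa
  obtain ⟨hZa, hχZ⟩ := key a χ c hχa htz ha0 hχc
  obtain ⟨y, hy⟩ := exists_dot_ne_zero hη
  obtain ⟨γ, hγ⟩ : ∃ γ : Fin 3 → F, γ = fun i => (Z - 1) i ⬝ᵥ y / η ⬝ᵥ y := ⟨_, rfl⟩
  have hrow : Z - 1 = Matrix.vecMulVec γ η := by
    refine Matrix.ext fun i j => ?_
    have h3 : (Z - 1) i = γ i • η := by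
      refine ext_three hc0 hηc hηa hy hφc hφa ?_ ?_ ?_
      · rw [smul_dotProduct, hηc, smul_zero]
        show ((Z - 1) *ᵥ c) i = 0
        simp [Matrix.sub_mulVec, hZc]
      · rw [smul_dotProduct, hηa, smul_zero]
        show ((Z - 1) *ᵥ a) i = 0
        simp [Matrix.sub_mulVec, hZa]
      · rw [smul_dotProduct, smul_eq_mul, hγ, div_mul_cancel₀ _ hy]
    rw [h3]; rfl
  have kill : ∀ ψ : Fin 3 → F, ψ ᵥ* Z = ψ → ψ ⬝ᵥ γ = 0 := fun ψ hψ => by
    have h3 := congrArg (ψ ᵥ* ·) hrow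
    simp only [Matrix.vecMul_sub, hψ, Matrix.vecMul_one, sub_self, Matrix.vecMul_vecMulVec] at h3
    exact (smul_eq_zero.1 h3.symm).resolve_right hη
  have hsq : (Z - 1) * (Z - 1) = 0 := by
    rw [sub_mul, mul_sub, mul_sub, hZZ, mul_one, one_mul, one_mul]
    refine Matrix.ext fun i j => ?_
    simp only [Matrix.sub_apply, Matrix.zero_apply]
    linear_combination ((1 : Matrix (Fin 3) (Fin 3) F) i j - Z i j) * h2
  refine hz1 (Units.ext ?_)
  rw [Units.val_one]
  refine sub_eq_zero.1 (hrow.trans ?_)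
  rw [hrow, Matrix.vecMulVec_mul_vecMulVec] at hsq
  by_cases hηγ : η ⬝ᵥ γ = 0
  · have hγ0 : γ = 0 := ext_three (θ := c) (η := a) (a := η) (e := φ) (z := χ) hη
      (by rwa [dotProduct_comm]) (by rwa [dotProduct_comm]) (by rwa [dotProduct_comm]) (by rwa [dotProduct_comm])
      (by rwa [dotProduct_comm]) (by rw [zero_dotProduct, dotProduct_comm, hηγ])
      (by rw [zero_dotProduct, dotProduct_comm, kill φ hφZ]) (by rw [zero_dotProduct, dotProduct_comm, kill χ hχZ])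
    rw [hγ0, Matrix.zero_vecMulVec]
  · rwa [Matrix.vecMulVec_smul, smul_eq_zero, or_iff_right hηγ] at hsq

variable [Fintype F]

/-- A root of a monic quadratic over the field with two elements. -/
theorem mem_of_quadratic {r : ℕ} (hr : r.Prime) (hr2 : r ≠ 2) (hcard : Fintype.card F = Nat.card F₀ ^ r)
    (h2 : Nat.card F₀ = 2) {s u v : F} (hu : u ∈ F₀) (hv : v ∈ F₀) (h : s * s = u + v * s) : s ∈ F₀ := by
  have h01 : ∀ x ∈ F₀, x = 0 ∨ x = 1 := by
    intro x hx
    obtain ⟨y, -, hy⟩ := (Nat.card_eq_two_iff' (0 : F₀)).1 h2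
    rcases eq_or_ne x 0 with h0 | h0
    · exact Or.inl h0
    · have h1 := hy ⟨x, hx⟩ (fun e => h0 (congrArg Subtype.val e))
      have h1' := hy 1 one_ne_zero
      exact Or.inr (congrArg Subtype.val (h1.trans h1'.symm))
  have hchar : (2 : F) = 0 := by
    have h3 := FiniteField.cast_card_eq_zero F
    rw [hcard, h2, Nat.cast_pow] at h3
    simpa using pow_eq_zero_iff (hr.ne_zero) |>.1 h3
  rcases h01 v hv with rfl | rfl
  · exact mem_of_mul_self_mem hr hr2 hcard (by rwa [h, zero_mul, add_zero])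
  have h4 : s ^ 4 = s := by
    rcases h01 u hu with rfl | rfl
    · linear_combination (s * s + s + 1) * h
    · linear_combination (s * s + s + 2) * h + (s + 1) * hchar
  have h5 : ∀ k : ℕ, s ^ (4 ^ k) = s := by
    intro k
    induction k with
    | zero => simp
    | succ k ih => rw [pow_succ, pow_mul, ih, h4]
  obtain ⟨k, hk⟩ := hr.odd_of_ne_two hr2
  have h6 : s * s = s := by
    have h7 := FiniteField.pow_card s
    rw [hcard, h2, hk, pow_succ, pow_mul 2, show (2 : ℕ) ^ 2 = 4 by norm_num, pow_mul, h5] at h7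
    rwa [sq] at h7
  rcases eq_or_ne s 0 with h0 | h0
  · rw [h0]; exact F₀.zero_mem
  · rw [mul_right_cancel₀ h0 (h6.trans (one_mul s).symm)]; exact F₀.one_mem

/-- Every elation is rational. -/
theorem Sub3.elation_rat (h : Sub3 F₀ M) {r : ℕ} (hr : r.Prime) (hcard : Fintype.card F = Nat.card F₀ ^ r)
    (hpair : PairStmt F) {a χ : Fin 3 → F} (hX : Has M a χ) : RatM F₀ (Matrix.vecMulVec a χ) := by
  classical
  by_cases hr2 : r = 2
  · obtain ⟨ψ, hψ, hψ0, hψa⟩ := exists_rat_dot_eq_zero F₀ hcard (by rw [hr2]; decide) a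
    exact h.of_dep hX hψ hψ0 hψa
  by_cases hq : Nat.card F₀ = 2
  · by_contra hcon
    have hA : ∀ ψ : Fin 3 → F, RatV F₀ ψ → ψ ≠ 0 → ψ ⬝ᵥ a ≠ 0 := fun ψ h1 h2 h3 => hcon (h.of_dep hX h1 h2 h3)
    have hB : ∀ c : Fin 3 → F, RatV F₀ c → c ≠ 0 → χ ⬝ᵥ c ≠ 0 := fun c h1 h2 h3 => hcon (h.of_dep' hX h1 h2 h3)
    have hchar : (2 : F) = 0 := by
      have h3 := FiniteField.cast_card_eq_zero F
      rw [hcard, hq, Nat.cast_pow] at h3
      simpa using pow_eq_zero_iff (hr.ne_zero) |>.1 h3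
    let e : Fin 3 → Fin 3 → F := fun i => Pi.single i 1
    have he : ∀ i, RatV F₀ (e i) := fun i => ratV_single i F₀.one_mem
    have he0 : ∀ i, e i ≠ 0 := fun i => by simp [e]
    have ha : ∀ i, a i ≠ 0 := fun i => by simpa [e, single_dotProduct] using hA (e i) (he i) (he0 i)
    have hχ0 : χ ⬝ᵥ e 0 ≠ 0 := hB (e 0) (he 0) (he0 0)
    let η : Fin 3 → F := ![0, a 2, -a 1]
    have hη : η ≠ 0 := fun e' => ha 2 (by simpa [η] using congrFun e' 1)
    have hηc : η ⬝ᵥ e 0 = 0 := by simp [η, e, dotProduct_single]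
    have hηa : η ⬝ᵥ a = 0 := by
      simp [η, dotProduct, Fin.sum_univ_three]; ring
    obtain ⟨hd, hXm⟩ := hX
    have hd1 : e 1 ⬝ᵥ e 0 = 0 := by simp [e]
    have hd2 : e 2 ⬝ᵥ e 0 = 0 := by simp [e]
    obtain ⟨w, hwM, hwη, hw⟩ := conj_of_opposite hchar hd1 hd (has_rat h.mem (he 0) (he 1) hd1).2 hXm
      (by simpa [e, single_dotProduct] using ha 1) hχ0 hη hηc hηa
    obtain ⟨w', hwM', hwη', hw'⟩ := conj_of_opposite hchar hd2 hd (has_rat h.mem (he 0) (he 2) hd2).2 hXm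
      (by simpa [e, single_dotProduct] using ha 2) hχ0 hη hηc hηa
    obtain ⟨g, hg⟩ : ∃ g, g = w'⁻¹ * w := ⟨_, rfl⟩
    have hgM : g ∈ M := hg ▸ mul_mem (inv_mem hwM') hwM
    have hgη : g ∈ fixFun η := hg ▸ (fixFun η).mul_mem ((fixFun η).inv_mem hwη') hwη
    have hgx : g * tv (e 0) (e 1) hd1 * g⁻¹ = tv (e 0) (e 2) hd2 := by
      calc g * tv (e 0) (e 1) hd1 * g⁻¹ = w'⁻¹ * (w * tv (e 0) (e 1) hd1 * w⁻¹) * w' := by rw [hg]; group
        _ = w'⁻¹ * (w' * tv (e 0) (e 2) hd2 * w'⁻¹) * w' := by rw [hw, hw']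
        _ = _ := by group
    obtain ⟨h', hc⟩ := conj_tv g (e 0) (e 1) hd1
    rw [hc] at hgx
    have hE := add_left_cancel (congrArg (fun g : GL (Fin 3) F => (g : Matrix (Fin 3) (Fin 3) F)) hgx)
    set G : Matrix (Fin 3) (Fin 3) F := (g : Matrix (Fin 3) (Fin 3) F) with hG
    set Gi : Matrix (Fin 3) (Fin 3) F := ((g⁻¹ : GL (Fin 3) F) : Matrix (Fin 3) (Fin 3) F) with hGi
    obtain ⟨d, hd'⟩ : ∃ d, d = e 2 ⬝ᵥ G *ᵥ e 1 := ⟨_, rfl⟩
    have hGe : G *ᵥ e 0 = d • e 0 := by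
      have h3 := congrArg (· *ᵥ (G *ᵥ e 1)) hE
      simp only [Matrix.vecMulVec_mulVec, op_smul_eq_smul] at h3
      rw [hG, hGi, dot_vecMul_inv, ← hG, show e 1 ⬝ᵥ e 1 = 1 by simp [e], one_smul, ← hd'] at h3
      exact h3
    have hd0 : d ≠ 0 := fun e' => mulVec_ne_zero g (he0 0) (by rw [← hG, hGe, e', zero_smul])
    have hrow : d • (e 1 ᵥ* Gi) = e 2 := funext fun j => by
      have h3 := congrFun (congrFun hE 0) j
      rw [hGe, Matrix.smul_vecMulVec] at h3
      simpa [e, Matrix.vecMulVec_apply] using h3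
    have h4 := (has_rat h.mem (he 0) (he 2) hd2).conj hgM
    rw [← hG, ← hGi, hGe, Has.smul_iff] at h4
    obtain ⟨ρ, hρd⟩ : ∃ ρ, ρ = d • (e 2 ᵥ* Gi) := ⟨_, rfl⟩
    rw [← hρd] at h4
    have hρ := h.axis_rat h4 (he 0) (he0 0)
    have hρ0 : ρ 0 = 0 := by simpa [e, dotProduct_single] using h4.dot
    obtain ⟨b, hb⟩ : ∃ b, b = Gi *ᵥ a := ⟨_, rfl⟩
    have hb1 : d * b 1 = a 2 := by
      have h5 := congrArg (· ⬝ᵥ a) hrow
      simp only [smul_dotProduct, ← Matrix.dotProduct_mulVec, ← hb] at h5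
      simpa [e, single_dotProduct] using h5
    have hb2 : ρ 1 * a 1 + ρ 2 * a 2 = d * b 2 := by
      have h5 := congrArg (· ⬝ᵥ a) hρd
      simp only [smul_dotProduct, ← Matrix.dotProduct_mulVec, ← hb] at h5
      simp [e, single_dotProduct] at h5
      simpa [dotProduct, Fin.sum_univ_three, hρ0] using h5
    have hbη : a 2 * b 1 = a 1 * b 2 := by
      have h5 : η ⬝ᵥ b = 0 := by
        rw [hb, hGi, Matrix.dotProduct_mulVec]
        rw [show η ᵥ* ((g⁻¹ : GL (Fin 3) F) : Matrix (Fin 3) (Fin 3) F) = η from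
          ((fixFun η).inv_mem hgη)]
        exact hηa
      simp [η, dotProduct, Fin.sum_univ_three] at h5
      linear_combination h5
    have hs : (a 2 / a 1) * (a 2 / a 1) = ρ 1 + ρ 2 * (a 2 / a 1) := by
      have := ha 1
      field_simp
      linear_combination (-(a 1)) * hb2 + d * hbη - (a 2) * hb1
    have hsm := mem_of_quadratic hr hr2 hcard hq (hρ 1) (hρ 2) hs
    refine hA ![0, a 2 / a 1, -1] (fun i => ?_) (fun e' => by simpa using congrFun e' 2) ?_
    · fin_cases i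
      · simp [F₀.zero_mem]
      · simpa using hsm
      · simp [F₀.neg_mem F₀.one_mem]
    · simp [dotProduct, Fin.sum_univ_three, div_mul_cancel₀ _ (ha 1)]
  -- the pair lemma
  have hprod : ∀ c φ : Fin 3 → F, RatV F₀ c → RatV F₀ φ → φ ⬝ᵥ c = 0 → (φ ⬝ᵥ a) * (χ ⬝ᵥ c) ∈ F₀ := by
    intro c φ hc hφ h0
    by_contra hne
    have hz : (φ ⬝ᵥ a) * (χ ⬝ᵥ c) ≠ 0 := fun e => hne (e ▸ F₀.zero_mem)
    have hc0 : c ≠ 0 := fun e => hz (by rw [e, dotProduct_zero, mul_zero])
    have hφ0 : φ ≠ 0 := fun e => hz (by rw [e, zero_dotProduct, zero_mul])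
    have hK : RootField M F₀ c φ :=
      ⟨hc0, hφ0, fun x hx => has_rat h.mem (hc.smul hx) hφ (by rw [dotProduct_smul, h0, smul_zero])⟩
    have hbig := hpair M F₀ c φ a χ hK hX hz hq fun _ e => hne (mem_of_mul_self_mem hr hr2 hcard (by
      rw [← sq, e]; exact F₀.neg_mem F₀.one_mem))
    exact hne (h.root c φ hc hφ hc0 hφ0 _ (hbig.2.2 _ (Subfield.subset_closure (Or.inr rfl))))
  have hoff : ∀ i j, i ≠ j → a i * χ j ∈ F₀ := fun i j hij => by
    simpa [single_dotProduct, dotProduct_single] using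
      hprod (Pi.single j 1) (Pi.single i 1) (ratV_single j F₀.one_mem) (ratV_single i F₀.one_mem) (by simp [hij.symm])
  have hdiff : ∀ i j, a i * χ i - a j * χ j ∈ F₀ := fun i j => by
    rcases eq_or_ne i j with rfl | hij
    · rw [sub_self]; exact F₀.zero_mem
    have h1 := hprod (Pi.single i 1 + Pi.single j 1) (Pi.single i 1 - Pi.single j 1)
      (fun l => F₀.add_mem (ratV_single i F₀.one_mem l) (ratV_single j F₀.one_mem l))
      ((ratV_single i F₀.one_mem).sub (ratV_single j F₀.one_mem))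
      (by simp [hij, hij.symm, dotProduct_add, sub_dotProduct])
    simp only [dotProduct_add, dotProduct_single, sub_dotProduct, single_dotProduct, mul_one, one_mul] at h1
    have h3 := F₀.add_mem (F₀.sub_mem h1 (hoff i j hij)) (hoff j i hij.symm)
    convert h3 using 1
    ring
  intro i j
  rw [Matrix.vecMulVec_apply]
  rcases eq_or_ne i j with rfl | hij
  swap
  · exact hoff i j hij
  have h2F : (2 : F) ∈ F₀ := by exact_mod_cast natCast_mem F₀ 2
  by_cases h2 : (2 : F) = 0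
  · -- the trace
    have hs : ∑ l, (a i * χ i - a l * χ l) = a i * χ i := by
      rw [Finset.sum_sub_distrib, Finset.sum_const, Finset.card_univ, Fintype.card_fin,
        show ∑ l, a l * χ l = 0 by rw [← hX.dot, dotProduct]; exact Finset.sum_congr rfl fun l _ => mul_comm _ _,
        nsmul_eq_mul, Nat.cast_ofNat]
      linear_combination (a i * χ i) * h2
    exact hs ▸ sum_mem fun l _ => hdiff i l
  · obtain ⟨l, hl, -⟩ := exists_ne_two i i
    have hsum : (a i * χ i + a l * χ l) ∈ F₀ := by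
      refine mem_of_mul_self_mem hr hr2 hcard ?_
      have h3 := F₀.add_mem (F₀.mul_mem (hdiff i l) (hdiff i l))
        (F₀.mul_mem (F₀.mul_mem h2F h2F) (F₀.mul_mem (hoff i l hl.symm) (hoff l i hl)))
      convert h3 using 1
      ring
    have h4 := F₀.mul_mem (F₀.inv_mem h2F) (F₀.add_mem (hdiff i l) hsum)
    convert h4 using 1
    field_simp
    ring

/-- An overgroup with rational elations only is rational. -/
theorem rat_of_elations (hmem : ∀ g : GL (Fin 3) F, g ∈ sl3 F → RatUpToScalar F₀ g → g ∈ M)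
    (hel : ∀ a φ : Fin 3 → F, Has M a φ → RatM F₀ (Matrix.vecMulVec a φ)) {g : GL (Fin 3) F} (hg : g ∈ M) :
    RatUpToScalar F₀ g := by
  set G : Matrix (Fin 3) (Fin 3) F := (g : Matrix (Fin 3) (Fin 3) F) with hG
  set Gi : Matrix (Fin 3) (Fin 3) F := ((g⁻¹ : GL (Fin 3) F) : Matrix (Fin 3) (Fin 3) F) with hGi
  have key : ∀ i j, i ≠ j → ∀ k l, G k i * Gi j l ∈ F₀ := fun i j hij k l => by
    have h1 := hel _ _
      ((has_rat hmem (ratV_single i F₀.one_mem) (ratV_single j F₀.one_mem) (by simp [hij.symm])).conj hg) k l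
    simpa [Matrix.vecMulVec_apply, ← hG, ← hGi] using h1
  have row : ∀ j, ∃ l, Gi j l ≠ 0 := fun j => by
    by_contra hcon
    push Not at hcon
    have h2 : (Gi * G) j j = 1 := by rw [hG, hGi, ← Units.val_mul, inv_mul_cancel]; simp
    rw [Matrix.mul_apply] at h2
    simp [hcon] at h2
  obtain ⟨k, hk⟩ : ∃ k, G k 0 ≠ 0 := by
    by_contra hcon
    push Not at hcon
    have h2 : (Gi * G) 0 0 = 1 := by rw [hG, hGi, ← Units.val_mul, inv_mul_cancel]; simp
    rw [Matrix.mul_apply] at h2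
    simp [hcon] at h2
  refine ⟨(G k 0)⁻¹, inv_ne_zero hk, fun i j => ?_⟩
  obtain ⟨m, hm0, hmj⟩ := exists_ne_two 0 j
  obtain ⟨l, hl⟩ := row m
  have h3 := F₀.mul_mem (key j m hmj.symm i l) (F₀.inv_mem (key 0 m hm0.symm k l))
  rw [Matrix.smul_apply, smul_eq_mul, ← hG]
  convert h3 using 1
  field_simp

/-- An overgroup with a larger root group at a rational flag is everything. -/
theorem sl3_le_of_big_root {r : ℕ} (hr : r.Prime) (hcard : Fintype.card F = Nat.card F₀ ^ r)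
    (hmem : ∀ g : GL (Fin 3) F, g ∈ sl3 F → RatUpToScalar F₀ g → g ∈ M) {c φ : Fin 3 → F} (hc : RatV F₀ c)
    (hφ : RatV F₀ φ) (hc0 : c ≠ 0) (hφ0 : φ ≠ 0) {μ : F} (hμ : μ ∉ F₀) (hX : Has M (μ • c) φ) : sl3 F ≤ M := by
  classical
  -- move the weight to a coordinate flag
  obtain ⟨i, j, hij, ν, hν, hH⟩ : ∃ i j : Fin 3, i ≠ j ∧ ∃ ν : F, ν ∉ F₀ ∧
      Has M (Pi.single i ν) (Pi.single j 1) := by
    obtain ⟨j, hj⟩ := Function.ne_iff.1 hφ0
    have hj' : φ j ≠ 0 := hj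
    obtain ⟨ψ, hψ, hψ0, hψc, hψj⟩ := exists_rat_ann hc (ratV_single j F₀.one_mem)
    have h1 := hX.comm_left (has_rat hmem (ratV_single j F₀.one_mem) hψ hψj)
      (by rw [dotProduct_smul, hψc, smul_zero])
    rw [dotProduct_single, mul_one, smul_smul] at h1
    obtain ⟨l, hlj, hl⟩ : ∃ l, l ≠ j ∧ c l ≠ 0 := by
      by_contra hcon
      push Not at hcon
      have h0 : φ ⬝ᵥ c = 0 := by
        rcases eq_or_ne μ 0 with hμ0 | hμ0
        · exact absurd F₀.zero_mem (hμ0 ▸ hμ)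
        · simpa [dotProduct_smul, hμ0] using hX.dot
      rw [dotProduct, Finset.sum_eq_single j (fun b _ hb => by rw [hcon b hb, mul_zero]) (by simp)] at h0
      rcases mul_eq_zero.1 h0 with h3 | h3
      · exact hj' h3
      · exact hc0 (funext fun x => by
          rcases eq_or_ne x j with rfl | hx
          · exact h3
          · exact hcon x hx)
    have h2 := h1.comm_right (has_rat hmem (ratV_single j F₀.one_mem) (ratV_single l F₀.one_mem) (by simp [hlj]))
      hψj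
    rw [dotProduct_smul, single_dotProduct, one_mul, smul_eq_mul] at h2
    obtain ⟨i, hi⟩ := Function.ne_iff.1 hψ0
    have hi' : ψ i ≠ 0 := hi
    obtain ⟨k, hkj, hki⟩ := exists_ne_two j i
    have h3 := h2.comm_left (has_rat hmem (ratV_single i F₀.one_mem) (ratV_single k F₀.one_mem) (by simp [hki]))
      (by simp [hkj])
    rw [smul_dotProduct, dotProduct_single, mul_one, smul_eq_mul, ← Pi.single_smul', smul_eq_mul, mul_one] at h3
    refine ⟨j, k, hkj.symm, _, fun hmem' => hμ ?_, h3⟩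
    have h4 := F₀.mul_mem hmem' (F₀.inv_mem (F₀.mul_mem (F₀.mul_mem (hφ j) (hc l)) (hψ i)))
    convert h4 using 1
    field_simp
  let R : Fin 3 → Fin 3 → F → Prop := fun a b x => Has M (Pi.single a x) (Pi.single b 1)
  have base : ∀ {a b : Fin 3}, a ≠ b → ∀ {x : F}, x ∈ F₀ → R a b x := fun {a b} hab {x} hx =>
    has_rat hmem (ratV_single a hx) (ratV_single b F₀.one_mem) (by simp [hab.symm])
  have comm : ∀ {a b c : Fin 3}, a ≠ c → ∀ {x y : F}, R a b x → R b c y → R a c (y * x) := by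
    intro a b c hac x y h1 h2
    have h3 := Has.comm_left h1 h2 (by simp [hac.symm])
    rw [single_dotProduct, Pi.single_eq_same, one_mul, ← Pi.single_smul', smul_eq_mul] at h3
    exact h3
  have right : ∀ {a b c : Fin 3}, a ≠ c → ∀ {x}, R a b x → R a c x := fun {a b c} hac {x} h1 => by
    rcases eq_or_ne b c with rfl | hbc
    · exact h1
    · have := comm hac h1 (base hbc F₀.one_mem); rwa [one_mul] at this
  have left : ∀ {a b c : Fin 3}, c ≠ b → ∀ {x}, R a b x → R c b x := fun {a b c} hcb {x} h1 => by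
    rcases eq_or_ne c a with rfl | hca
    · exact h1
    · have := comm hcb (base hca F₀.one_mem) h1; rwa [mul_one] at this
  have move : ∀ {a b c d : Fin 3}, a ≠ b → c ≠ d → ∀ {x}, R a b x → R c d x := by
    intro a b c d hab hcd x h1
    obtain ⟨p, hpa, hpc⟩ := exists_ne_two a c
    exact right hcd (left hpc.symm (right hpa.symm h1))
  have hmul : ∀ {x y}, R i j x → R i j y → R i j (x * y) := fun {x y} h1 h2 => by
    obtain ⟨p, hpi, hpj⟩ := exists_ne_two i j
    exact comm hij (move hij hpi.symm h2) (move hij hpj h1)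
  let A : Subalgebra F₀ F :=
    { carrier := {x | R i j x}
      one_mem' := base hij F₀.one_mem
      zero_mem' := base hij F₀.zero_mem
      add_mem' := fun {x y} h1 h2 => by
        show R i j (x + y)
        have := Has.add_left h1 h2
        rwa [← Pi.single_add] at this
      mul_mem' := hmul
      algebraMap_mem' := fun x => base hij x.2 }
  have hfr : Module.finrank F₀ F = r := by
    have h1 := Module.card_eq_pow_finrank (K := F₀) (V := F)
    rw [hcard, Nat.card_eq_fintype_card] at h1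
    exact (Nat.pow_right_injective Fintype.one_lt_card h1).symm
  haveI := Subalgebra.isSimpleOrder_of_finrank_prime F₀ F (hfr ▸ hr)
  rcases eq_bot_or_eq_top A with hA | hA
  · exfalso
    have h1 : ν ∈ (⊥ : Subalgebra F₀ F) := hA ▸ (show ν ∈ A from hH)
    obtain ⟨x, hx⟩ := Algebra.mem_bot.1 h1
    exact hν (hx ▸ x.2)
  · refine specialLinear_le_of_elemAt M fun a b hab x => move hij hab ?_
    exact (show x ∈ A from hA ▸ Algebra.mem_top)

end CfsgLib.Dim3Max.LinSub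

namespace CfsgLib.Dim3Max

open scoped Matrix MatrixGroups
open CfsgLib.Maximal

universe u

variable {F : Type u} [Field F] [Fintype F]

/-- S5774, row 4. -/
theorem linSubfieldRow : LinSubfieldRow F := by
  intro F₀ r P hr hcard
  classical
  haveI hn : (sl3 F).Normal := MonoidHom.normal_ker _
  have hconj : ∀ {g : GL (Fin 3) F}, g ∈ sl3 F → P * g * P⁻¹ ∈ sl3 F := fun {g} hg => hn.conj_mem g hg P
  have hconj' : ∀ {g : GL (Fin 3) F}, g ∈ sl3 F → P⁻¹ * g * P ∈ sl3 F := fun {g} hg => hn.conj_mem' g hg P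
  refine ⟨lt_of_le_of_ne inf_le_right fun heq => ?_, fun M hSM hMK => ?_⟩
  · obtain ⟨μ, hμ⟩ := exists_notMem_subfield hr hcard
    have hd : (Pi.single 1 1 : Fin 3 → F) ⬝ᵥ Pi.single 0 μ = 0 := by simp
    have h1 : P * tv _ _ hd * P⁻¹ ∈ Cfsg.Geo.subfieldSubgroup F₀ P ⊓ sl3 F :=
      (SetLike.ext_iff.1 heq _).2 (hconj (tv_mem_specialLinear _ _ hd))
    obtain ⟨c, hc, hrat⟩ := (mem_subfieldSubgroup_iff P _).1 h1.1
    rw [show P⁻¹ * (P * tv _ _ hd * P⁻¹) * P = tv _ _ hd by group, tv_val] at hrat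
    have hii := hrat 0 0
    have hij := hrat 0 1
    simp [Matrix.vecMulVec_apply] at hii hij
    exact hμ (by
      have h2 := F₀.mul_mem (F₀.inv_mem hii) hij
      rwa [← mul_assoc, inv_mul_cancel₀ hc, one_mul] at h2)
  let H : Subgroup (GL (Fin 3) F) := M.map (MulAut.conj P⁻¹).toMonoidHom
  have memH : ∀ g, g ∈ H ↔ P * g * P⁻¹ ∈ M := fun g => by
    constructor
    · rintro ⟨x, hx, rfl⟩
      simpa [MulAut.conj_apply, mul_assoc] using hx
    · intro hg; exact ⟨_, hg, by simp [MulAut.conj_apply, mul_assoc]⟩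
  have hmem : ∀ g : GL (Fin 3) F, g ∈ sl3 F → RatUpToScalar F₀ g → g ∈ H := fun g hg hrat =>
    (memH g).2 (hSM ⟨(mem_subfieldSubgroup_iff P _).2 (by
      rwa [show P⁻¹ * (P * g * P⁻¹) * P = g by group]), hconj hg⟩)
  by_cases hroot : ∀ c φ : Fin 3 → F, RatV F₀ c → RatV F₀ φ → c ≠ 0 → φ ≠ 0 → ∀ μ : F,
      Has H (μ • c) φ → μ ∈ F₀
  · refine Or.inl (le_antisymm (fun g hg => ⟨(mem_subfieldSubgroup_iff P g).2 ?_, hMK hg⟩) hSM)
    refine LinSub.rat_of_elations hmem (fun a φ h => ?_) ((memH _).2 (by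
      rwa [show P * (P⁻¹ * g * P) * P⁻¹ = g by group]))
    exact LinSub.Sub3.elation_rat ⟨hmem, hroot⟩ hr hcard pairStmt h
  · push Not at hroot
    obtain ⟨c, φ, hc, hφ, hc0, hφ0, μ, hX, hμ⟩ := hroot
    refine Or.inr (le_antisymm hMK fun g hg => ?_)
    have := (memH (P⁻¹ * g * P)).1 (LinSub.sl3_le_of_big_root hr hcard hmem hc hφ hc0 hφ0 hμ hX (hconj' hg))
    rwa [show P * (P⁻¹ * g * P) * P⁻¹ = g by group] at this

end CfsgLib.Dim3Max
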