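import Cfsg.Agent.Lib.Dim3Max.LinRoot
import Cfsg.Agent.Lib.Maximal.HermTv
import Cfsg.Agent.Lib.Maximal.UnSimFour

/-!
The similitudes of a ternary unitary form form a maximal subgroup of `SL₃`.

An overgroup contains the unitary elations. Either all its elations have an isotropic centre and the polar
axis, and then it preserves the form up to a factor, or some elation gives a full root group.
-/

set_option autoImplicit false
set_option linter.unusedSectionVars false

namespace CfsgLib.Dim3Max.Herm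

open scoped Matrix
open CfsgLib.Maximal CfsgLib.Maximal.UnFour

universe u

variable {F : Type u} [Field F] [Fintype F] {σ : F ≃+* F} {f : (Fin 3 → F) → (Fin 3 → F) → F}
  {M : Subgroup (GL (Fin 3) F)}

variable (hf : Cfsg.Geo.IsUnitaryForm σ f)
include hf

theorem sub_left (u v w : Fin 3 → F) : f (u - v) w = f u w - f v w := by
  rw [sub_eq_add_neg, hf.add_left, ← neg_one_smul F v, hf.smul_left]
  ring

theorem exists_perp (v : Fin 2 → Fin 3 → F) : ∃ z, z ≠ 0 ∧ ∀ i, f z (v i) = 0 := by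
  let L : (Fin 3 → F) →ₗ[F] (Fin 2 → F) :=
    LinearMap.pi fun i =>
      { toFun := fun z => f z (v i)
        map_add' := fun a b => hf.add_left a b _
        map_smul' := fun c a => hf.smul_left c a _ }
  have hne : LinearMap.ker L ≠ ⊥ := LinearMap.ker_ne_bot_of_finrank_lt (by simp)
  obtain ⟨z, hz, hz0⟩ := (Submodule.ne_bot_iff _).1 hne
  exact ⟨z, hz0, fun i => congrFun (LinearMap.mem_ker.1 hz) i⟩

theorem norm_exists {a b : Fin 3 → F} (ha : f a a ≠ 0) (hb : f b b ≠ 0) (hab : f b a = 0) :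
    ∃ k : F, k ≠ 0 ∧ f (b + k • a) (b + k • a) = 0 := by
  have hσ : (σ : F →+* F) ≠ RingHom.id F := fun h => hf.ne_refl (RingEquiv.ext fun a => RingHom.congr_fun h a)
  obtain ⟨k, hk⟩ := CfsgLib.Geometry.exists_norm_eq (σ := (σ : F →+* F)) hσ (fun a => hf.involutive a)
    (c := -f b b / f a a) (by
      show σ (-f b b / f a a) = _
      rw [map_div₀, map_neg, fix_self hf, fix_self hf])
  change k * σ k = _ at hk
  refine ⟨k, fun h0 => ?_, ?_⟩
  · rw [h0, zero_mul] at hk
    exact div_ne_zero (neg_ne_zero.2 hb) ha hk.symm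
  · simp only [hf.add_left, un_add_right hf, hf.smul_left, un_smul_right hf, hab, rev_zero hf hab]
    have hk2 : k * σ k * f a a = -f b b := by rw [hk, div_mul_cancel₀ _ ha]
    linear_combination hk2

/-- A vector orthogonal to a frame is zero. -/
theorem eq_zero_of_frame {v : Fin 3 → Fin 3 → F} (M' : Fin 3 → Fin 3 → F)
    (h : ∀ i j, f (M' i) (v j) = if i = j then 1 else 0) {x : Fin 3 → F} (hx : ∀ i, f x (v i) = 0) : x = 0 := by
  let L : (Fin 3 → F) →ₗ[F] (Fin 3 → F) :=
    LinearMap.pi fun i =>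
      { toFun := fun z => f z (v i)
        map_add' := fun a b => hf.add_left a b _
        map_smul' := fun c a => hf.smul_left c a _ }
  have hsur : Function.Surjective L := fun t => by
    refine ⟨∑ i, t i • M' i, funext fun j => ?_⟩
    show f (∑ i, t i • M' i) (v j) = t j
    rw [un_sum_left hf, Finset.sum_congr rfl fun i _ => by rw [hf.smul_left, h i j]]
    simp
  exact LinearMap.injective_iff_surjective.2 hsur ((funext fun i => hx i).trans (map_zero L).symm)

/-- A frame with two isotropic vectors and an anisotropic one. -/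
structure Frame (c g w : Fin 3 → F) : Prop where
  cc : f c c = 0
  gg : f g g = 0
  gc : f g c = 1
  wc : f w c = 0
  wg : f w g = 0
  ww : f w w ≠ 0

theorem frame_zero {c g w x : Fin 3 → F} (h : Frame (f := f) c g w) (h1 : f x c = 0) (h2 : f x g = 0)
    (h3 : f x w = 0) : x = 0 := by
  refine eq_zero_of_frame hf (v := ![c, g, w]) ![g, c, (f w w)⁻¹ • w] (fun i j => ?_) (fun i => ?_)
  · fin_cases i <;> fin_cases j <;>
      simp [h.cc, h.gg, h.gc, h.wc, h.wg, rev_one hf h.gc, rev_zero hf h.wc, rev_zero hf h.wg, hf.smul_left, h.ww]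
  · fin_cases i <;> assumption

theorem frame_expand {c g w : Fin 3 → F} (h : Frame (f := f) c g w) (x : Fin 3 → F) :
    x = f x g • c + f x c • g + (f x w / f w w) • w := by
  refine sub_eq_zero.1 (frame_zero hf h ?_ ?_ ?_) <;>
    simp [sub_left hf, hf.add_left, hf.smul_left, h.cc, h.gg, h.gc, h.wc, h.wg, rev_one hf h.gc,
      rev_zero hf h.wc, rev_zero hf h.wg, h.ww]

/-- Every isotropic vector lies in a frame. -/
theorem exists_frame {c : Fin 3 → F} (hc0 : c ≠ 0) (hc : f c c = 0) : ∃ g w, Frame (f := f) c g w := by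
  obtain ⟨y, -, hyc⟩ := un_eval₀ hf (fun _ : Empty => (0 : Fin 3 → F)) (x := c) (by simp [Set.range_eq_empty, hc0])
  obtain ⟨γ, hγ⟩ := exists_tr_eq hf (b := -f y y) (by rw [map_neg, fix_self hf])
  have hcy : f c y = 1 := rev_one hf hyc
  set g := y + γ • c with hg
  have hgg : f g g = 0 := by
    simp only [hg, hf.add_left, un_add_right hf, hf.smul_left, un_smul_right hf, hc, hcy, hyc]
    linear_combination hγ
  have hgc : f g c = 1 := by rw [hg, hf.add_left, hf.smul_left, hc, hyc]; ring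
  obtain ⟨w, hw0, hw⟩ := exists_perp hf ![c, g]
  have hwc : f w c = 0 := hw 0
  have hwg : f w g = 0 := hw 1
  refine ⟨g, w, hc, hgg, hgc, hwc, hwg, fun hww => hw0 (eq_zero_of hf fun x => ?_)⟩
  have hli : LinearIndependent F ![c, g, w] := by
    rw [Fintype.linearIndependent_iff]
    intro k hk i
    simp only [Fin.sum_univ_three, Matrix.cons_val_zero, Matrix.cons_val_one, Matrix.cons_val] at hk
    have k0 := congrArg (fun v => f v g) hk
    have k1 := congrArg (fun v => f v c) hk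
    simp only [hf.add_left, hf.smul_left, hc, hgc, hgg, rev_one hf hgc, hwc, hwg, un_zero_left hf, mul_zero,
      mul_one, add_zero, zero_add] at k0 k1
    rw [k0, k1, zero_smul, zero_smul, zero_add, zero_add, smul_eq_zero] at hk
    fin_cases i
    · exact k0
    · exact k1
    · exact hk.resolve_right hw0
  have hx : x ∈ Submodule.span F (Set.range ![c, g, w]) := by
    rw [hli.span_eq_top_of_card_eq_finrank (by simp)]; exact Submodule.mem_top
  induction hx using Submodule.span_induction with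
  | mem z hz =>
    obtain ⟨i, rfl⟩ := hz
    fin_cases i
    · exact rev_zero hf hwc
    · exact rev_zero hf hwg
    · exact hww
  | zero => exact un_zero_left hf w
  | add a b _ _ ha hb => rw [hf.add_left, ha, hb, add_zero]
  | smul t a _ ha => rw [hf.smul_left, ha, mul_zero]

theorem exists_iso : ∃ c : Fin 3 → F, c ≠ 0 ∧ f c c = 0 := by
  by_cases h : ∃ y : Fin 3 → F, y ≠ 0 ∧ f y y = 0
  · exact h
  push Not at h
  have hone : (Pi.single 0 1 : Fin 3 → F) ≠ 0 := fun h0 => by simpa using congrFun h0 0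
  set a : Fin 3 → F := Pi.single 0 1
  obtain ⟨b, hb0, hb⟩ := exists_perp hf ![a, a]
  have hba : f b a = 0 := hb 0
  obtain ⟨k, -, hk⟩ := norm_exists hf (h a hone) (h b hb0) hba
  refine absurd hk (h _ fun h0 => h b hb0 ?_)
  have h1 := congrArg (fun v => f v b) h0
  simpa [hf.add_left, hf.smul_left, rev_zero hf hba, un_zero_left hf] using h1

theorem frame_third {c g w : Fin 3 → F} (h : Frame (f := f) c g w) :
    ∃ γ : F, γ ≠ 0 ∧ γ + σ γ = -f w w ∧ f (g + w + γ • c) (g + w + γ • c) = 0 := by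
  obtain ⟨γ, hγ⟩ := exists_tr_eq hf (b := -f w w) (by rw [map_neg, fix_self hf])
  refine ⟨γ, fun h0 => h.ww ?_, hγ, ?_⟩
  · simpa [h0] using hγ.symm
  · simp only [hf.add_left, un_add_right hf, hf.smul_left, un_smul_right hf, h.cc, h.gg, h.gc, h.wc, h.wg,
      rev_one hf h.gc, rev_zero hf h.wc, rev_zero hf h.wg]
    linear_combination hγ

theorem exists_iso_dot {x : Fin 3 → F} (hx : x ≠ 0) : ∃ e, f e e = 0 ∧ f x e ≠ 0 := by
  obtain ⟨c, hc0, hc⟩ := exists_iso hf
  obtain ⟨g, w, h⟩ := exists_frame hf hc0 hc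
  by_cases h1 : f x c = 0
  · by_cases h2 : f x g = 0
    · obtain ⟨γ, -, -, hiso⟩ := frame_third hf h
      refine ⟨_, hiso, fun h3 => hx (frame_zero hf h h1 h2 ?_)⟩
      simpa [un_add_right hf, un_smul_right hf, h1, h2] using h3
    · exact ⟨g, h.gg, h2⟩
  · exact ⟨c, hc, h1⟩

variable (hHM : Cfsg.Geo.similarityGroup f ⊓ sl3 F ≤ M)
include hHM

theorem has_utv {a : Fin 3 → F} (ha : f a a = 0) {k : F} (hk : σ k = -k) : Has M (k • a) (fvec f a) :=
  ⟨un_tv_dot hf ha k, hHM ⟨⟨1, fun u v => by rw [un_tv_isometry hf ha hk, Units.val_one, one_mul]⟩,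
    tv_mem_specialLinear _ _ _⟩⟩

theorem siegel_mem {d w : Fin 3 → F} (hd : f d d = 0) (hwd : f w d = 0) {c : F} (hc : c + σ c + f w w = 0) :
    unSiegel hf hd hwd c ∈ M :=
  hHM ⟨⟨1, fun u v => by rw [unSiegel_isometry hf hd hwd hc, Units.val_one, one_mul]⟩,
    unSiegel_mem_SL hf hd hwd c⟩

omit hHM in
theorem fvec_conj {g : GL (Fin 3) F}
    (hg : ∀ u v, f ((g : Matrix (Fin 3) (Fin 3) F) *ᵥ u) ((g : Matrix (Fin 3) (Fin 3) F) *ᵥ v) = f u v)
    (d : Fin 3 → F) :
    fvec f d ᵥ* ((g⁻¹ : GL (Fin 3) F) : Matrix (Fin 3) (Fin 3) F) =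
      fvec f ((g : Matrix (Fin 3) (Fin 3) F) *ᵥ d) := by
  refine dot_ext fun y => ?_
  obtain ⟨x, rfl⟩ := mulVec_surj g y
  simp only []
  rw [dot_vecMul_inv, un_dot hf, un_dot hf, hg]

theorem irr : Irr M := by
  intro W hW
  by_contra hne
  push Not at hne
  obtain ⟨hbot, htop⟩ := hne
  obtain ⟨k, hk0, hk⟩ := un_skew_exists hf
  have step : ∀ x ∈ W, ∀ e, f e e = 0 → f x e ≠ 0 → e ∈ W := fun x hx e he hxe => by
    obtain ⟨h0, hm⟩ := has_utv hf hHM he hk
    have h1 : (tv (k • e) (fvec f e) h0 : Matrix (Fin 3) (Fin 3) F) *ᵥ x ∈ W :=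
      hW _ ⟨_, hm, rfl⟩ ⟨x, hx, Matrix.toLin'_apply _ _⟩
    rw [tv_mulVec, un_dot hf, W.add_mem_iff_right hx, smul_smul] at h1
    exact (W.smul_mem_iff (mul_ne_zero hxe hk0)).1 h1
  obtain ⟨x, hx, hx0⟩ := W.ne_bot_iff.1 hbot
  obtain ⟨c, hc, hxc⟩ := exists_iso_dot hf hx0
  have hcW := step x hx c hc hxc
  obtain ⟨g, w, h⟩ := exists_frame hf (fun h0 => hxc (by rw [h0, un_zero_right hf])) hc
  have hgW := step c hcW g h.gg (by rw [rev_one hf h.gc]; exact one_ne_zero)
  obtain ⟨γ, -, -, hiso⟩ := frame_third hf h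
  have he : g + w + γ • c ∈ W := step c hcW _ hiso (by
    simp [un_add_right hf, un_smul_right hf, h.cc, rev_one hf h.gc, rev_zero hf h.wc])
  have hwW : w ∈ W := by
    have := W.sub_mem (W.sub_mem he hgW) (W.smul_mem γ hcW)
    convert this using 1
    abel
  refine htop (eq_top_iff.2 fun z _ => ?_)
  rw [frame_expand hf h z]
  exact W.add_mem (W.add_mem (W.smul_mem _ hcW) (W.smul_mem _ hgW)) (W.smul_mem _ hwW)

/-- An isotropic centre with an axis other than the polar one. -/
theorem fullRoot_centre {a d : Fin 3 → F} (ha0 : a ≠ 0) (ha : f a a = 0) (hd : d ∉ Submodule.span F {a})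
    (had : Has M a (fvec f d)) : ∃ c φ, FullRoot M c φ := by
  obtain ⟨g, w, h⟩ := exists_frame hf ha0 ha
  have hda : f d a = 0 := rev_zero hf (by rw [← un_dot hf]; exact had.dot)
  have hdw : f d w ≠ 0 := fun h0 => hd (Submodule.mem_span_singleton.2 ⟨f d g, by
    have := frame_expand hf h d
    rwa [hda, h0, zero_smul, zero_div, zero_smul, add_zero, add_zero, eq_comm] at this⟩)
  refine ⟨a, fvec f a, ha0, fun h0 => ha0 (un_fvec_injective hf (h0.trans (un_fvec_zero hf).symm)), fun x => ?_⟩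
  -- the parameter of the Siegel element
  set s := σ (-(σ x) / f d w) with hs
  obtain ⟨γ, hγ⟩ := exists_tr_eq hf (b := -f (s • w) (s • w)) (by rw [map_neg, fix_self hf])
  have hwa : f (s • w) a = 0 := by rw [hf.smul_left, h.wc, mul_zero]
  have hc : γ + σ γ + f (s • w) (s • w) = 0 := by rw [hγ, neg_add_cancel]
  have h1 := had.conj (siegel_mem hf hHM ha hwa hc)
  rw [fvec_conj hf (unSiegel_isometry hf ha hwa hc), unSiegel_mulVec, unSiegel_mulVec, ha,
    rev_zero hf hwa, hda, un_smul_right hf, hs, hf.involutive] at h1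
  simp only [mul_zero, sub_zero, zero_smul, add_zero, zero_sub] at h1
  have h2 := h1.add_right had.neg'
  rw [div_mul_cancel₀ _ hdw, neg_neg, un_fvec_add hf, add_neg_cancel_comm, un_fvec_smul hf, hf.involutive,
    ← Has.smul_iff] at h2
  exact h2

/-- A tangent axis with an anisotropic centre. -/
theorem fullRoot_axis {a d : Fin 3 → F} (hd0 : d ≠ 0) (hd : f d d = 0) (ha : f a a ≠ 0)
    (had : Has M a (fvec f d)) : ∃ c φ, FullRoot M c φ := by
  obtain ⟨g, w, h⟩ := exists_frame hf hd0 hd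
  have had0 : f a d = 0 := by rw [← un_dot hf]; exact had.dot
  have haw : f a w ≠ 0 := fun h0 => ha (by
    have := frame_expand hf h a
    rw [had0, h0, zero_smul, zero_div, zero_smul, add_zero, add_zero] at this
    rw [this, hf.smul_left, un_smul_right hf, hd, mul_zero, mul_zero])
  refine ⟨d, fvec f d, hd0, fun h0 => hd0 (un_fvec_injective hf (h0.trans (un_fvec_zero hf).symm)), fun x => ?_⟩
  set s := σ (-x / f a w) with hs
  obtain ⟨γ, hγ⟩ := exists_tr_eq hf (b := -f (s • w) (s • w)) (by rw [map_neg, fix_self hf])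
  have hwd : f (s • w) d = 0 := by rw [hf.smul_left, h.wc, mul_zero]
  have hc : γ + σ γ + f (s • w) (s • w) = 0 := by rw [hγ, neg_add_cancel]
  have h1 := had.conj (siegel_mem hf hHM hd hwd hc)
  rw [fvec_conj hf (unSiegel_isometry hf hd hwd hc), unSiegel_mulVec, unSiegel_mulVec, hd,
    rev_zero hf hwd, had0, un_smul_right hf, hs, hf.involutive] at h1
  simp only [mul_zero, sub_zero, zero_smul, add_zero, zero_sub] at h1
  have h2 := h1.add_left had.neg
  rwa [div_mul_cancel₀ _ haw, neg_neg, add_neg_cancel_comm] at h2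

/-- An elation which is not unitary gives a full root group. -/
theorem fullRoot_of_elation {a φ : Fin 3 → F} (ha0 : a ≠ 0) (hφ : φ ≠ 0) (h : Has M a φ)
    (hbad : f a a = 0 → ∃ x, f x a = 0 ∧ φ ⬝ᵥ x ≠ 0) : ∃ c ψ, FullRoot M c ψ := by
  obtain ⟨d, rfl⟩ := un_fvec_surj hf φ
  have hd0 : d ≠ 0 := fun h0 => hφ (by rw [h0, un_fvec_zero hf])
  have had : f a d = 0 := by rw [← un_dot hf]; exact h.dot
  by_cases ha : f a a = 0
  · obtain ⟨x, hx, hxd⟩ := hbad ha
    refine fullRoot_centre hf hHM ha0 ha (fun hm => hxd ?_) h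
    obtain ⟨t, rfl⟩ := Submodule.mem_span_singleton.1 hm
    rw [un_dot hf, un_smul_right hf, hx, mul_zero]
  by_cases hd : f d d = 0
  · exact fullRoot_axis hf hHM hd0 hd ha h
  -- an isotropic point of the axis
  obtain ⟨b, hb0, hb⟩ := exists_perp hf ![a, d]
  have hba : f b a = 0 := hb 0
  have hbd : f b d = 0 := hb 1
  have hbb : f b b ≠ 0 := fun h0 => hb0 (by
    refine eq_zero_of hf fun z => ?_
    obtain ⟨g, w, hfr⟩ := exists_frame hf hb0 h0
    have e1 := frame_expand hf hfr a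
    rw [rev_zero hf hba, zero_smul, add_zero] at e1
    have e2 := frame_expand hf hfr d
    rw [rev_zero hf hbd, zero_smul, add_zero] at e2
    have e3 : f a d = f a w * σ (f d w) / f w w := by
      rw [e1, e2]
      simp only [hf.add_left, un_add_right hf, hf.smul_left, un_smul_right hf, h0, hfr.wc, rev_zero hf hfr.wc,
        map_div₀, fix_self hf, hfr.cc, rev_zero hf hfr.wg, hfr.wg]
      field_simp [hfr.ww]
      ring
    rw [had, eq_comm, div_eq_zero_iff, mul_eq_zero] at e3
    rcases e3 with (e | e) | e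
    · exact absurd (by rw [e1, e, zero_div, zero_smul, add_zero, hf.smul_left, un_smul_right hf, h0]; ring) ha
    · rw [map_eq_zero] at e
      exact absurd (by rw [e2, e, zero_div, zero_smul, add_zero, hf.smul_left, un_smul_right hf, h0]; ring) hd
    · exact absurd e hfr.ww)
  obtain ⟨k, hk0, hk⟩ := norm_exists hf ha hbb hba
  set c := b + k • a with hc
  have hcd : f c d = 0 := by rw [hc, hf.add_left, hf.smul_left, hbd, had, mul_zero, add_zero]
  have hca : f c a = k * f a a := by rw [hc, hf.add_left, hf.smul_left, hba, zero_add]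
  have hac : f a c ≠ 0 := fun h0 => mul_ne_zero hk0 ha (hca.symm.trans (rev_zero hf h0))
  obtain ⟨l, hl0, hl⟩ := un_skew_exists hf
  have h1 := h.comm_right (has_utv hf hHM hk hl) (by rw [un_dot hf, hf.smul_left, hcd, mul_zero])
  rw [un_dot hf, show f a c • fvec f d = fvec f (σ (f a c) • d) by rw [un_fvec_smul hf, hf.involutive]] at h1
  refine fullRoot_centre hf hHM (smul_ne_zero hl0 fun h0 => hac (by rw [h0, un_zero_right hf]))
    (by rw [hf.smul_left, un_smul_right hf, hk, mul_zero, mul_zero]) (fun hm => ?_) h1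
  obtain ⟨t, ht⟩ := Submodule.mem_span_singleton.1 hm
  have hd' : f (σ (f a c) • d) (σ (f a c) • d) = 0 := by
    rw [← ht]
    simp only [hf.smul_left, un_smul_right hf, hk, mul_zero]
  rw [hf.smul_left, un_smul_right hf] at hd'
  simp [hac, hd] at hd'

/-- If all elations are unitary then the form is preserved up to a factor. -/
theorem mem_of_unitary_elations
    (hA : ∀ a φ : Fin 3 → F, a ≠ 0 → φ ≠ 0 → Has M a φ → f a a = 0 ∧ ∀ x, f x a = 0 → φ ⬝ᵥ x = 0)
    {g : GL (Fin 3) F} (hg : g ∈ M) : g ∈ Cfsg.Geo.similarityGroup f := by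
  set G : Matrix (Fin 3) (Fin 3) F := (g : Matrix (Fin 3) (Fin 3) F) with hG
  obtain ⟨k, hk0, hk⟩ := un_skew_exists hf
  have key : ∀ c, c ≠ 0 → f c c = 0 → ∃ t : F, ∀ x, f x c = t * f (G *ᵥ x) (G *ᵥ c) := by
    intro c hc0 hc
    have h1 := (has_utv hf hHM hc hk).conj hg
    rw [Matrix.mulVec_smul] at h1
    have hGc : k • (G *ᵥ c) ≠ 0 := smul_ne_zero hk0 (mulVec_ne_zero g hc0)
    obtain ⟨hiso, hker⟩ := hA _ _ hGc (vecMul_inv_ne_zero g fun h0 =>
      hc0 (un_fvec_injective hf (h0.trans (un_fvec_zero hf).symm))) h1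
    obtain ⟨y, -, hy⟩ := un_eval₀ hf (fun _ : Empty => (0 : Fin 3 → F)) (x := G *ᵥ c)
      (by simpa [Set.range_eq_empty] using mulVec_ne_zero g hc0)
    refine ⟨(fvec f c ᵥ* ((g⁻¹ : GL (Fin 3) F) : Matrix (Fin 3) (Fin 3) F)) ⬝ᵥ y, fun x => ?_⟩
    have h2 := hker (G *ᵥ x - f (G *ᵥ x) (G *ᵥ c) • y) (by
      rw [un_smul_right hf, sub_left hf, hf.smul_left, hy, mul_one, sub_self, mul_zero])
    rw [dotProduct_sub, dotProduct_smul, dot_vecMul_inv, un_dot hf, sub_eq_zero, smul_eq_mul, mul_comm] at h2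
    exact h2
  obtain ⟨c, hc0, hc⟩ := exists_iso hf
  obtain ⟨b, w, h⟩ := exists_frame hf hc0 hc
  obtain ⟨γ, hγ0, -, he⟩ := frame_third hf h
  set e := b + w + γ • c with he'
  have hec : f e c = 1 := by rw [he']; simp [hf.add_left, hf.smul_left, h.gc, h.wc, h.cc]
  have heb : f e b = γ := by rw [he']; simp [hf.add_left, hf.smul_left, h.gg, h.wg, rev_one hf h.gc]
  have hb0 : b ≠ 0 := fun h0 => by
    have h1 := h.gc
    rw [h0, un_zero_left hf] at h1
    exact zero_ne_one h1
  have he0 : e ≠ 0 := fun h0 => by rw [h0, un_zero_left hf] at hec; exact zero_ne_one hec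
  obtain ⟨t, ht⟩ := key c hc0 hc
  obtain ⟨t', ht'⟩ := key b hb0 h.gg
  obtain ⟨t'', ht''⟩ := key e he0 he
  have hlink : ∀ {c d : Fin 3 → F} {t s : F}, f d c ≠ 0 → (∀ x, f x c = t * f (G *ᵥ x) (G *ᵥ c)) →
      (∀ x, f x d = s * f (G *ᵥ x) (G *ᵥ d)) → t = σ s := fun {c d t s} hdc h1 h2 => by
    have e2 := congrArg σ (h2 c)
    rw [map_mul, ← hf.herm, ← hf.herm, h1 d] at e2
    refine mul_right_cancel₀ (fun h0 => hdc ?_) e2
    rw [h1 d, h0, mul_zero]
  have e1 : t = σ t' := hlink (by rw [h.gc]; exact one_ne_zero) ht ht'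
  have e2 : t = σ t'' := hlink (by rw [hec]; exact one_ne_zero) ht ht''
  have e3 : t' = σ t'' := hlink (by rw [heb]; exact hγ0) ht' ht''
  have htb : t' = t := e3.trans e2.symm
  have hσt : σ t = t := by rw [← htb, ← e1, htb]
  have hte : t'' = t := by rw [← hf.involutive t'', ← e2, hσt]
  rw [htb] at ht'
  rw [hte] at ht''
  have hwe : w = e - b - γ • c := by rw [he']; abel
  have hlin : ∀ u v, f u v = t * f (G *ᵥ u) (G *ᵥ v) := fun u v => by
    have hsub : ∀ x y z, f x (y - z) = f x y - f x z := fun x y z => by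
      rw [hf.herm, sub_left hf, map_sub, ← hf.herm, ← hf.herm]
    have hw : ∀ x, f x w = t * f (G *ᵥ x) (G *ᵥ w) := fun x => by
      rw [hwe, hsub, hsub, un_smul_right hf, ht, ht', ht'', Matrix.mulVec_sub, Matrix.mulVec_sub,
        Matrix.mulVec_smul, hsub, hsub, un_smul_right hf]
      ring
    rw [frame_expand hf h v]
    simp only [un_add_right hf, un_smul_right hf, Matrix.mulVec_add, Matrix.mulVec_smul, ht u, ht' u, hw u]
    ring
  have ht0 : t ≠ 0 := fun h0 => one_ne_zero (α := F) (by rw [← h.gc, hlin, h0, zero_mul])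
  exact ⟨Units.mk0 t⁻¹ (inv_ne_zero ht0), fun u v => by
    rw [Units.val_mk0, hlin u v, inv_mul_cancel_left₀ ht0]⟩

omit hHM in
/-- The similitudes of a ternary unitary form are maximal. -/
theorem maximal : Cfsg.Geo.IsMaximalIn (sl3 F) (Cfsg.Geo.similarityGroup f ⊓ sl3 F) := by
  constructor
  · refine lt_of_le_of_ne inf_le_right fun heq => ?_
    obtain ⟨c, hc0, hc⟩ := exists_iso hf
    obtain ⟨g, w, h⟩ := exists_frame hf hc0 hc
    have h0 : fvec f w ⬝ᵥ c = 0 := by rw [un_dot hf, rev_zero hf h.wc]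
    have hmem : tv c (fvec f w) h0 ∈ Cfsg.Geo.similarityGroup f ⊓ sl3 F := by
      rw [heq]; exact tv_mem_specialLinear _ _ _
    obtain ⟨k, hk⟩ := hmem.1
    have h3 := hk w g
    rw [tv_mulVec, tv_mulVec, un_dot hf, un_dot hf, rev_zero hf h.wg, zero_smul, add_zero, hf.add_left,
      hf.smul_left, h.wg, rev_one hf h.gc, mul_one, zero_add, mul_zero] at h3
    exact h.ww h3
  intro M hHM hMS
  by_cases hA : ∀ a φ : Fin 3 → F, a ≠ 0 → φ ≠ 0 → Has M a φ → f a a = 0 ∧ ∀ x, f x a = 0 → φ ⬝ᵥ x = 0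
  · exact Or.inl (le_antisymm (fun g hg => ⟨mem_of_unitary_elations hf hHM hA hg, hMS hg⟩) hHM)
  · push Not at hA
    obtain ⟨a, φ, ha, hφ, h, hbad⟩ := hA
    obtain ⟨c, ψ, hroot⟩ := fullRoot_of_elation hf hHM ha hφ h hbad
    exact Or.inr (le_antisymm hMS (fullRootStmt M (irr hf hHM) c ψ hroot))

end CfsgLib.Dim3Max.Herm

namespace CfsgLib.Dim3Max

universe u

/-- S5774, row 7. -/
theorem linUnitaryRow {F : Type u} [Field F] [Fintype F] : LinUnitaryRow F :=
  fun _ _ hf => Herm.maximal hf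

end CfsgLib.Dim3Max
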