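import Cfsg.Agent.Lib.Dim3Max.Defs
import Cfsg.Agent.Lib.Maximal.FieldSub

/-!
The normaliser of a cubic field of matrices in `SL(3, q)`: order, and the congruence for the index below an
overgroup.
-/

set_option autoImplicit false
set_option linter.style.haveILetI false

namespace CfsgLib.Dim3Max.SingerGroup

open scoped Matrix MatrixGroups
open CfsgLib.Maximal

universe u

variable {F : Type u} [Field F] {K : Subalgebra F (Matrix (Fin 3) (Fin 3) F)}

/-- The elements of determinant one of the field. -/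
def cGroup (K : Subalgebra F (Matrix (Fin 3) (Fin 3) F)) : Subgroup (GL (Fin 3) F) :=
  (Units.map (K.val.toRingHom.toMonoidHom)).range ⊓ sl3 F

/-- The normaliser in the special linear group. -/
abbrev hGroup (K : Subalgebra F (Matrix (Fin 3) (Fin 3) F)) : Subgroup (GL (Fin 3) F) :=
  Cfsg.Geo.subalgebraNormalizer K ⊓ sl3 F

theorem mem_cGroup (hK : Cfsg.Geo.IsFieldSubalgebra 3 K) {g : GL (Fin 3) F} :
    g ∈ cGroup K ↔ (g : Matrix (Fin 3) (Fin 3) F) ∈ K ∧ g ∈ sl3 F := by
  refine ⟨fun h => ⟨?_, h.2⟩, fun h => ⟨?_, h.2⟩⟩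
  · obtain ⟨⟨x, hx⟩, -⟩ := h
    rw [← hx]; exact (x : K).2
  · obtain ⟨y, hy, hgy⟩ := hK.inv _ h.1 (Units.ne_zero g)
    exact ⟨⟨⟨_, h.1⟩, ⟨y, hy⟩, Subtype.ext hgy, Subtype.ext ((hK.comm y hy _ h.1).trans hgy)⟩, Units.ext rfl⟩

/-- The orbit map of the first basis vector, as a linear map. -/
def evalMap (K : Subalgebra F (Matrix (Fin 3) (Fin 3) F)) : K →ₗ[F] (Fin 3 → F) where
  toFun x := (x : Matrix (Fin 3) (Fin 3) F) *ᵥ Pi.single 0 1
  map_add' x y := Matrix.add_mulVec _ _ _
  map_smul' c x := Matrix.smul_mulVec c _ _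

/-- The orbit map of the first basis vector identifies the field with the space. -/
noncomputable def evalEquiv (hK : Cfsg.Geo.IsFieldSubalgebra 3 K) : K ≃ₗ[F] (Fin 3 → F) :=
  LinearEquiv.ofBijective (evalMap K) (by
    haveI : Module.Finite F K := Module.finite_of_finrank_eq_succ hK.finrank_eq
    have hinj : Function.Injective (evalMap K) := by
      rw [← LinearMap.ker_eq_bot, LinearMap.ker_eq_bot']
      intro x hx
      by_contra hx0
      obtain ⟨y, hy, hxy⟩ := hK.inv _ x.2 (fun e => hx0 (Subtype.ext e))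
      have h1 := congrArg (y *ᵥ ·) (show (x : Matrix (Fin 3) (Fin 3) F) *ᵥ Pi.single 0 1 = 0 from hx)
      simp only [Matrix.mulVec_mulVec, hK.comm y hy _ x.2, hxy, Matrix.one_mulVec, Matrix.mulVec_zero] at h1
      simpa using congrFun h1 0
    exact ⟨hinj, (LinearMap.injective_iff_surjective_of_finrank_eq_finrank (by
      rw [hK.finrank_eq, Module.finrank_fin_fun])).1 hinj⟩)

theorem evalEquiv_apply (hK : Cfsg.Geo.IsFieldSubalgebra 3 K) (x : K) :
    evalEquiv hK x = (x : Matrix (Fin 3) (Fin 3) F) *ᵥ Pi.single 0 1 := rfl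

theorem mulVec_evalEquiv (hK : Cfsg.Geo.IsFieldSubalgebra 3 K) (x y : K) :
    (x : Matrix (Fin 3) (Fin 3) F) *ᵥ evalEquiv hK y = evalEquiv hK (x * y) := by
  rw [evalEquiv_apply, evalEquiv_apply, Matrix.mulVec_mulVec, MulMemClass.coe_mul]

theorem det_eq_norm (hK : Cfsg.Geo.IsFieldSubalgebra 3 K) (x : K) :
    (x : Matrix (Fin 3) (Fin 3) F).det = Algebra.norm F x := by
  rw [← LinearMap.det_toLin', Algebra.norm_apply, ← LinearMap.det_conj (Algebra.lmul F K x) (evalEquiv hK)]
  congr 1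
  refine LinearMap.ext fun v => ?_
  obtain ⟨y, rfl⟩ := (evalEquiv hK).surjective v
  rw [Matrix.toLin'_apply, mulVec_evalEquiv, LinearMap.comp_apply, LinearMap.comp_apply]
  show evalEquiv hK (x * y) = evalEquiv hK (x * (evalEquiv hK).symm (evalEquiv hK y))
  rw [LinearEquiv.symm_apply_apply]

/-- An element moving a non-scalar element of the field into the field normalises it. -/
theorem mem_normalizer_of_conj [Finite F] (hK : Cfsg.Geo.IsFieldSubalgebra 3 K) {g : GL (Fin 3) F}
    {c : Matrix (Fin 3) (Fin 3) F} (hc : c ∈ K) (hns : ∀ a : F, c ≠ a • 1)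
    (hg : (g : Matrix (Fin 3) (Fin 3) F) * c * ((g⁻¹ : GL (Fin 3) F) : Matrix (Fin 3) (Fin 3) F) ∈ K) :
    g ∈ Cfsg.Geo.subalgebraNormalizer K := by
  letI : Field K := fieldOfSub K hK one_ne_zero
  haveI : Finite (Matrix (Fin 3) (Fin 3) F) := inferInstanceAs (Finite (Fin 3 → Fin 3 → F))
  haveI : Finite K := Finite.of_injective Subtype.val Subtype.val_injective
  let cg : Matrix (Fin 3) (Fin 3) F ≃ₐ[F] Matrix (Fin 3) (Fin 3) F :=
    MulSemiringAction.toAlgEquiv F (Matrix (Fin 3) (Fin 3) F) (ConjAct.toConjAct g)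
  have hcg : ∀ x, cg x = (g : Matrix (Fin 3) (Fin 3) F) * x * ((g⁻¹ : GL (Fin 3) F) : Matrix (Fin 3) (Fin 3) F) :=
    fun x => rfl
  let L : Subalgebra F K := K.comap (cg.toAlgHom.comp K.val)
  haveI := Subalgebra.isSimpleOrder_of_finrank_prime F K (by rw [hK.finrank_eq]; exact Nat.prime_three)
  have htop : L = ⊤ := (eq_bot_or_eq_top L).resolve_left fun e => by
    have hcL : (⟨c, hc⟩ : K) ∈ L := show cg c ∈ K by rw [hcg]; exact hg
    rw [e, Algebra.mem_bot] at hcL
    obtain ⟨a, ha⟩ := hcL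
    exact hns a (by rw [← Algebra.algebraMap_eq_smul_one]; exact (congrArg Subtype.val ha).symm)
  have hfwd : ∀ x : K, cg x ∈ K := fun x => show x ∈ L from htop ▸ Algebra.mem_top
  have hbij : Function.Bijective (fun x : K => (⟨cg x, hfwd x⟩ : K)) :=
    Finite.injective_iff_bijective.1 fun x y h => Subtype.ext (cg.injective (congrArg Subtype.val h))
  intro k
  rw [← hcg]
  refine ⟨fun hk => hfwd ⟨k, hk⟩, fun hk => ?_⟩
  obtain ⟨y, hy⟩ := hbij.2 ⟨cg k, hk⟩
  rw [show k = y from (cg.injective (congrArg Subtype.val hy)).symm]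
  exact y.2

theorem cGroup_le (hK : Cfsg.Geo.IsFieldSubalgebra 3 K) : cGroup K ≤ hGroup K := by
  intro g hg
  refine ⟨fun k => ?_, hg.2⟩
  obtain ⟨hgK, -⟩ := (mem_cGroup hK).1 hg
  obtain ⟨hgiK, -⟩ := (mem_cGroup hK).1 (inv_mem hg)
  refine ⟨fun hk => mul_mem (mul_mem hgK hk) hgiK, fun h => ?_⟩
  have := mul_mem (mul_mem hgiK h) hgK
  simpa [mul_assoc, ← Units.val_mul] using this

theorem eq_scalar_pow {g : GL (Fin 3) F} (hg : g ∈ sl3 F) {a : F}
    (ha : (g : Matrix (Fin 3) (Fin 3) F) = a • 1) : g ^ 3 = 1 := by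
  rw [mem_specialLinear_iff, ha, Matrix.det_smul, Fintype.card_fin, Matrix.det_one, mul_one] at hg
  refine Units.ext ?_
  rw [Units.val_pow_eq_pow_val, ha, smul_pow, one_pow, hg, one_smul, Units.val_one]

theorem arith_norm {q n : ℕ} (hq : 2 ≤ q) (h : n * (q - 1) = q ^ 3 - 1) : n = q * q + q + 1 := by
  refine Nat.eq_of_mul_eq_mul_right (show 0 < q - 1 by omega) (h.trans ?_)
  obtain ⟨t, rfl⟩ := Nat.exists_eq_add_of_le hq
  rw [show 2 + t - 1 = t + 1 by omega, Nat.sub_eq_iff_eq_add (Nat.one_le_pow _ _ (by omega))]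
  ring

variable [Fintype F]

/-- The order of the group of elements of norm one, and a generator of it. -/
theorem exists_generator (hK : Cfsg.Geo.IsFieldSubalgebra 3 K) :
    Nat.card (cGroup K) = Fintype.card F * Fintype.card F + Fintype.card F + 1 ∧
      ∃ c ∈ cGroup K, orderOf c = Fintype.card F * Fintype.card F + Fintype.card F + 1 := by
  classical
  letI : Field K := fieldOfSub K hK one_ne_zero
  haveI : Finite (Matrix (Fin 3) (Fin 3) F) := inferInstanceAs (Finite (Fin 3 → Fin 3 → F))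
  haveI : Finite K := Finite.of_injective Subtype.val Subtype.val_injective
  set q := Fintype.card F
  let ι : Kˣ →* GL (Fin 3) F := Units.map (K.val.toRingHom.toMonoidHom)
  have hι : Function.Injective ι := Units.map_injective Subtype.val_injective
  let N : Kˣ →* Fˣ := Units.map (Algebra.norm F)
  have hker : N.ker.map ι = cGroup K := by
    ext g
    rw [Subgroup.mem_map]
    constructor
    · rintro ⟨x, hx, rfl⟩
      refine ⟨⟨x, rfl⟩, (mem_specialLinear_iff _).2 ?_⟩
      have h1 := congrArg Units.val (MonoidHom.mem_ker.1 hx)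
      exact (det_eq_norm hK (x : K)).trans h1
    · rintro ⟨⟨x, rfl⟩, hg⟩
      refine ⟨x, MonoidHom.mem_ker.2 (Units.ext ?_), rfl⟩
      exact (det_eq_norm hK (x : K)).symm.trans ((mem_specialLinear_iff _).1 hg)
  have hcard : Nat.card N.ker = q * q + q + 1 := by
    have h := N.ker.card_mul_index
    rw [Subgroup.index_ker, MonoidHom.range_eq_top.2 (FiniteField.unitsMap_norm_surjective F K),
      Subgroup.card_top, Nat.card_units, Nat.card_units, Module.natCard_eq_pow_finrank (K := F) (V := K),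
      hK.finrank_eq, Nat.card_eq_fintype_card (α := F)] at h
    have hq : 2 ≤ q := Fintype.one_lt_card
    exact arith_norm hq h
  refine ⟨?_, ?_⟩
  · rw [← hker, Subgroup.card_map_of_injective hι, hcard]
  · obtain ⟨x, hx⟩ := IsCyclic.exists_ofOrder_eq_natCard (α := N.ker)
    refine ⟨ι x, hker ▸ Subgroup.mem_map_of_mem ι x.2, ?_⟩
    rw [orderOf_injective ι hι, Subgroup.orderOf_coe, hx, hcard]

/-- The action of the normaliser on the field. -/
noncomputable def autHom (hK : Cfsg.Geo.IsFieldSubalgebra 3 K) : hGroup K →* (K ≃ₐ[F] K) where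
  toFun g :=
    { toFun := fun x => ⟨_, (g.2.1 x).1 x.2⟩
      invFun := fun x => ⟨_, ((inv_mem g.2.1 : (g : GL (Fin 3) F)⁻¹ ∈ Cfsg.Geo.subalgebraNormalizer K) x).1 x.2⟩
      left_inv := fun x => Subtype.ext (by simp [mul_assoc])
      right_inv := fun x => Subtype.ext (by simp [mul_assoc])
      map_mul' := fun x y => Subtype.ext (by simp [mul_assoc])
      map_add' := fun x y => Subtype.ext (by simp [mul_add, add_mul])
      commutes' := fun a => Subtype.ext (by
        simp [Algebra.algebraMap_eq_smul_one]) }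
  map_one' := AlgEquiv.ext fun x => Subtype.ext (by simp)
  map_mul' g h := AlgEquiv.ext fun x => Subtype.ext (by simp [mul_assoc])

theorem autHom_apply (hK : Cfsg.Geo.IsFieldSubalgebra 3 K) (g : hGroup K) (x : K) :
    (autHom hK g x : Matrix (Fin 3) (Fin 3) F) = ((g : GL (Fin 3) F) : Matrix (Fin 3) (Fin 3) F) * x *
      (((g : GL (Fin 3) F)⁻¹ : GL (Fin 3) F) : Matrix (Fin 3) (Fin 3) F) := rfl

theorem autHom_ker (hK : Cfsg.Geo.IsFieldSubalgebra 3 K) : (autHom hK).ker = (cGroup K).subgroupOf (hGroup K) := by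
  ext g
  rw [MonoidHom.mem_ker, Subgroup.mem_subgroupOf]
  constructor
  · intro h
    refine (mem_cGroup hK).2 ⟨?_, g.2.2⟩
    obtain ⟨k, hk⟩ := (evalEquiv hK).surjective (((g : GL (Fin 3) F) : Matrix (Fin 3) (Fin 3) F) *ᵥ Pi.single 0 1)
    rw [evalEquiv_apply] at hk
    suffices ((g : GL (Fin 3) F) : Matrix (Fin 3) (Fin 3) F) = k by rw [this]; exact k.2
    have hcomm : ∀ x : K, ((g : GL (Fin 3) F) : Matrix (Fin 3) (Fin 3) F) * x =
        (x : Matrix (Fin 3) (Fin 3) F) * ((g : GL (Fin 3) F) : Matrix (Fin 3) (Fin 3) F) := fun x => by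
      have h1 : (autHom hK g x : Matrix (Fin 3) (Fin 3) F) = x := by rw [h]; rfl
      rw [autHom_apply] at h1
      conv_rhs => rw [← h1]
      rw [mul_assoc _ _ ((g : GL (Fin 3) F) : Matrix (Fin 3) (Fin 3) F), ← Units.val_mul, inv_mul_cancel,
        Units.val_one, mul_one]
    refine Matrix.toLin'.injective (LinearMap.ext fun v => ?_)
    obtain ⟨x, rfl⟩ := (evalEquiv hK).surjective v
    rw [evalEquiv_apply, Matrix.toLin'_apply, Matrix.toLin'_apply, Matrix.mulVec_mulVec, hcomm, ← Matrix.mulVec_mulVec,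
      ← hk, Matrix.mulVec_mulVec, Matrix.mulVec_mulVec, hK.comm _ x.2 _ k.2]
  · intro h
    obtain ⟨hgK, -⟩ := (mem_cGroup hK).1 h
    refine AlgEquiv.ext fun x => Subtype.ext ?_
    rw [autHom_apply, hK.comm _ hgK _ x.2, mul_assoc, ← Units.val_mul, mul_inv_cancel, Units.val_one, mul_one]
    rfl

theorem autHom_surjective (hK : Cfsg.Geo.IsFieldSubalgebra 3 K) : Function.Surjective (autHom hK) := by
  classical
  letI : Field K := fieldOfSub K hK one_ne_zero
  haveI : Finite (Matrix (Fin 3) (Fin 3) F) := inferInstanceAs (Finite (Fin 3 → Fin 3 → F))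
  haveI : Finite K := Finite.of_injective Subtype.val Subtype.val_injective
  intro σ
  let e := evalEquiv hK
  let S : (Fin 3 → F) ≃ₗ[F] (Fin 3 → F) := (e.symm.trans σ.toLinearEquiv).trans e
  have hdet : (LinearMap.toMatrix' S.toLinearMap).det ≠ 0 := by
    rw [LinearMap.det_toMatrix']; exact (LinearEquiv.isUnit_det' S).ne_zero
  obtain ⟨a, ha⟩ := FiniteField.unitsMap_norm_surjective F K (Units.mk0 _ hdet)⁻¹
  let g : GL (Fin 3) F := Units.map (K.val.toRingHom.toMonoidHom) a *
    Matrix.GeneralLinearGroup.mkOfDetNeZero (LinearMap.toMatrix' S.toLinearMap) hdet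
  have hgv : ∀ x : K, (g : Matrix (Fin 3) (Fin 3) F) *ᵥ e x = e ((a : K) * σ x) := by
    intro x
    show (((a : K) : Matrix (Fin 3) (Fin 3) F) * LinearMap.toMatrix' S.toLinearMap) *ᵥ e x = _
    rw [← Matrix.mulVec_mulVec, LinearMap.toMatrix'_mulVec]
    show ((a : K) : Matrix (Fin 3) (Fin 3) F) *ᵥ e (σ (e.symm (e x))) = _
    rw [LinearEquiv.symm_apply_apply, mulVec_evalEquiv]
  have hconj : ∀ x : K, (g : Matrix (Fin 3) (Fin 3) F) * x = ((σ x : K) : Matrix (Fin 3) (Fin 3) F) * g := by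
    intro x
    refine Matrix.toLin'.injective (LinearMap.ext fun v => ?_)
    obtain ⟨y, rfl⟩ := e.surjective v
    rw [Matrix.toLin'_apply, Matrix.toLin'_apply, ← Matrix.mulVec_mulVec, ← Matrix.mulVec_mulVec, hgv]
    rw [mulVec_evalEquiv, hgv, mulVec_evalEquiv, map_mul σ x y, mul_left_comm]
  have hconj' : ∀ x : K, (g : Matrix (Fin 3) (Fin 3) F) * x * ((g⁻¹ : GL (Fin 3) F) : Matrix (Fin 3) (Fin 3) F) =
      (σ x : K) := fun x => by
    rw [hconj, mul_assoc, ← Units.val_mul, mul_inv_cancel, Units.val_one, mul_one]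
  have hgN : g ∈ Cfsg.Geo.subalgebraNormalizer K := by
    intro k
    refine ⟨fun hk => by rw [hconj' ⟨k, hk⟩]; exact (σ _).2, fun h => ?_⟩
    have h2 := hconj (σ.symm ⟨_, h⟩)
    rw [σ.apply_symm_apply] at h2
    simp only [mul_assoc, ← Units.val_mul, inv_mul_cancel, Units.val_one, mul_one] at h2
    rw [← g.isUnit.mul_left_cancel h2]
    exact (σ.symm _).2
  have hgS : g ∈ sl3 F := by
    rw [mem_specialLinear_iff]
    show (((a : K) : Matrix (Fin 3) (Fin 3) F) * LinearMap.toMatrix' S.toLinearMap).det = 1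
    rw [Matrix.det_mul, det_eq_norm hK]
    have := congrArg Units.val ha
    simp only [Units.coe_map, MonoidHom.coe_coe, Units.val_inv_eq_inv_val, Units.val_mk0] at this
    rw [this, inv_mul_cancel₀ hdet]
  exact ⟨⟨g, hgN, hgS⟩, AlgEquiv.ext fun x => Subtype.ext (hconj' x)⟩

theorem card_aut (hK : Cfsg.Geo.IsFieldSubalgebra 3 K) : Nat.card (K ≃ₐ[F] K) = 3 := by
  letI : Field K := fieldOfSub K hK one_ne_zero
  haveI : Finite (Matrix (Fin 3) (Fin 3) F) := inferInstanceAs (Finite (Fin 3 → Fin 3 → F))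
  haveI : Finite K := Finite.of_injective Subtype.val Subtype.val_injective
  exact (IsGalois.card_aut_eq_finrank F K).trans hK.finrank_eq

theorem card_hGroup (hK : Cfsg.Geo.IsFieldSubalgebra 3 K) :
    Nat.card (hGroup K) = 3 * (Fintype.card F * Fintype.card F + Fintype.card F + 1) := by
  rw [← (autHom hK).ker.card_mul_index, Subgroup.index_ker, MonoidHom.range_eq_top.2 (autHom_surjective hK),
    Subgroup.card_top, card_aut hK, autHom_ker,
    Nat.card_congr (Subgroup.subgroupOfEquivOfLe (cGroup_le hK)).toEquiv, (exists_generator hK).1, mul_comm]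

theorem cube_mem (hK : Cfsg.Geo.IsFieldSubalgebra 3 K) {h : GL (Fin 3) F} (hh : h ∈ hGroup K) :
    h ^ 3 ∈ cGroup K := by
  have h1 : (⟨h, hh⟩ : hGroup K) ^ 3 ∈ (autHom hK).ker := by
    have h0 : autHom hK ⟨h, hh⟩ ^ Nat.card (K ≃ₐ[F] K) = 1 := pow_card_eq_one'
    rw [card_aut hK] at h0
    rwa [MonoidHom.mem_ker, map_pow]
  rw [autHom_ker, Subgroup.mem_subgroupOf] at h1
  simpa using h1

set_option synthInstance.maxHeartbeats 200000 in
set_option maxHeartbeats 1000000 in
/-- The index below an overgroup is one modulo the order of the projective Singer group. -/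
theorem index_cast (hK : Cfsg.Geo.IsFieldSubalgebra 3 K) {d w : ℕ}
    (hdw : d * w = Fintype.card F * Fintype.card F + Fintype.card F + 1) (hw : Nat.Coprime 3 w)
    {M : Subgroup (GL (Fin 3) F)} (hle : hGroup K ≤ M) (hMS : M ≤ sl3 F) :
    (((hGroup K).subgroupOf M).index : ZMod w) = 1 := by
  classical
  obtain ⟨-, c, hc, hcord⟩ := exists_generator hK
  set c₁ := c ^ d with hc₁
  have hdpos : 0 < d := Nat.pos_of_ne_zero fun e => by rw [e, zero_mul] at hdw; omega
  have hord : orderOf c₁ = w := by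
    rw [hc₁, orderOf_pow, hcord, ← hdw, Nat.gcd_eq_right (dvd_mul_right d w), Nat.mul_div_cancel_left w hdpos]
  have hc₁M : c₁ ∈ M := hle (cGroup_le hK (pow_mem hc d))
  set A : Subgroup M := Subgroup.zpowers ⟨c₁, hc₁M⟩ with hA
  have hAcard : Nat.card A = w := by rw [Nat.card_zpowers, Subgroup.orderOf_mk, hord]
  set H' := (hGroup K).subgroupOf M
  have hAH : ∀ a : A, (a : M) ∈ H' := fun a => by
    obtain ⟨n, hn⟩ := Subgroup.mem_zpowers_iff.1 a.2
    rw [← hn]
    exact zpow_mem (show (⟨c₁, hc₁M⟩ : M) ∈ H' from cGroup_le hK (pow_mem hc d)) n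
  let Y : SubMulAction A (M ⧸ H') :=
    { carrier := {x | x ≠ ((1 : M) : M ⧸ H')}
      smul_mem' := fun a x hx e => hx (by
        rw [← inv_smul_smul a x, e]
        show ((((a⁻¹ : A) : M) * 1 : M) : M ⧸ H') = _
        rw [mul_one, QuotientGroup.eq, mul_one]
        exact inv_mem (hAH a⁻¹)) }
  have hfree : ∀ y : Y, MulAction.stabilizer A y = ⊥ := by
    intro y
    rw [Subgroup.eq_bot_iff_forall]
    intro a ha
    by_contra ha1
    obtain ⟨g, hg⟩ := QuotientGroup.mk_surjective (y : M ⧸ H')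
    refine y.2 ?_
    rw [← hg, eq_comm, QuotientGroup.eq, inv_one, one_mul]
    have hfix : (((a : M) * g : M) : M ⧸ H') = (g : M ⧸ H') := by
      have := congrArg Subtype.val (MulAction.mem_stabilizer_iff.1 ha)
      rw [SubMulAction.val_smul, ← hg] at this
      exact this
    rw [eq_comm, QuotientGroup.eq] at hfix
    set G : GL (Fin 3) F := (g : GL (Fin 3) F)
    set z : GL (Fin 3) F := ((a : M) : GL (Fin 3) F)
    have hzC : z ∈ cGroup K := by
      obtain ⟨n, hn⟩ := Subgroup.mem_zpowers_iff.1 a.2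
      have : z = c₁ ^ n := by simp only [z, ← hn, SubgroupClass.coe_zpow]
      rw [this]
      exact zpow_mem (pow_mem hc d) n
    have hzw : z ^ w = 1 := by
      have h1 : a ^ w = 1 := by rw [← hAcard]; exact pow_card_eq_one'
      have h2 := congrArg (fun b : A => ((b : M) : GL (Fin 3) F)) h1
      simpa [z] using h2
    have hz1 : z ≠ 1 := fun e => ha1 (Subtype.ext (Subtype.ext e))
    have hz9 : (z ^ 3) ^ 3 ≠ 1 := by
      intro e
      rw [← pow_mul] at e
      refine hz1 (orderOf_eq_one_iff.1 (Nat.eq_one_of_dvd_coprimes (Nat.Coprime.pow_left 2 hw)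
        (by simpa using orderOf_dvd_of_pow_eq_one e) (orderOf_dvd_of_pow_eq_one hzw)))
    have hconjH : G⁻¹ * (z * G) ∈ hGroup K := hfix
    have h3 := cube_mem hK hconjH
    have e3 : (G⁻¹ * (z * G)) ^ 3 = G⁻¹ * z ^ 3 * G⁻¹⁻¹ := by
      rw [← conj_pow]; group
    rw [e3] at h3
    have hN : G⁻¹ ∈ Cfsg.Geo.subalgebraNormalizer K :=
      mem_normalizer_of_conj hK ((mem_cGroup hK).1 (pow_mem hzC 3)).1
        (fun b hb => hz9 (eq_scalar_pow (pow_mem hzC 3).2 hb))
        (by have := ((mem_cGroup hK).1 h3).1; simpa only [Units.val_mul] using this)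
    refine ⟨?_, hMS g.2⟩
    show G ∈ Cfsg.Geo.subalgebraNormalizer K
    simpa only [inv_inv] using inv_mem hN
  have hcardY : Nat.card Y = Nat.card (Quotient (MulAction.orbitRel A Y)) * w := by
    rw [Nat.card_congr (MulAction.selfEquivOrbitsQuotientProd hfree), Nat.card_prod, hAcard]
  have hidx : H'.index = Nat.card Y + 1 := by
    have h1 : Nat.card (M ⧸ H') = Nat.card Y + 1 := by
      rw [← Nat.card_congr (Equiv.optionSubtypeNe ((1 : M) : M ⧸ H')), Finite.card_option]
      rfl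
    exact h1
  rw [hidx, hcardY]
  simp

end CfsgLib.Dim3Max.SingerGroup
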