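import Cfsg.Agent.Lib.Dim3Max.Solv.RankOne
import Cfsg.Agent.Lib.Dim3Max.Solv.Pair

/-!
P5 of the dimension three maximality proofs: solvable subgroups with a large diagonal element are monomial.
-/

set_option autoImplicit false

namespace CfsgLib.Dim3Max

open scoped Matrix MatrixGroups commutatorElement

universe u

variable {F : Type u} [Field F] [Finite F]

/-- SOLV. -/
theorem solvStmt : SolvStmt F := by
  classical
  intro M _ hirr hsolv g A hA _ hex _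
  obtain ⟨a, t, haA, ha, ht⟩ := hex
  have haM := hA haA
  let Scal : Subgroup (GL (Fin 3) F) → Prop := fun H =>
    ∀ y ∈ H, ∃ c : F, (y : Matrix (Fin 3) (Fin 3) F) = c • 1
  let D : ℕ → Subgroup (GL (Fin 3) F) := fun k => (derivedSeries M k).map M.subtype
  have hbot : ∃ k, Scal (D k) := by
    obtain ⟨k, hk⟩ := (Group.isSolvable_def _).1 hsolv
    refine ⟨k, fun y hy => ⟨1, ?_⟩⟩
    simp only [D, hk, Subgroup.map_bot, Subgroup.mem_bot] at hy
    simp [hy]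
  have h0 : ¬ Scal (D 0) := by
    intro h
    have hM : ∀ y ∈ M, ∃ c : F, (y : Matrix (Fin 3) (Fin 3) F) = c • 1 := fun y hy =>
      h y (by simpa [D] using hy)
    obtain ⟨c, hc⟩ := hM a haM
    have e := scal_pow_diag (k := 1) ha (s := c) (by simpa using hc)
    refine ht 0 1 (by decide) ?_
    rw [← pow_one (t 0), ← pow_one (t 1), e 0, e 1]
  obtain ⟨k, hk, hk'⟩ : ∃ k, ¬ Scal (D k) ∧ Scal (D (k + 1)) := by
    by_contra hcon
    push Not at hcon
    obtain ⟨k, hk⟩ := hbot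
    have : ∀ j, ¬ Scal (D j) := fun j => by
      induction j with
      | zero => exact h0
      | succ j ih => exact hcon j ih
    exact this k hk
  set N := D k with hN
  have hNn : ∀ m ∈ M, ∀ u ∈ N, m * u * m⁻¹ ∈ N := by
    rintro m hm _ ⟨u, hu, rfl⟩
    exact ⟨(⟨m, hm⟩ : M) * u * (⟨m, hm⟩ : M)⁻¹, (derivedSeries_normal M k).conj_mem u hu _, rfl⟩
  have hcomm : ∀ u ∈ N, ∀ v ∈ N, ∃ c : F, ((⁅u, v⁆ : GL (Fin 3) F) : Matrix (Fin 3) (Fin 3) F) = c • 1 := by
    rintro _ ⟨u, hu, rfl⟩ _ ⟨v, hv, rfl⟩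
    refine hk' _ ⟨⁅u, v⁆, ?_, map_commutatorElement M.subtype u v⟩
    rw [derivedSeries_succ]
    exact Subgroup.commutator_mem_commutator hu hv
  have hrel : ∀ u ∈ N, ∀ v ∈ N, ∃ c, Rel u v c := by
    intro u hu v hv
    obtain ⟨c, hc⟩ := hcomm u hu v hv
    refine ⟨c, ?_⟩
    have e : u * v = ⁅u, v⁆ * (v * u) := by rw [commutatorElement_def]; group
    rw [Rel, ← Units.val_mul, e, Units.val_mul, hc, Matrix.smul_mul, Matrix.one_mul, Units.val_mul]
  let Z := N ⊓ Subgroup.centralizer (N : Set (GL (Fin 3) F))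
  have hZn : ∀ m ∈ M, ∀ u ∈ Z, m * u * m⁻¹ ∈ Z := by
    rintro m hm u ⟨hu, huc⟩
    refine ⟨hNn m hm u hu, Subgroup.mem_centralizer_iff.2 fun v hv => ?_⟩
    have hv' : m⁻¹ * v * m ∈ N := by simpa using hNn m⁻¹ (inv_mem hm) v hv
    have := Subgroup.mem_centralizer_iff.1 huc _ hv'
    calc v * (m * u * m⁻¹) = m * ((m⁻¹ * v * m) * u) * m⁻¹ := by group
      _ = m * (u * (m⁻¹ * v * m)) * m⁻¹ := by rw [this]
      _ = m * u * m⁻¹ * v := by group
  have hZab : ∀ u ∈ Z, ∀ v ∈ Z, u * v = v * u := fun u hu v hv =>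
    (Subgroup.mem_centralizer_iff.1 hu.2 v hv.1).symm
  by_cases hZ : ∃ u ∈ Z, ∀ c : F, (u : Matrix (Fin 3) (Fin 3) F) ≠ c • 1
  · exact monoIn_of_diag hirr Z hZn (fun u hu => diag_of_normal_abelian hirr haM ha ht Z hZn hZab hu) hZ
  exfalso
  obtain ⟨x, hx, y, hy, hxy⟩ : ∃ x ∈ N, ∃ y ∈ N, x * y ≠ y * x := by
    by_contra hcon
    push Not at hcon
    refine hk fun u hu => ?_
    by_contra hu'
    push Not at hu'
    exact hZ ⟨u, ⟨hu, Subgroup.mem_centralizer_iff.2 fun v hv => hcon v hv u hu⟩, hu'⟩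
  obtain ⟨c, hc⟩ := hrel x hx y hy
  exact false_of_pair hNn hrel hx hy hc (fun e => hxy (rel_one_iff.1 (e ▸ hc))) haM ha ht

end CfsgLib.Dim3Max
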