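import Cfsg.Agent.Lib.Dim3Max.UPair
import Cfsg.Agent.Lib.Dim3Max.Frob

/-!
FULL for unitary groups: an elation and a semisimple element with unstable ratios, or an orthogonal torus.
-/

set_option autoImplicit false
set_option linter.unusedSectionVars false
set_option linter.style.haveILetI false

namespace CfsgLib.Dim3Max

open scoped Matrix MatrixGroups
open CfsgLib.Maximal

universe u

variable {F : Type u} [Field F]

/-- The form of a diagonalisable element on a flag. -/
theorem dot_of_diag {m g : GL (Fin 3) F} {t : Fin 3 → F}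
    (h : (m : Matrix (Fin 3) (Fin 3) F) * (g : Matrix (Fin 3) (Fin 3) F) =
      (g : Matrix (Fin 3) (Fin 3) F) * Matrix.diagonal t) (c φ : Fin 3 → F) :
    φ ⬝ᵥ ((m : Matrix (Fin 3) (Fin 3) F) *ᵥ c) = ∑ i, (φ ᵥ* (g : Matrix (Fin 3) (Fin 3) F)) i *
      (((g⁻¹ : GL (Fin 3) F) : Matrix (Fin 3) (Fin 3) F) *ᵥ c) i * t i := by
  obtain ⟨y, rfl⟩ := mulVec_surj g c
  rw [Matrix.mulVec_mulVec, h, ← Matrix.mulVec_mulVec, Matrix.dotProduct_mulVec, Matrix.mulVec_mulVec,
    ← Units.val_mul, inv_mul_cancel, Units.val_one, Matrix.one_mulVec, dotProduct]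
  exact Finset.sum_congr rfl fun i _ => by rw [Matrix.mulVec_diagonal]; ring

theorem diag_inv {m g : GL (Fin 3) F} {t : Fin 3 → F}
    (h : (m : Matrix (Fin 3) (Fin 3) F) * (g : Matrix (Fin 3) (Fin 3) F) =
      (g : Matrix (Fin 3) (Fin 3) F) * Matrix.diagonal t) (ht : ∀ i, t i ≠ 0) :
    ((m⁻¹ : GL (Fin 3) F) : Matrix (Fin 3) (Fin 3) F) * (g : Matrix (Fin 3) (Fin 3) F) =
      (g : Matrix (Fin 3) (Fin 3) F) * Matrix.diagonal (fun i => (t i)⁻¹) := by
  rw [← Units.inv_mul_cancel_left m ((g : Matrix (Fin 3) (Fin 3) F) * Matrix.diagonal fun i => (t i)⁻¹),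
    ← mul_assoc (m : Matrix (Fin 3) (Fin 3) F), h, mul_assoc (g : Matrix (Fin 3) (Fin 3) F),
    Matrix.diagonal_mul_diagonal]
  simp [ht]

theorem diag_pow {m g : GL (Fin 3) F} {t : Fin 3 → F}
    (h : (m : Matrix (Fin 3) (Fin 3) F) * (g : Matrix (Fin 3) (Fin 3) F) =
      (g : Matrix (Fin 3) (Fin 3) F) * Matrix.diagonal t) (n : ℕ) :
    ((m ^ n : GL (Fin 3) F) : Matrix (Fin 3) (Fin 3) F) * (g : Matrix (Fin 3) (Fin 3) F) =
      (g : Matrix (Fin 3) (Fin 3) F) * Matrix.diagonal (fun i => t i ^ n) := by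
  induction n with
  | zero => simp
  | succ n ih =>
    rw [pow_succ, Units.val_mul, mul_assoc, h, ← mul_assoc, ih, mul_assoc, Matrix.diagonal_mul_diagonal]
    simp [pow_succ]

variable [Fintype F] {q : ℕ} {τ : F ≃+* F} (H : USetup (F := F) q τ)
include H

local notation "hh" => hf3 F q
local notation "VV" => (Fin 3 → F)

variable {M : Subgroup (GL (Fin 3) F)}

/-- The products of a unitary elation with its conjugates are fixed. -/
theorem USetup.flagProd_fixed {m : GL (Fin 3) F} (hm : m ∈ Cfsg.GU 3 F q) {k : F} (hk : τ k = -k) (v : VV) :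
    τ (flagProd m (k • v) (fvec hh v)) = flagProd m (k • v) (fvec hh v) := by
  have hi := (mem_GU_iff m).1 hm v (((m⁻¹ : GL (Fin 3) F) : Matrix (Fin 3) (Fin 3) F) *ᵥ v)
  rw [Matrix.mulVec_mulVec, ← Units.val_mul, mul_inv_cancel, Units.val_one, Matrix.one_mulVec] at hi
  simp only [flagProd, Matrix.mulVec_smul, un_dot H.form, H.form.smul_left]
  rw [H.form.herm (((m⁻¹ : GL (Fin 3) F) : Matrix (Fin 3) (Fin 3) F) *ᵥ v) v,
    show hh v _ = hh _ v from hi.symm, map_mul, map_mul, map_mul, hk,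
    H.form.involutive]
  ring

/-- The three cases. -/
theorem USetup.cases (hMS : M ≤ su3 F q) (hirr : Irr M) (hel : HasElation M) :
    su3 F q ≤ M ∨ ((2 : F) = 0 ∧ RankOne M) ∨ ∃ (L : Subfield F) (k : F) (v : VV), URoot q τ M L k v ∧
      3 ≤ Nat.card L ∧ Nat.card L ≠ q ∧ ∀ g ∈ M, flagProd g (k • v) (fvec hh v) ≠ 0 →
        (Nat.card L = 3 → flagProd g (k • v) (fvec hh v) ^ 2 ≠ -1) → flagProd g (k • v) (fvec hh v) ∈ L := by
  classical
  set S := {n : ℕ | ∃ (K : Subfield F) (k : F) (v : VV), URoot q τ M K k v ∧ Nat.card K = n}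
  have hne : S.Nonempty := by
    obtain ⟨c, φ, hc, hφ, h⟩ := hel
    obtain ⟨hcc, k, hk0, hk, -, hhas⟩ := H.elation hMS hc hφ h
    refine ⟨_, ⊥, k, c, uroot_of_rootField hc hcc hk0 hk (fun x hx => ?_) (rootField_bot (smul_ne_zero hk0 hc)
      (fun e => hc (un_fvec_injective H.form (e.trans (un_fvec_zero H.form).symm))) hhas), rfl⟩
    obtain ⟨n, rfl⟩ := exists_natCast_of_mem_bot hx
    exact map_natCast τ n
  have hbd : BddAbove S := ⟨Nat.card F, by
    rintro n ⟨K, -, -, -, rfl⟩
    exact Nat.card_le_card_of_injective _ Subtype.val_injective⟩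
  obtain ⟨L, k, v, hR, hcard⟩ := Nat.sSup_mem hne hbd
  have hmax : ∀ (K : Subfield F) (k' : F) (v' : VV), URoot q τ M K k' v' → Nat.card K ≤ Nat.card L :=
    fun K k' v' h => hcard ▸ le_csSup hbd ⟨K, k', v', h, rfl⟩
  obtain ⟨hv, hvv, hk0, hk, hL, hhas⟩ := hR
  by_cases hq : Nat.card L = q
  · refine Or.inl (uFullStmt H M hMS hirr v hv hvv fun k' hk' => ?_)
    have heq : L = fixedτ τ := SetLike.coe_injective (Set.eq_of_subset_of_ncard_le (fun x hx => hL x hx)
      (by rw [← Nat.card_coe_set_eq, ← Nat.card_coe_set_eq]; exact H.card_fixed_le.trans hq.ge) (Set.toFinite _))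
    have hmem : k' / k ∈ L := heq ▸ mem_fixedτ.2 (by rw [map_div₀, hk', hk, neg_div_neg_eq])
    have := hhas _ hmem
    rwa [div_mul_cancel₀ _ hk0] at this
  by_cases hb2 : Nat.card L = 2
  · have h20 : (2 : F) = 0 := by
      haveI := Fintype.ofFinite L
      have h := FiniteField.cast_card_eq_zero L
      rw [← Nat.card_eq_fintype_card, hb2] at h
      have h' := congrArg L.subtype h
      rw [map_natCast, map_zero] at h'
      exact_mod_cast h'
    by_cases hRk : RankOne M
    · exact Or.inr (Or.inl ⟨h20, hRk⟩)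
    · obtain ⟨K', k', v', h4, hK'⟩ := uFourStmt H h20 M hMS hirr hRk
      have := hmax K' k' v' hK'
      omega
  have hLpos : 2 ≤ Nat.card L := Finite.one_lt_card
  refine Or.inr (Or.inr ⟨L, k, v, ⟨hv, hvv, hk0, hk, hL, hhas⟩, by omega, hq, fun g hg hg0 hg3 => ?_⟩)
  have hRF := H.rootField (M := M) ⟨hv, hvv, hk0, hk, hL, hhas⟩
  have hξ : fvec hh v ⬝ᵥ ((g : Matrix (Fin 3) (Fin 3) F) *ᵥ (k • v)) *
      ((fvec hh v ᵥ* ((g⁻¹ : GL (Fin 3) F) : Matrix (Fin 3) (Fin 3) F)) ⬝ᵥ (k • v)) =
      flagProd g (k • v) (fvec hh v) := by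
    rw [← Matrix.dotProduct_mulVec]; rfl
  have hkv : Has M (k • v) (fvec hh v) := by simpa using hhas 1 L.one_mem
  have henl := pairStmt M L _ _ _ _ hRF (hkv.conj hg) (by rw [hξ]; exact hg0) hb2
    (fun h3 => by rw [hξ]; exact hg3 h3)
  rw [hξ] at henl
  set ξ := flagProd g (k • v) (fvec hh v) with hξdef
  have hfix : Subfield.closure ((L : Set F) ∪ {ξ}) ≤ fixedτ τ :=
    Subfield.closure_le.2 (Set.union_subset (fun y hy => hL y hy)
      (Set.singleton_subset_iff.2 (H.flagProd_fixed (hMS hg).1 hk v)))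
  have hcardE := hmax _ k v (uroot_of_rootField hv hvv hk0 hk (fun x hx => mem_fixedτ.1 (hfix hx)) henl)
  have hle : L ≤ Subfield.closure ((L : Set F) ∪ {ξ}) := fun y hy => Subfield.subset_closure (Or.inl hy)
  have heq : L = Subfield.closure ((L : Set F) ∪ {ξ}) :=
    SetLike.coe_injective (Set.eq_of_subset_of_ncard_le hle
      (by rw [← Nat.card_coe_set_eq, ← Nat.card_coe_set_eq]; exact hcardE) (Set.toFinite _))
  rw [heq]
  exact Subfield.subset_closure (Or.inr rfl)

/-- A root field over the field with three elements and the fixed field with more elements, at most nine. -/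
theorem USetup.eq_nine {L : Subfield F} (h3 : Nat.card L = 3) (hq : q ≤ 9) (hne : q ≠ 3) : q = 9 := by
  haveI := Fintype.ofFinite L
  have hc : Fintype.card F = Fintype.card L ^ Module.finrank L F := Module.card_eq_pow_finrank
  rw [← Nat.card_eq_fintype_card (α := L), h3, H.card] at hc
  obtain ⟨i, -, hi⟩ := (Nat.dvd_prime_pow Nat.prime_three).1 (hc ▸ dvd_pow_self q (by norm_num : 2 ≠ 0) :
    q ∣ 3 ^ Module.finrank L F)
  have h0 := H.three_le
  have hi2 : i ≤ 2 := by
    by_contra hlt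
    have := Nat.pow_le_pow_right (show 0 < 3 by norm_num) (show 3 ≤ i by omega)
    omega
  interval_cases i <;> norm_num at hi <;> omega

/-- FULL for one semisimple element, ratios only tested on proper fields with three elements and more. -/
theorem USetup.cyclic_core (hMS : M ≤ su3 F q) {L : Subfield F} {k : F} {v : VV} (hR : URoot q τ M L k v)
    (h3 : 3 ≤ Nat.card L) (hq : Nat.card L ≠ q)
    (hmove : ∀ g ∈ M, flagProd g (k • v) (fvec hh v) ≠ 0 →
      (Nat.card L = 3 → flagProd g (k • v) (fvec hh v) ^ 2 ≠ -1) → flagProd g (k • v) (fvec hh v) ∈ L)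
    {a : GL (Fin 3) F} (ha : a ∈ M) {K : Type u} [Field K] [Algebra F K] {d : Fin 3 → K} (hd : EigenData a K d)
    (hun : ∀ L : Subfield F, (∀ x ∈ L, τ x = x) → 3 ≤ Nat.card L → Nat.card L ≠ q → RatioUnstable d (Nat.card L))
    (hmov : MovesFlags M a) : q = 9 ∧ Nat.card L = 3 := by
  obtain ⟨hv, hvv, hk0, hk, hL, hhas⟩ := hR
  have hkv : Has M (k • v) (fvec hh v) := by simpa using hhas 1 L.one_mem
  have hφ : fvec hh v ≠ 0 := fun e => hv (un_fvec_injective H.form (e.trans (un_fvec_zero H.form).symm))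
  obtain ⟨m, hm⟩ := hmov _ _ (smul_ne_zero hk0 hv) hφ hkv
  obtain ⟨N, hN, hNL⟩ := exists_field_of_products (L := L) (by omega)
    (fun m => flagProd (a ^ m) (k • v) (fvec hh v)) (fun m => hmove _ (pow_mem ha m))
  have key : ∀ N' : Subfield F, (∀ m, flagProd (a ^ m) (k • v) (fvec hh v) ∈ N') → (∀ x ∈ N', τ x = x) →
      3 ≤ Nat.card N' → Nat.card N' = q := by
    intro N' hN' hfix h3'
    by_contra hne
    obtain ⟨i, j, k', l, hij, he⟩ := ratio_stable hd hkv.dot N' hN' ⟨m, hm⟩
    exact hun N' hfix h3' hne i j k' l hij he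
  rcases hNL with rfl | ⟨hL3, hN9⟩
  · exact absurd (key N hN hL h3) hq
  have hLN : L ≤ N := by
    intro x hx
    haveI : Fact (Nat.card L).Prime := ⟨by rw [hL3]; norm_num⟩
    obtain ⟨n, hn⟩ := (AddSubmonoid.mem_multiples_iff _ _).1
      (mem_multiples_of_prime_card (p := Nat.card L) rfl (one_ne_zero : (1 : L) ≠ 0) (g' := (⟨x, hx⟩ : L)))
    have hn' := congrArg Subtype.val hn
    simp only [nsmul_eq_mul, mul_one, SubringClass.coe_natCast] at hn'
    rw [← hn']
    exact natCast_mem N n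
  have hcard := key (N ⊓ fixedτ τ)
    (fun j => ⟨hN j, H.flagProd_fixed (hMS (pow_mem ha j)).1 hk v⟩) (fun x hx => hx.2)
    (h3.trans (Nat.card_le_card_of_injective _ (Subfield.inclusion (le_inf hLN fun x hx => hL x hx)).injective))
  refine ⟨H.eq_nine hL3 ?_ (hL3 ▸ Ne.symm hq), hL3⟩
  rw [← hcard, ← hN9]
  exact Nat.card_le_card_of_injective _ (Subfield.inclusion inf_le_left).injective

/-- FULL for one semisimple unitary element. -/
theorem uCyclicStmt : UCyclicStmt q τ (F := F) := by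
  intro M hMS hirr hel a ha K _ _ d hd hun hmov
  rcases H.cases hMS hirr hel with h | h | ⟨L, k, v, hR, h3, hq, hmove⟩
  · exact Or.inl h
  · exact Or.inr (Or.inl h)
  · exact Or.inr (Or.inr (H.cyclic_core hMS hR h3 hq hmove ha hd (fun L hL _ hne => hun L hL hne) hmov).1)

/-- FULL for the torus of an orthogonal frame. -/
theorem uSplitStmt : USplitStmt (F := F) q := by
  intro hq4 M hMS hirr g hg hT hel
  rcases H.cases hMS hirr hel with h | h | ⟨L, k, v, hR, h3, hLq, hmove⟩
  · exact Or.inl h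
  · exact Or.inr h
  exfalso
  classical
  obtain ⟨w, hw⟩ := IsCyclic.exists_ofOrder_eq_natCard (α := Fˣ)
  have hsq : q ^ 2 - 1 = (q + 1) * (q - 1) := by simpa using Nat.sq_sub_sq q 1
  have hw' : orderOf (w : F) = (q + 1) * (q - 1) := by
    rw [orderOf_units, hw, Nat.card_eq_fintype_card, Fintype.card_units, H.card, hsq]
  set u : F := (w : F) ^ (q - 1) with hu_def
  have hu : orderOf u = q + 1 := by
    rw [hu_def, orderOf_pow_of_dvd (by omega) (by rw [hw']; exact dvd_mul_left _ _), hw',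
      Nat.mul_div_cancel _ (by omega)]
  have hu1 : u ^ (q + 1) = 1 := hu ▸ pow_orderOf_eq_one u
  have hu0 : u ≠ 0 := pow_ne_zero _ w.ne_zero
  have ht : ∀ i, (![u, 1, u⁻¹] : Fin 3 → F) i ^ (q + 1) = 1 := fun i => by
    fin_cases i <;> simp [hu1]
  have htne : ∀ i, (![u, 1, u⁻¹] : Fin 3 → F) i ≠ 0 := fun i => by fin_cases i <;> simp [hu0]
  obtain ⟨a, ha, hag⟩ := hT ![u, 1, u⁻¹] ht (by simp [hu0])
  -- some coordinate product is not zero
  have hcoord : ∀ (v : VV) (k : F), v ≠ 0 → k ≠ 0 → ∃ i, (fvec hh v ᵥ* (g : Matrix (Fin 3) (Fin 3) F)) i *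
      (((g⁻¹ : GL (Fin 3) F) : Matrix (Fin 3) (Fin 3) F) *ᵥ (k • v)) i ≠ 0 := by
    intro v k hv hk0
    by_contra hcon
    push Not at hcon
    have hz : fvec hh v ᵥ* (g : Matrix (Fin 3) (Fin 3) F) = 0 := by
      funext i
      show _ = (0 : F)
      by_contra hi
      have hy := (mul_eq_zero.1 (hcon i)).resolve_left hi
      rw [Matrix.mulVec_smul, Pi.smul_apply, smul_eq_mul, mul_eq_zero, or_iff_right hk0] at hy
      refine hi ?_
      set y := ((g⁻¹ : GL (Fin 3) F) : Matrix (Fin 3) (Fin 3) F) *ᵥ v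
      have hgy : (g : Matrix (Fin 3) (Fin 3) F) *ᵥ y = v := by
        rw [Matrix.mulVec_mulVec, ← Units.val_mul, mul_inv_cancel, Units.val_one, Matrix.one_mulVec]
      rw [← dotProduct_single_one (fvec hh v ᵥ* (g : Matrix (Fin 3) (Fin 3) F)) i, ← Matrix.dotProduct_mulVec, un_dot H.form, ← hgy,
        show y = y 0 • Pi.single 0 1 + y 1 • Pi.single 1 1 + y 2 • Pi.single 2 1 by
          funext j; fin_cases j <;> simp]
      simp only [Matrix.mulVec_add, Matrix.mulVec_smul, un_add_right H.form, un_smul_right H.form]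
      fin_cases i <;> simp_all
    exact hv (un_fvec_injective H.form (dot_ext fun x => by
      obtain ⟨x', rfl⟩ := mulVec_surj g x
      rw [Matrix.dotProduct_mulVec, hz, zero_dotProduct, un_fvec_zero H.form, zero_dotProduct]))
  obtain ⟨h9, hL3⟩ := H.cyclic_core hMS hR h3 hLq hmove ha
    (K := F) (d := ![u, 1, u⁻¹]) ⟨g, by simpa using hag⟩ (fun N hN h3N hne => by
      refine ratioUnstable_three hu h3N ?_
      have hsub : N ≤ fixedτ τ := fun x hx => hN x hx
      haveI := Fintype.ofFinite N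
      haveI := Fintype.ofFinite (fixedτ τ)
      letI : Algebra N (fixedτ τ) := (Subfield.inclusion hsub).toAlgebra
      have hc : Fintype.card (fixedτ τ) = Fintype.card N ^ Module.finrank N (fixedτ τ) := Module.card_eq_pow_finrank
      rw [← Nat.card_eq_fintype_card, ← Nat.card_eq_fintype_card] at hc
      have hcc : Nat.card (fixedτ τ) = q := H.card_fixed
      rw [hcc] at hc
      have h2 : 2 ≤ Module.finrank N (fixedτ τ) := by
        by_contra hlt
        rcases Nat.eq_zero_or_pos (Module.finrank N (fixedτ τ)) with h0 | h0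
        · rw [h0, pow_zero] at hc; omega
        · rw [show Module.finrank N (fixedτ τ) = 1 by omega, pow_one] at hc; exact hne hc.symm
      have hsq' : Nat.card N ^ 2 ≤ q := by
        calc Nat.card N ^ 2 ≤ Nat.card N ^ Module.finrank N (fixedτ τ) := Nat.pow_le_pow_right (by omega) h2
          _ = q := hc.symm
      have : 3 * Nat.card N ≤ Nat.card N ^ 2 := by rw [sq]; exact Nat.mul_le_mul_right _ h3N
      omega) (fun c φ hc hφ h => by
      obtain ⟨hcc, k', hk'0, -, hφe, -⟩ := H.elation hMS hc hφ h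
      obtain ⟨i, hi⟩ := hcoord c k' hc hk'0
      have hxi : (φ ᵥ* (g : Matrix (Fin 3) (Fin 3) F)) i *
          (((g⁻¹ : GL (Fin 3) F) : Matrix (Fin 3) (Fin 3) F) *ᵥ c) i ≠ 0 := by
        rw [Matrix.mulVec_smul, Pi.smul_apply, smul_eq_mul] at hi
        rw [hφe, Matrix.smul_vecMul, Pi.smul_apply, smul_eq_mul]
        intro e; exact hi (by linear_combination e)
      set x := fun i => (φ ᵥ* (g : Matrix (Fin 3) (Fin 3) F)) i *
        (((g⁻¹ : GL (Fin 3) F) : Matrix (Fin 3) (Fin 3) F) *ᵥ c) i with hx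
      obtain ⟨m, hm⟩ := exists_pow_sum_ne_zero hu (by omega) (x 0) (x 1) (x 2) (by fin_cases i <;> simp_all)
      refine ⟨m, ?_⟩
      rw [dot_of_diag (diag_pow hag m), dot_of_diag (diag_inv (diag_pow hag m) fun i => pow_ne_zero _ (htne i)),
        Fin.sum_univ_three, Fin.sum_univ_three]
      simpa [hx, div_eq_mul_inv] using hm)
  -- the torus with two equal entries gives five products
  obtain ⟨hv, hvv, hk0, hk, hL, hhas⟩ := hR
  obtain ⟨i, hi⟩ := hcoord v k hv hk0
  set φ := fvec hh v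
  set x := fun j => (φ ᵥ* (g : Matrix (Fin 3) (Fin 3) F)) j *
    (((g⁻¹ : GL (Fin 3) F) : Matrix (Fin 3) (Fin 3) F) *ᵥ (k • v)) j with hx
  have hsum : x 0 + x 1 + x 2 = 0 := by
    have h0 : φ ⬝ᵥ (k • v) = 0 := un_tv_dot H.form hvv k
    obtain ⟨y, hy⟩ := mulVec_surj g (k • v)
    replace hy : (g : Matrix (Fin 3) (Fin 3) F) *ᵥ y = k • v := hy
    rw [← hy, Matrix.dotProduct_mulVec, dotProduct, Fin.sum_univ_three] at h0
    simp only [hx, ← hy, Matrix.mulVec_mulVec, ← Units.val_mul, inv_mul_cancel, Units.val_one, Matrix.one_mulVec]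
    exact h0
  subst h9
  have hu10 : orderOf u = 10 := hu
  have hval : ∀ j ∈ Finset.Icc 1 5, x i ^ 2 * (2 - u ^ j - (u ^ j)⁻¹) ∈
      (Polynomial.nthRoots 4 (1 : F)).toFinset := by
    intro j hj
    rw [Finset.mem_Icc] at hj
    rw [Multiset.mem_toFinset, Polynomial.mem_nthRoots (by norm_num)]
    set s := u ^ (7 * j) with hs
    have hs0 : s ≠ 0 := pow_ne_zero _ hu0
    have hs1 : s ^ (9 + 1) = 1 := by rw [hs, ← pow_mul, mul_comm, pow_mul, hu1, one_pow]
    have hs3 : s ^ 3 = u ^ j := by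
      rw [hs, ← pow_mul, show 7 * j * 3 = j + (9 + 1) * (2 * j) by ring, pow_add, pow_mul, hu1, one_pow, mul_one]
    obtain ⟨b, hb, hbg⟩ := hT (fun l => if l = i then (s ^ 2)⁻¹ else s) (fun l => by
      show (ite _ _ _) ^ _ = (1 : F)
      split_ifs
      · rw [inv_pow, pow_right_comm, hs1, one_pow, inv_one]
      · exact hs1) (by fin_cases i <;> simp <;> field_simp)
    have hξ : flagProd b (k • v) φ = x i ^ 2 * (2 - u ^ j - (u ^ j)⁻¹) := by
      have hbi := diag_inv hbg (fun l => by split_ifs <;> simp [hs0])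
      have hsplit : ∀ A B : F, ∑ l, x l * (if l = i then A else B) = x i * (A - B) := fun A B => by
        calc ∑ l, x l * (if l = i then A else B)
            = ∑ l, (x l * B + if l = i then x i * (A - B) else 0) := Finset.sum_congr rfl fun l _ => by
              split_ifs with h
              · subst h; ring
              · rw [add_zero]
          _ = x i * (A - B) := by
            rw [Finset.sum_add_distrib, ← Finset.sum_mul, Fin.sum_univ_three, hsum, zero_mul, zero_add,
              Finset.sum_ite_eq' Finset.univ i, if_pos (Finset.mem_univ i)]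
      simp only [apply_ite (fun z : F => z⁻¹)] at hbi
      rw [flagProd, dot_of_diag hbg, dot_of_diag hbi]
      show (∑ l, x l * _) * (∑ l, x l * _) = _
      rw [hsplit, hsplit, ← hs3]
      field_simp
      ring
    have hξ0 : flagProd b (k • v) φ ≠ 0 := by
      rw [hξ]
      refine mul_ne_zero (pow_ne_zero 2 hi) fun e => ?_
      have h1 : (u ^ j - 1) ^ 2 = 0 := by
        field_simp at e
        linear_combination -e
      have h2 : u ^ j = 1 := by simpa [sub_eq_zero] using h1
      have := Nat.le_of_dvd (by omega) (hu10 ▸ orderOf_dvd_of_pow_eq_one h2)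
      omega
    rw [← hξ]
    by_cases h2 : flagProd b (k • v) φ ^ 2 = -1
    · linear_combination (flagProd b (k • v) φ ^ 2 - 1) * h2
    · have hm := hmove b hb hξ0 fun _ => h2
      haveI := Fintype.ofFinite L
      have h3' := congrArg Subtype.val (FiniteField.pow_card (⟨_, hm⟩ : L))
      rw [SubmonoidClass.coe_pow, ← Nat.card_eq_fintype_card, hL3] at h3'
      refine mul_right_cancel₀ hξ0 ?_
      linear_combination (flagProd b (k • v) φ ^ 2 + 1) * h3'
  have hcard := Finset.card_le_card (Finset.image_subset_iff.2 hval)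
  rw [Finset.card_image_of_injOn ?_, Nat.card_Icc] at hcard
  · have := hcard.trans ((Multiset.toFinset_card_le _).trans (Polynomial.card_nthRoots 4 (1 : F)))
    omega
  intro j hj l hl he
  rw [Finset.mem_coe, Finset.mem_Icc] at hj hl
  have e := mul_left_cancel₀ (pow_ne_zero 2 hi) he
  have h0 : (u ^ j - u ^ l) * (u ^ (j + l) - 1) = 0 := by
    have hj0 := pow_ne_zero j hu0
    have hl0 := pow_ne_zero l hu0
    field_simp at e
    rw [pow_add]
    linear_combination -e
  rcases mul_eq_zero.1 h0 with h | h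
  · exact pow_injOn_Iio_orderOf (by rw [Set.mem_Iio, hu10]; omega) (by rw [Set.mem_Iio, hu10]; omega)
      (sub_eq_zero.1 h)
  · have hd := hu10 ▸ orderOf_dvd_of_pow_eq_one (sub_eq_zero.1 h)
    have := Nat.le_of_dvd (by omega) hd
    omega

end CfsgLib.Dim3Max
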