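import Cfsg.Agent.Lib.Dim3Max.UMonoEleven
import Cfsg.Agent.Lib.Dim3Max.UFrob
import Cfsg.Agent.Lib.Dim3Max.Solv
import Cfsg.Agent.S5655

/-!
The stabiliser of three orthogonal non-degenerate lines is maximal in `SU₃(q)` for `q ≠ 5`.
-/

set_option autoImplicit false
set_option linter.unusedSectionVars false

namespace CfsgLib.Dim3Max

open scoped Matrix MatrixGroups
open CfsgLib.Maximal

universe u

variable {F : Type u} [Field F] [Fintype F] {q : ℕ} {τ : F ≃+* F} {M : Subgroup (GL (Fin 3) F)}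

local notation "M3" => Matrix (Fin 3) (Fin 3) F
local notation "V3" => (Fin 3 → F)

namespace UMonoThree

theorem two_ne (h : UMonoThree q τ M) (hno : ¬ HasElation M) : (2 : F) ≠ 0 := by
  intro h2
  have h0 : (Pi.single 0 1 + Pi.single 1 1 : V3) ⬝ᵥ (Pi.single 0 1 + Pi.single 1 1) = 0 := by
    simp [dotProduct, Fin.sum_univ_three, one_add_one_eq_two, h2]
  refine hno ⟨_, _, fun e => by simpa using congrFun e 0, fun e => by simpa using congrFun e 0, h0, ?_⟩
  convert h.mono (monoGL (Equiv.swap 0 1) (fun _ => 1)) (monoGL_mem_su3 _ _ (fun _ => by simp)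
    ((monoGL_mem_specialLinear_iff _ _).2 (by
      haveI : CharP F 2 := CharTwo.of_one_ne_zero_of_two_eq_zero one_ne_zero h2
      simp [CharTwo.neg_eq]))) (monoGL_isMono _ _) using 1
  refine Units.ext ?_
  rw [tv_val, monoGL_val]
  ext a b
  fin_cases a <;> fin_cases b <;>
    simp [monoMat, Matrix.vecMulVec_apply, Equiv.swap_apply_def, one_add_one_eq_two, h2]

theorem char_dvd (h : UMonoThree q τ M) : ∀ p, CharP F p → p ∣ q := by
  intro p hp
  obtain ⟨n, hpp, hn⟩ := FiniteField.card F p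
  exact hpp.dvd_of_dvd_pow (show p ∣ q ^ 2 by rw [← h.setup.card, hn]; exact dvd_pow_self p n.pos.ne')

theorem odd_of_two_ne (h : UMonoThree q τ M) (h2 : (2 : F) ≠ 0) : q % 2 = 1 := by
  have hodd := FiniteField.odd_card_of_char_ne_two (F := F) fun hc => h2 (by
    haveI := ringChar.of_eq hc
    exact CharP.cast_eq_zero F 2)
  rw [h.setup.card, Nat.pow_mod] at hodd
  rcases Nat.mod_two_eq_zero_or_one q with e | e <;> simp_all

/-- Without elations every element is monomial. -/
theorem mono_of_not_elation (h : UMonoThree q τ M) (hq5 : q ≠ 5) (hno : ¬ HasElation M) : ∀ g ∈ M, IsMono g := by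
  suffices ∀ c : V3, Ctr M c → ∃ i, ∀ m, m ≠ i → c m = 0 by
    intro g hg k
    obtain ⟨i, hi⟩ := this _ ⟨g, hg, k, rfl⟩
    exact ⟨i, fun l hl => by simpa [col_mulVec] using hi l hl⟩
  have h20 := h.two_ne hno
  have hodd := h.odd_of_two_ne h20
  obtain ⟨u, hu, huN⟩ := h.exists_omega
  have h3 := h.setup.three_le
  by_cases hs : q = 3 ∨ q = 11
  swap
  · push Not at hs
    have h6 : 6 ≤ orderOf (((u : F) ^ 3)⁻¹) := by
      rw [← Units.val_pow_eq_pow_val, ← Units.val_inv_eq_inv_val, orderOf_units, orderOf_inv,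
        orderOf_pow' u three_ne_zero, hu]
      rcases Nat.lt_or_ge q 17 with hlt | hge
      · obtain ⟨hs3, hs11⟩ := hs
        interval_cases q <;> first | omega | decide
      · have hg : Nat.gcd (q + 1) 3 ≤ 3 := Nat.le_of_dvd (by norm_num) (Nat.gcd_dvd_right _ _)
        refine le_trans ?_ (Nat.div_le_div_left hg (Nat.gcd_pos_of_pos_right _ (by norm_num)))
        omega
    have hv1 : ((u : F) ^ 3)⁻¹ ≠ 1 := fun e => by rw [e, orderOf_one] at h6; omega
    have hv2 : (((u : F) ^ 3)⁻¹) ^ 2 ≠ 1 := fun e => by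
      have := orderOf_le_of_pow_eq_one (by norm_num) e; omega
    have hx : UCtx q τ M (u : F) := ⟨h, huN, hv1, hv2, hno⟩
    intro c hc
    have hC := hx.hom hc
    by_contra hcon
    push Not at hcon
    refine hx.ne_zero hc ?_
    funext j
    rcases centre_dichotomy hx.a0 h6 hno (hx.hom_single j) hC with h1 | ⟨h1, -⟩
    · exfalso
      obtain ⟨t, ht⟩ := Submodule.mem_span_singleton.1 h1
      obtain ⟨l, hl, hlne⟩ := hcon j
      exact hlne (by simp [← ht, hl])
    · simpa using h1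
  rcases hs with rfl | rfl
  · have hord : orderOf u = 4 := hu
    have h3v : ∀ k : ℕ, k = 3 ∨ k = 6 → (u : F) ^ k ≠ 1 := fun k hk e => by
      have hd := orderOf_dvd_of_pow_eq_one (Units.ext (by rw [Units.val_pow_eq_pow_val, e, Units.val_one]) : u ^ k = 1)
      rw [hord] at hd
      rcases hk with rfl | rfl <;> omega
    have hx : UCtx 3 τ M (u : F) := ⟨h, huN, fun e => h3v 3 (Or.inl rfl) (inv_eq_one.1 e), fun e => by
      rw [inv_pow, inv_eq_one, ← pow_mul] at e
      exact h3v 6 (Or.inr rfl) e, hno⟩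
    exact fun c hc => hx.three rfl hc
  · haveI : Fact (Nat.Prime 11) := ⟨by norm_num⟩
    haveI : CharP F 11 := by
      obtain ⟨p, hp⟩ := CharP.exists F
      have hd := h.char_dvd p hp
      obtain ⟨n, hpp, -⟩ := FiniteField.card F p
      rwa [(Nat.prime_dvd_prime_iff_eq hpp (by norm_num)).1 hd] at hp
    have h110 : (11 : F) = 0 := CharP.cast_eq_zero F 11
    have hord : orderOf u = 12 := hu
    have hne : ∀ k : ℕ, k = 6 ∨ k = 4 → (u : F) ^ k ≠ 1 := fun k hk e => by
      have hd := orderOf_dvd_of_pow_eq_one (Units.ext (by rw [Units.val_pow_eq_pow_val, e, Units.val_one]) : u ^ k = 1)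
      rw [hord] at hd
      rcases hk with rfl | rfl <;> omega
    set w := (u : F) with hw
    have h12 : w ^ 12 = 1 := huN
    have h6 : w ^ 6 = -1 := (sq_eq_one_iff.1 (by rw [← pow_mul]; exact h12)).resolve_left (hne 6 (Or.inl rfl))
    have hquart : w ^ 4 - w ^ 2 + 1 = 0 := by
      have e : (w ^ 2 + 1) * (w ^ 4 - w ^ 2 + 1) = 0 := by linear_combination h6
      exact (mul_eq_zero.1 e).resolve_left fun e' => hne 4 (Or.inr rfl) (by linear_combination (w ^ 2 - 1) * e')
    obtain ⟨a, ha, ha2, ha12⟩ : ∃ a : F, a ^ 2 - 5 * a + 1 = 0 ∧ a ^ 6 = -1 ∧ a ^ 12 = 1 := by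
      have e : (w ^ 2 - 5 * w + 1) * (w ^ 2 + 5 * w + 1) = 0 := by
        linear_combination hquart - 2 * w ^ 2 * h110
      rcases mul_eq_zero.1 e with e | e
      · exact ⟨w, e, h6, h12⟩
      · exact ⟨-w, by linear_combination e, by linear_combination h6, by linear_combination h12⟩
    have hv2 : ((a ^ 3)⁻¹) ^ 2 = -1 := by rw [inv_pow, ← pow_mul, ha2, inv_neg, inv_one]
    have hne1 : (-1 : F) ≠ 1 := fun e => h20 (by linear_combination -e)
    have hx : UCtx 11 τ M a := ⟨h, ha12, fun e => hne1 (by rw [← hv2, e, one_pow]),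
      fun e => hne1 (hv2.symm.trans e), hno⟩
    exact fun c hc => hx.eleven ha hc

/-- The dichotomy over the standard frame. -/
theorem eq_or (h : UMonoThree q τ M) (hq5 : q ≠ 5) : (∀ g ∈ M, IsMono g) ∨ su3 F q ≤ M := by
  classical
  by_cases hel : HasElation M
  swap
  · exact Or.inl (h.mono_of_not_elation hq5 hel)
  obtain ⟨u, hu, huN⟩ := h.exists_omega
  rcases Nat.lt_or_ge q 4 with hlt | hq4
  · have hq : q = 3 := by have := h.setup.three_le; omega
    exact Or.inr (uPrimeStmt h.setup (hq ▸ Nat.prime_three) M h.le h.irr hel)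
  have hT : ∀ t : Fin 3 → F, (∀ i, t i ^ (q + 1) = 1) → t 0 * t 1 * t 2 = 1 → DiagIn M 1 t := by
    intro t htN ht
    have h0 : ∀ i, t i ≠ 0 := fun i e => by have := htN i; simp [e] at this
    refine ⟨_, h.diag (fun i => Units.mk0 (t i) (h0 i)) htN (Units.ext (by simpa using ht)), ?_⟩
    rw [Units.val_one, mul_one, one_mul, monoGL_val]
    ext x y
    rcases eq_or_ne x y with rfl | hxy
    · simp [monoMat]
    · simp [monoMat, hxy]
  rcases uSplitStmt h.setup hq4 M h.le h.irr 1 (fun i j hij => by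
      simp [Cfsg.hermForm, Matrix.one_apply, hij, hij.symm, zero_pow (show q ≠ 0 by omega), apply_ite (· ^ q)]) hT hel with h1 | ⟨h2, hR⟩
  · exact Or.inr h1
  refine Or.inl fun g hg => ?_
  have heven : (q + 1) % 2 = 1 := by
    haveI : CharP F 2 := CharTwo.of_one_ne_zero_of_two_eq_zero one_ne_zero h2
    have := h.char_dvd 2 inferInstance
    omega
  let T : Fˣ × Fˣ →* GL (Fin 3) F := diagHom F
  let S : Subgroup (Fˣ × Fˣ) := (Subgroup.zpowers u).prod (Subgroup.zpowers u)
  have hpow : ∀ x ∈ Subgroup.zpowers u, ((x : Fˣ) : F) ^ (q + 1) = 1 := fun x hx => by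
    have := orderOf_dvd_iff_pow_eq_one.1 ((orderOf_dvd_of_mem_zpowers hx).trans (dvd_refl _))
    rw [hu] at this
    rw [← Units.val_pow_eq_pow_val, this, Units.val_one]
  have hdiag : ∀ a ∈ S.map T, ∃ t : Fin 3 → F, (a : M3) * ((1 : GL (Fin 3) F) : M3) =
      ((1 : GL (Fin 3) F) : M3) * Matrix.diagonal t := by
    rintro _ ⟨t, -, rfl⟩
    refine ⟨fun k => ((![t.1, t.2, (t.1 * t.2)⁻¹] k : Fˣ) : F), ?_⟩
    rw [Units.val_one, mul_one, one_mul]
    show monoMat 1 _ = _
    ext x y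
    rcases eq_or_ne x y with rfl | hxy
    · simp [monoMat]
    · simp [monoMat, hxy]
  have hle : S.map T ≤ M := by
    rintro _ ⟨t, ⟨ht1, ht2⟩, rfl⟩
    refine h.diag _ (fun k => ?_) (by simp)
    fin_cases k
    · exact hpow _ ht1
    · exact hpow _ ht2
    · exact hpow _ (inv_mem (mul_mem ht1 ht2))
  have hpow' : ∀ m : ℕ, m = 6 ∨ m = 12 → (u : F) ^ m ≠ 1 := by
    intro m hm e
    have hd := orderOf_dvd_of_pow_eq_one (Units.ext (by rw [Units.val_pow_eq_pow_val, e, Units.val_one]) : u ^ m = 1)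
    have hd' : orderOf u ∣ 12 := hd.trans (by rcases hm with rfl | rfl <;> norm_num)
    rw [hu] at hd'
    have hle' := Nat.le_of_dvd (by norm_num) hd'
    have hq11 : q ≤ 11 := by omega
    interval_cases q <;> omega
  have hcard : Nat.card (S.map T) = (q + 1) ^ 2 := by
    have hinj : Function.Injective (diagHom F) := by
      intro s t hst
      have := congrArg (fun g : GL (Fin 3) F => ((g : M3) 0 0, (g : M3) 1 1)) hst
      simp [diagHom, monoGL_val, monoMat] at this
      exact Prod.ext (Units.ext this.1) (Units.ext this.2)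
    rw [← Nat.card_congr (S.equivMapOfInjective T hinj).toEquiv,
      Nat.card_congr (Subgroup.prodEquiv _ _).toEquiv, Nat.card_prod, Nat.card_zpowers, hu, sq]
  have hMmono := solvStmt M (fun g hg => (h.le hg).2) h.irr (rankOneStmt h2 M (fun g hg => (h.le hg).2) hR) 1
    (S.map T) hle hdiag
    ⟨T (u, 1), ![(u : F), 1, (u : F)⁻¹], ⟨_, ⟨Subgroup.mem_zpowers u, one_mem _⟩, rfl⟩, by
      rw [Units.val_one, mul_one, one_mul]
      show monoMat 1 _ = _
      ext x y
      rcases eq_or_ne x y with rfl | hxy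
      · fin_cases x <;> simp [monoMat]
      · simp [monoMat, hxy], by
      have h6 := hpow' 6 (Or.inl rfl)
      have h12 := hpow' 12 (Or.inr rfl)
      have hu0 : (u : F) ^ 6 ≠ 0 := pow_ne_zero 6 u.ne_zero
      intro i j hij e
      have h12' : (u : F) ^ 6 * (u : F) ^ 6 ≠ 1 := by rwa [← pow_add]
      fin_cases i <;> fin_cases j <;>
        simp [inv_eq_iff_eq_inv, eq_inv_iff_mul_eq_one] at hij e <;> first
        | exact h6 e
        | exact h6 e.symm
        | exact h12' e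
        | exact h12' (by nth_rw 2 [e]; exact mul_inv_cancel₀ hu0)
        | exact h12' (by nth_rw 2 [← e]; exact mul_inv_cancel₀ hu0)⟩
    (by
      rw [hcard]
      rcases Nat.lt_or_ge q 8 with h8 | h8
      · left; interval_cases q <;> omega
      · right; nlinarith) g hg
  obtain ⟨π, t, ht⟩ := hMmono
  intro k
  refine ⟨π k, fun l hl => ?_⟩
  have := congrFun (ht k) l
  simp only [Units.val_one, Matrix.one_mulVec] at this
  rw [col_mulVec] at this
  simpa [hl] using this

end UMonoThree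

theorem USetup.exists_not_mono (H : USetup (F := F) q τ) : ∃ g ∈ su3 F q, ¬ IsMono g := by
  have hq := H.three_le
  obtain ⟨ρ, hρ⟩ : ∃ ρ : F, ρ * ρ ^ q = -1 := by
    obtain ⟨ρ, hρ⟩ := (⟨H.card, H.pow, H.form⟩ : CfsgLib.UnMono.Ctx 3 q τ).exists_nm (c := -1)
      (by rw [map_neg, map_one])
    exact ⟨ρ, by rwa [H.pow] at hρ⟩
  have hρ0 : ρ ≠ 0 := fun e => by simp [e] at hρ
  have hvv : hf3 F q (![1, ρ, 0] : V3) ![1, ρ, 0] = 0 := by
    simp [Cfsg.hermForm, Fin.sum_univ_three, hρ]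
  obtain ⟨k, hk, hk0, hk1⟩ : ∃ k : F, τ k = -k ∧ k ≠ 0 ∧ k ≠ -1 := by
    have := H.skew_card
    have h3 : ({0, -1} : Set F).ncard < (H.skew).ncard := by
      have := Set.ncard_insert_le (0 : F) {-1}
      rw [Set.ncard_singleton] at this
      omega
    obtain ⟨k, hk, hk'⟩ := Set.exists_mem_notMem_of_ncard_lt_ncard h3
    simp only [Set.mem_insert_iff, Set.mem_singleton_iff, not_or] at hk'
    exact ⟨k, hk, hk'.1, hk'.2⟩
  refine ⟨_, utv_mem_su H.form hvv hk, fun hm => ?_⟩
  obtain ⟨i, hi⟩ := hm 0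
  have hf : fvec (hf3 F q) (![1, ρ, 0] : V3) 0 = 1 := by
    simp [fvec, Cfsg.hermForm, Fin.sum_univ_three, Pi.single_apply]
  rcases eq_or_ne i 0 with rfl | hi0
  · have h1 := hi 1 (by decide)
    rw [tv_val, Matrix.add_apply, Matrix.vecMulVec_apply, hf, Matrix.one_apply_ne (by decide)] at h1
    simp [hk0, hρ0] at h1
  · have h0 := hi 0 hi0.symm
    rw [tv_val, Matrix.add_apply, Matrix.vecMulVec_apply, hf, Matrix.one_apply_eq] at h0
    simp at h0
    exact hk1 (by linear_combination h0)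

/-- Row 3 of S5777. -/
theorem uMonoRow (H : USetup (F := F) q τ) : UMonoRow (F := F) q := by
  intro hq5 D hD
  have K : CfsgLib.UnMono.Ctx 3 q τ := ⟨H.card, H.pow, H.form⟩
  obtain ⟨ee, P, hPU, hP⟩ := Cfsg.Agent.S5655.exists_onb_frame K D hD
  have hstab := mem_stab_iff_isBlock D ee P hP hD.decomp.finrank_eq
  have hblk := fun g : GL (Fin 3) F => Cfsg.Agent.S5655.isMono_iff_block ee g
  have hsu : ∀ g, g ∈ suGL 3 F q → P⁻¹ * g * P ∈ suGL 3 F q := fun g hg => by
    simpa using CfsgLib.UnMono.conj_mem_su K (a := P⁻¹) ((Cfsg.GU 3 F q).inv_mem hPU) hg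
  have hsu' : ∀ g, g ∈ suGL 3 F q → P * g * P⁻¹ ∈ suGL 3 F q := fun g hg => CfsgLib.UnMono.conj_mem_su K hPU hg
  constructor
  · refine lt_of_le_of_ne inf_le_right fun heq => ?_
    obtain ⟨g, hg, hgb⟩ := H.exists_not_mono
    have h1 : P * g * P⁻¹ ∈ Cfsg.Geo.decompositionStabilizer D ⊓ su3 F q := heq.symm ▸ hsu' g hg
    have h2 := (hstab _).1 h1.1
    rw [show P⁻¹ * (P * g * P⁻¹) * P = g by group] at h2
    exact hgb ((hblk g).1 h2)
  intro X hHX hXS
  let X' := X.map (MulAut.conj P⁻¹).toMonoidHom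
  have hmem : ∀ g, g ∈ X' ↔ P * g * P⁻¹ ∈ X := fun g => by rw [Subgroup.mem_map_equiv]; simp
  have hM : UMonoThree q τ X' := ⟨H, fun g hg => by
      have := hsu _ (hXS ((hmem g).1 hg))
      rwa [show P⁻¹ * (P * g * P⁻¹) * P = g by group] at this,
    fun g hg hgm => (hmem g).2 (hHX ⟨(hstab _).2 (by
      rw [show P⁻¹ * (P * g * P⁻¹) * P = g by group]; exact (hblk g).2 hgm), hsu' g hg⟩)⟩
  rcases hM.eq_or hq5 with h | h
  · refine Or.inl (le_antisymm (fun g hg => ⟨(hstab g).2 ((hblk _).2 (h _ ((hmem _).2 ?_))), hXS hg⟩) hHX)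
    rwa [show P * (P⁻¹ * g * P) * P⁻¹ = g by group]
  · refine Or.inr (le_antisymm hXS fun g hg => ?_)
    have h3 := (hmem _).1 (h (hsu g hg))
    rwa [show P * (P⁻¹ * g * P) * P⁻¹ = g by group] at h3

end CfsgLib.Dim3Max
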