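import Cfsg.Agent.Lib.Dim3Max.LinMono
import Cfsg.Agent.Lib.Maximal.HermTv

/-!
The centres of the diagonal homologies in an overgroup of the unitary monomial group without elations are the
vertices: for large `q` by `centre_dichotomy`, for `q = 3, 11` by explicit translates on secants that are tangents.
-/

set_option autoImplicit false
set_option linter.unusedSectionVars false

namespace CfsgLib.Dim3Max

open scoped Matrix MatrixGroups
open CfsgLib.Maximal

universe u

variable {F : Type u} [Field F] [Fintype F] {q : ℕ} {τ : F ≃+* F} {M : Subgroup (GL (Fin 3) F)}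

local notation "M3" => Matrix (Fin 3) (Fin 3) F
local notation "V3" => (Fin 3 → F)

theorem mem_su3_iff (g : GL (Fin 3) F) : g ∈ su3 F q ↔
    (∀ u v, hf3 F q ((g : M3) *ᵥ u) ((g : M3) *ᵥ v) = hf3 F q u v) ∧ (g : M3).det = 1 := by
  rw [Subgroup.mem_inf, mem_GU_iff, mem_specialLinear_iff]

theorem monoGL_mem_su3 (σ : Equiv.Perm (Fin 3)) (d : Fin 3 → Fˣ) (hd : ∀ k, (d k : F) ^ (q + 1) = 1)
    (hdet : monoGL σ d ∈ sl3 F) : monoGL σ d ∈ su3 F q := by
  refine (mem_su3_iff _).2 ⟨fun u v => ?_, (mem_specialLinear_iff _).1 hdet⟩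
  simp only [monoGL_val, Cfsg.hermForm, monoMat_mulVec']
  refine Fintype.sum_equiv σ.symm _ _ fun l => ?_
  rw [mul_pow, mul_mul_mul_comm, ← pow_succ', hd, one_mul]

/-- The subgroup lies over the unitary monomial group of the standard frame. -/
structure UMonoThree (q : ℕ) (τ : F ≃+* F) (M : Subgroup (GL (Fin 3) F)) : Prop where
  setup : USetup q τ (F := F)
  le : M ≤ su3 F q
  mono : ∀ g ∈ su3 F q, IsMono g → g ∈ M

namespace UMonoThree

theorem card_units (h : UMonoThree q τ M) : Nat.card Fˣ = (q - 1) * (q + 1) := by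
  classical
  rw [Nat.card_eq_fintype_card, Fintype.card_units, h.setup.card, mul_comm, ← Nat.sq_sub_sq, one_pow]

theorem exists_omega (h : UMonoThree q τ M) : ∃ ω : Fˣ, orderOf ω = q + 1 ∧ (ω : F) ^ (q + 1) = 1 := by
  obtain ⟨u, hu⟩ := IsCyclic.exists_ofOrder_eq_natCard (α := Fˣ)
  rw [h.card_units] at hu
  have hq := h.setup.three_le
  have ho : orderOf (u ^ (q - 1)) = q + 1 := by
    rw [orderOf_pow' u (by omega), hu, Nat.gcd_eq_right (Dvd.intro _ rfl), Nat.mul_div_cancel_left _ (by omega)]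
  exact ⟨u ^ (q - 1), ho, by rw [← Units.val_pow_eq_pow_val, ← ho, pow_orderOf_eq_one, Units.val_one]⟩

theorem pow_mul_self (h : UMonoThree q τ M) (x : F) : (x ^ q) ^ q = x := by
  rw [← pow_mul, ← sq, ← h.setup.card, FiniteField.pow_card]

theorem diag (h : UMonoThree q τ M) (d : Fin 3 → Fˣ) (hd : ∀ k, (d k : F) ^ (q + 1) = 1)
    (hd1 : d 0 * d 1 * d 2 = 1) : monoGL 1 d ∈ M :=
  h.mono _ (monoGL_mem_su3 _ _ hd (monoGL_one_mem_specialLinear d (by rwa [Fin.prod_univ_three])))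
    (monoGL_isMono _ _)

theorem exists_perm (h : UMonoThree q τ M) (σ : Equiv.Perm (Fin 3)) :
    ∃ d : Fin 3 → Fˣ, (∀ k, (d k : F) ^ (q + 1) = 1) ∧ monoGL σ d ∈ M := by
  have hm1 : ((-1 : F)) ^ (q + 1) = 1 := by
    have h1 : ((-1 : F) ^ q) = -1 := by rw [← h.setup.pow, map_neg, map_one]
    rw [pow_succ, h1, neg_mul_neg, one_mul]
  have hd : ∀ k : Fin 3, ((Function.update (fun _ => (1 : Fˣ)) 0
      (Units.map (Int.castRingHom F).toMonoidHom (Equiv.Perm.sign σ))) k : F) ^ (q + 1) = 1 := by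
    intro k
    rcases Int.units_eq_one_or (Equiv.Perm.sign σ) with e | e <;> fin_cases k <;> simp [e, hm1]
  refine ⟨_, hd, h.mono _ (monoGL_mem_su3 _ _ hd ((monoGL_mem_specialLinear_iff σ _).2 ?_)) (monoGL_isMono _ _)⟩
  rw [Fin.prod_univ_three]
  rcases Int.units_eq_one_or (Equiv.Perm.sign σ) with e | e <;> simp [e]

theorem irr (h : UMonoThree q τ M) : Irr M := by
  intro W hW
  refine or_iff_not_imp_left.2 fun hne => ?_
  have hinv : ∀ g ∈ M, ∀ w ∈ W, (g : M3) *ᵥ w ∈ W := fun g hg w hw =>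
    hW _ ⟨g, hg, rfl⟩ ⟨w, hw, Matrix.toLin'_apply _ _⟩
  obtain ⟨v, hv, hv0⟩ := Submodule.exists_mem_ne_zero_of_ne_bot hne
  obtain ⟨i, hi⟩ := Function.ne_iff.1 hv0
  obtain ⟨j, k, hij, hik, hjk, hall⟩ := exists_other_two i
  obtain ⟨u, hu, huN⟩ := h.exists_omega
  have hq : 4 ≤ orderOf u := by rw [hu]; have := h.setup.three_le; omega
  have hu1 : (u : F) ≠ 1 := fun e => by rw [show u = 1 from Units.ext e, orderOf_one] at hq; omega
  have hu2 : (u : F) ≠ (u : F)⁻¹ := fun e => by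
    have h2 : u ^ 2 = 1 := Units.ext (by
      rw [Units.val_pow_eq_pow_val, Units.val_one, sq]
      nth_rw 2 [e]
      exact mul_inv_cancel₀ u.ne_zero)
    have := orderOf_le_of_pow_eq_one (by norm_num) h2; omega
  obtain ⟨d, hd, hdi, hdj, hdk⟩ := exists_diag_entries hij hik hjk u 1 u⁻¹ (by simp)
  have hdN : ∀ l, (d l : F) ^ (q + 1) = 1 := fun l => by
    rcases hall l with rfl | rfl | rfl <;> simp [hdi, hdj, hdk, huN]
  have hop : ∀ w ∈ W, (fun l => (d l : F) * w l) ∈ W := fun w hw => by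
    have := hinv _ (h.diag d hdN hd) w hw
    convert this using 1
    funext l; rw [monoGL_val, monoMat_one_mulVec]
  set w₁ := (fun l => (d l : F) * v l) - v
  have hw₁ : w₁ ∈ W := W.sub_mem (hop v hv) hv
  set w₂ := (fun l => (d l : F) * w₁ l) - ((u⁻¹ : Fˣ) : F) • w₁
  have hw₂ : w₂ ∈ W := W.sub_mem (hop _ hw₁) (W.smul_mem _ hw₁)
  have he : w₂ = Pi.single i (((u : F) - (u : F)⁻¹) * ((u : F) - 1) * v i) := by
    funext l
    rcases hall l with e | e | e <;> subst e <;>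
      simp [w₂, w₁, hdi, hdj, hdk, hij.symm, hik.symm] <;> ring
  have hsingle : Pi.single i (1 : F) ∈ W := by
    have hc : ((u : F) - (u : F)⁻¹) * ((u : F) - 1) * v i ≠ 0 :=
      mul_ne_zero (mul_ne_zero (sub_ne_zero.2 hu2) (sub_ne_zero.2 hu1)) hi
    have := W.smul_mem (((u : F) - (u : F)⁻¹) * ((u : F) - 1) * v i)⁻¹ (he ▸ hw₂)
    rwa [← Pi.single_smul', smul_eq_mul, inv_mul_cancel₀ hc] at this
  refine eq_top_iff.2 fun x _ => ?_
  rw [show x = ∑ l, x l • Pi.single l (1 : F) by funext m; simp [Pi.single_apply]]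
  refine W.sum_mem fun l _ => W.smul_mem _ ?_
  obtain ⟨d', -, hd'⟩ := h.exists_perm (Equiv.swap i l)
  have := hinv _ hd' _ hsingle
  have e : (monoGL (Equiv.swap i l) d' : M3) *ᵥ Pi.single i 1 = Pi.single l (d' i : F) := by
    funext m
    rw [monoGL_val, monoMat_mulVec']
    rcases eq_or_ne m l with rfl | hm
    · simp
    · have h' : Equiv.swap i l m ≠ i := fun e' => hm (by simpa using congrArg (Equiv.swap i l) e')
      simp [Equiv.symm_swap, h', hm]
  rw [e] at this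
  have := W.smul_mem ((d' i : F))⁻¹ this
  rwa [← Pi.single_smul', smul_eq_mul, inv_mul_cancel₀ (d' i).ne_zero] at this

end UMonoThree

/-- The conjugate functional. -/
def qpow (q : ℕ) (c : V3) : V3 := fun l => c l ^ q

theorem single_vecMul_inv (hq : q ≠ 0) {g : GL (Fin 3) F} (hg : g ∈ su3 F q) (k : Fin 3) :
    (Pi.single k 1 : V3) ᵥ* ((g⁻¹ : GL (Fin 3) F) : M3) = qpow q ((g : M3) *ᵥ Pi.single k 1) := by
  refine dot_ext fun x => ?_
  have hform := ((mem_su3_iff g).1 hg).1 (((g⁻¹ : GL (Fin 3) F) : M3) *ᵥ x) (Pi.single k 1)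
  rw [Matrix.mulVec_mulVec, ← Units.val_mul, mul_inv_cancel, Units.val_one, Matrix.one_mulVec] at hform
  rw [← Matrix.dotProduct_mulVec, single_one_dotProduct,
    show qpow q ((g : M3) *ᵥ Pi.single k 1) ⬝ᵥ x = hf3 F q x ((g : M3) *ᵥ Pi.single k 1) from
      Finset.sum_congr rfl fun l _ => mul_comm _ _, hform]
  simp [Cfsg.hermForm, Pi.single_apply, zero_pow hq]

/-- The images of the vertices. -/
def Ctr (M : Subgroup (GL (Fin 3) F)) (c : V3) : Prop := ∃ g ∈ M, ∃ k, (g : M3) *ᵥ Pi.single k 1 = c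

/-- An overgroup of the monomial group without elations, with the homology of eigenvalue `a`. -/
structure UCtx (q : ℕ) (τ : F ≃+* F) (M : Subgroup (GL (Fin 3) F)) (a : F) : Prop where
  base : UMonoThree q τ M
  aN : a ^ (q + 1) = 1
  v1 : (a ^ 3)⁻¹ ≠ 1
  v2 : ((a ^ 3)⁻¹) ^ 2 ≠ 1
  hno : ¬ HasElation M

namespace UCtx

variable {a : F} (h : UCtx q τ M a)
include h

theorem a0 : a ≠ 0 := fun e => by have := h.aN; simp [e] at this

theorem q0 : q ≠ 0 := by have := h.base.setup.three_le; omega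

theorem hom_single (i : Fin 3) : Hom M a (Pi.single i 1) (Pi.single i 1) := by
  obtain ⟨j, k, hij, hik, hjk, hall⟩ := exists_other_two i
  obtain ⟨u, hu⟩ : ∃ u : Fˣ, (u : F) = a := ⟨Units.mk0 a h.a0, rfl⟩
  obtain ⟨d, hd, hdi, hdj, hdk⟩ := exists_diag_entries hij hik hjk (u * u)⁻¹ u u (by rw [mul_assoc, inv_mul_cancel])
  have hdN : ∀ l, (d l : F) ^ (q + 1) = 1 := fun l => by
    rcases hall l with rfl | rfl | rfl <;> simp [hdi, hdj, hdk, hu, mul_pow, h.aN]
  refine ⟨by simp, _, h.base.diag d hdN hd, ?_⟩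
  rw [monoGL_val, homMat]
  have ha := h.a0
  ext x y
  rcases eq_or_ne x y with rfl | hxy
  · rcases hall x with rfl | rfl | rfl
    · simp [monoMat, Matrix.vecMulVec_apply, hdi, hu]
      field_simp
    · simp [monoMat, Matrix.vecMulVec_apply, hdj, hij.symm, hu]
    · simp [monoMat, Matrix.vecMulVec_apply, hdk, hik.symm, hu]
  · simp [monoMat, Matrix.vecMulVec_apply, hxy, Matrix.one_apply]
    rcases eq_or_ne x i with rfl | hx
    · simp [hxy.symm]
    · simp [hx]

theorem hom {c : V3} (hc : Ctr M c) : Hom M a c (qpow q c) := by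
  obtain ⟨g, hg, k, rfl⟩ := hc
  have := (h.hom_single k).conj hg
  rwa [single_vecMul_inv h.q0 (h.base.le hg)] at this

theorem single (i : Fin 3) : Ctr M (Pi.single i 1 : V3) :=
  ⟨1, one_mem M, i, by rw [Units.val_one, Matrix.one_mulVec]⟩

theorem sum_norm {c : V3} (hc : Ctr M c) : c 0 ^ (q + 1) + c 1 ^ (q + 1) + c 2 ^ (q + 1) = 1 := by
  simpa [qpow, dotProduct, Fin.sum_univ_three, pow_succ] using (h.hom hc).1

theorem mulVec {c : V3} (hc : Ctr M c) {g : GL (Fin 3) F} (hg : g ∈ M) : Ctr M ((g : M3) *ᵥ c) := by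
  obtain ⟨g', hg', k, rfl⟩ := hc
  exact ⟨g * g', mul_mem hg hg', k, by rw [Units.val_mul, Matrix.mulVec_mulVec]⟩

theorem ne_zero {c : V3} (hc : Ctr M c) : c ≠ 0 := fun e => by
  have := h.sum_norm hc; simp [e] at this

/-- Two centres on a tangent are equal. -/
theorem meet {c c' : V3} (hc : Ctr M c) (hc' : Ctr M c')
    (he : (qpow q c ⬝ᵥ c') * (qpow q c' ⬝ᵥ c) = 1) : c' ∈ Submodule.span F {c} :=
  by_contra fun hne => h.hno (hasElation_of_meet h.a0 h.v1 h.v2 (h.hom hc) (h.hom hc') he hne)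

theorem of_norm_one {c : V3} (hc : Ctr M c) {l : Fin 3} (hl : c l ^ (q + 1) = 1) :
    ∃ i, ∀ m, m ≠ i → c m = 0 := by
  obtain ⟨t, ht⟩ := Submodule.mem_span_singleton.1 (h.meet (h.single l) hc (by
    rw [show qpow q (Pi.single l 1 : V3) = Pi.single l 1 from
      funext fun m => by rcases eq_or_ne m l with rfl | hm <;> simp [qpow, zero_pow h.q0, *]]
    simpa [qpow, pow_succ, mul_comm] using hl))
  exact ⟨l, fun m hm => by simp [← ht, hm]⟩

theorem perm {c : V3} (hc : Ctr M c) (σ : Equiv.Perm (Fin 3)) :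
    ∃ c', Ctr M c' ∧ ∀ l, c' (σ l) ^ (q + 1) = c l ^ (q + 1) := by
  obtain ⟨d, hd, hd'⟩ := h.base.exists_perm σ
  refine ⟨_, h.mulVec hc hd', fun l => ?_⟩
  rw [monoGL_val, monoMat_mulVec, mul_pow, hd, one_mul]

/-- The image of a centre under the homology at another one. -/
theorem moved {c c' : V3} (hc : Ctr M c) (hc' : Ctr M c') :
    Ctr M (a • (c' + (((a ^ 3)⁻¹ - 1) * (qpow q c ⬝ᵥ c')) • c)) := by
  obtain ⟨-, s, hs, hsv⟩ := h.hom hc
  convert h.mulVec hc' hs using 1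
  rw [hsv, homMat, Matrix.smul_mulVec, Matrix.add_mulVec, Matrix.one_mulVec, Matrix.smul_mulVec,
    Matrix.vecMulVec_mulVec, op_smul_eq_smul, smul_smul]

/-- Two sides through a common vertex. -/
theorem side_false {c : V3} (hc : Ctr M c) (h2 : c 2 = 0) (h1 : c 1 ≠ 0)
    (hn : (c 0 ^ (q + 1)) ^ 2 = 1) : False := by
  obtain ⟨d, hd, hd'⟩ := h.base.exists_perm (Equiv.swap 1 2)
  set g := monoGL (Equiv.swap 1 2) d
  have hc' := h.mulVec hc hd'
  have e0 : ((g : M3) *ᵥ c) 0 = d 0 * c 0 := by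
    rw [monoGL_val, monoMat_mulVec']; simp [Equiv.symm_swap, Equiv.swap_apply_def]
  have e1 : ((g : M3) *ᵥ c) 1 = 0 := by
    rw [monoGL_val, monoMat_mulVec']; simp [Equiv.symm_swap, Equiv.swap_apply_def, h2]
  have e2 : ((g : M3) *ᵥ c) 2 = d 1 * c 1 := by
    rw [monoGL_val, monoMat_mulVec']; simp [Equiv.symm_swap, Equiv.swap_apply_def]
  obtain ⟨t, ht⟩ := Submodule.mem_span_singleton.1 (h.meet hc hc' (by
    simp only [qpow, dotProduct, Fin.sum_univ_three, e0, e1, e2, h2, zero_pow h.q0, mul_zero, zero_mul, add_zero]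
    have hd0 := hd 0
    rw [pow_succ] at hd0 hn
    rw [mul_pow]
    linear_combination ((c 0) ^ q * c 0) ^ 2 * hd0 + hn))
  have := congrFun ht 2
  rw [e2, Pi.smul_apply, h2, smul_zero] at this
  exact mul_ne_zero (d 1).ne_zero h1 this.symm

/-- A torus translate on a tangent. -/
theorem inner_false {c : V3} (hc : Ctr M c) (hc0 : ∀ l, c l ≠ 0) (t : Fin 3 → Fˣ)
    (htN : ∀ l, (t l : F) ^ (q + 1) = 1) (ht1 : t 0 * t 1 * t 2 = 1) (hne : t 0 ≠ t 1 ∨ t 1 ≠ t 2) {A B C : F}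
    (hA : (t 0 : F) / t 1 + t 1 / t 0 = A) (hB : (t 1 : F) / t 2 + t 2 / t 1 = B)
    (hC : (t 0 : F) / t 2 + t 2 / t 0 = C)
    (hrel : c 0 ^ (q + 1) * c 1 ^ (q + 1) * (A - 2) + c 1 ^ (q + 1) * c 2 ^ (q + 1) * (B - 2) +
      c 0 ^ (q + 1) * c 2 ^ (q + 1) * (C - 2) = 0) : False := by
  have hc' := h.mulVec hc (h.base.diag t htN ht1)
  have e : ((monoGL 1 t : GL (Fin 3) F) : M3) *ᵥ c = fun l => (t l : F) * c l := by
    funext m; rw [monoGL_val, monoMat_one_mulVec]
  rw [e] at hc'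
  have hinv : ∀ l, ((t l : F)) ^ q = ((t l : F))⁻¹ := fun l =>
    eq_inv_of_mul_eq_one_left (by rw [← pow_succ, htN])
  have hsum := h.sum_norm hc
  obtain ⟨x, hx⟩ := Submodule.mem_span_singleton.1 (h.meet hc hc' (by
    simp only [qpow, dotProduct, Fin.sum_univ_three, mul_pow, hinv]
    simp only [pow_succ] at hrel hsum
    rw [← hA, ← hB, ← hC] at hrel
    field_simp at hrel ⊢
    linear_combination hrel + (t 0 : F) * t 1 * t 2 *
      (c 0 ^ q * c 0 + c 1 ^ q * c 1 + c 2 ^ q * c 2 + 1) * hsum))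
  have ht : ∀ l, x = t l := fun l => mul_right_cancel₀ (hc0 l) (congrFun hx l)
  rcases hne with hh | hh
  · exact hh (Units.ext ((ht 0).symm.trans (ht 1)))
  · exact hh (Units.ext ((ht 1).symm.trans (ht 2)))

/-- Three elements: every column is single. -/
theorem three (h3 : q = 3) {c : V3} (hc : Ctr M c) : ∃ i, ∀ m, m ≠ i → c m = 0 := by
  subst h3
  by_contra hcon
  have hn : ∀ l, c l ^ (3 + 1) ≠ 1 := fun l e => hcon (h.of_norm_one hc e)
  have hsq : ∀ l, c l = 0 ∨ c l ^ (3 + 1) = -1 := fun l => or_iff_not_imp_left.2 fun hl =>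
    (sq_eq_one_iff.1 (by
      rw [← pow_mul, show (3 + 1) * 2 = Fintype.card F - 1 by rw [h.base.setup.card]; norm_num,
        FiniteField.pow_card_sub_one_eq_one _ hl])).resolve_left (hn l)
  have hsum := h.sum_norm hc
  haveI : CharP F 3 := by
    obtain ⟨p, hp⟩ := CharP.exists F
    obtain ⟨n, hpp, hpn⟩ := FiniteField.card F p
    have h1 : p ∣ 3 ^ 2 := by rw [← h.base.setup.card, hpn]; exact dvd_pow_self p n.pos.ne'
    rwa [(Nat.prime_dvd_prime_iff_eq hpp Nat.prime_three).1 (hpp.dvd_of_dvd_pow h1)] at hp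
  have h30 : (3 : F) = 0 := CharP.cast_eq_zero F 3
  -- exactly one coordinate vanishes
  obtain ⟨l₀, hl₀⟩ : ∃ l₀, c l₀ = 0 := by
    by_contra hnz
    push Not at hnz
    rw [(hsq 0).resolve_left (hnz 0), (hsq 1).resolve_left (hnz 1), (hsq 2).resolve_left (hnz 2)] at hsum
    exact one_ne_zero (α := F) (by linear_combination -hsum - h30)
  obtain ⟨c', hc', hN⟩ := h.perm hc (Equiv.swap l₀ 2)
  have h2 : c' 2 = 0 := by
    have := hN l₀
    rw [Equiv.swap_apply_left, hl₀, zero_pow (by norm_num)] at this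
    exact pow_eq_zero_iff (by norm_num) |>.1 this
  have hv : ∀ l, c' l = 0 ∨ c' l ^ (3 + 1) = -1 := fun l => by
    obtain ⟨m, rfl⟩ := (Equiv.swap l₀ 2).surjective l
    rcases hsq m with e | e
    · left
      have := hN m
      rw [e, zero_pow (by norm_num)] at this
      exact pow_eq_zero_iff (by norm_num) |>.1 this
    · exact Or.inr ((hN m).trans e)
  have hsum' := h.sum_norm hc'
  rw [h2, zero_pow (by norm_num), add_zero] at hsum'
  rcases hv 1 with e1 | e1
  · rw [e1, zero_pow (by norm_num), add_zero] at hsum'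
    rcases hv 0 with e0 | e0 <;> rw [e0] at hsum'
    · simp at hsum'
    · exact one_ne_zero (α := F) (by linear_combination h30 + hsum')
  · refine h.side_false hc' h2 (fun e => by simp [e] at e1) ?_
    rw [show c' 0 ^ (3 + 1) = 2 by linear_combination hsum' - e1]
    linear_combination h30

end UCtx

end CfsgLib.Dim3Max
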