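import Cfsg.Agent.Lib.Dim3Max.UMonoCtr

/-!
The centres for `q = 11`: some torus translate of every other possible centre, or of its image under its own
homology, lies on a tangent through it.
-/

set_option autoImplicit false
set_option linter.unusedSectionVars false

namespace CfsgLib.Dim3Max

open scoped Matrix MatrixGroups
open CfsgLib.Maximal

universe u

/-- The sums of a power of a root of `X² - 5X + 1` and of its inverse, two at a time. -/
def elevenTraces : ℕ → ZMod 11 × ZMod 11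
  | 0 => (2, 5)
  | k + 1 => ((elevenTraces k).2, 5 * (elevenTraces k).2 - (elevenTraces k).1)

/-- Exponents of torus elements with their traces. -/
def elevenWit : List ((ℕ × ℕ) × ZMod 11 × ZMod 11 × ZMod 11) :=
  [((0, 6), 7, 0, 7), ((0, 1), 3, 10, 3), ((0, 2), 10, 8, 10), ((0, 3), 9, 7, 9), ((0, 4), 8, 8, 8),
    ((0, 5), 4, 10, 4), ((1, 0), 3, 3, 10), ((1, 3), 10, 4, 4), ((1, 11), 10, 3, 3), ((1, 1), 0, 9, 9),
    ((2, 6), 8, 10, 10), ((1, 7), 7, 9, 9), ((1, 4), 9, 9, 7), ((1, 8), 4, 4, 10), ((1, 10), 9, 9, 0)]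

/-- A triple of norms put on a tangent by one of the translates. -/
def elevenRel (n₀ n₁ n₂ : ZMod 11) : Prop :=
  ∃ x ∈ elevenWit, n₀ * n₁ * x.2.1 + n₁ * n₂ * x.2.2.1 + n₀ * n₂ * x.2.2.2 = 0

instance (n₀ n₁ n₂ : ZMod 11) : Decidable (elevenRel n₀ n₁ n₂) := by unfold elevenRel; infer_instance

theorem elevenWit_spec : ∀ x ∈ elevenWit, x.1.1 ≤ 2 ∧ x.1.2 ≤ 11 ∧
    (elevenTraces (x.1.1 + 12 - x.1.2)).1 = x.2.1 + 2 ∧
    (elevenTraces (x.1.2 + 12 - (24 - x.1.1 - x.1.2) % 12)).1 = x.2.2.1 + 2 ∧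
    (elevenTraces (x.1.1 + 12 - (24 - x.1.1 - x.1.2) % 12)).1 = x.2.2.2 + 2 ∧
    (x.1.1 ≠ x.1.2 ∨ x.1.2 ≠ (24 - x.1.1 - x.1.2) % 12) := by
  decide

theorem eleven_dec : ∀ n₀ n₁ : ZMod 11, n₀ ≠ 0 → n₁ ≠ 0 → 1 - n₀ - n₁ ≠ 0 →
    elevenRel n₀ n₁ (1 - n₀ - n₁) ∨ (1 - 2 * n₀ + 2 * n₀ ^ 2 ≠ 0 ∧
      elevenRel (1 - 2 * n₀ + 2 * n₀ ^ 2) (2 * n₀ * n₁) (2 * n₀ * (1 - n₀ - n₁))) := by
  decide

theorem eleven_sq : (10 : ZMod 11) ^ 2 = 1 ∧ (1 : ZMod 11) ^ 2 = 1 := by decide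

theorem eleven_step : ∀ m : ZMod 11, 1 - 2 * m + 2 * m ^ 2 ≠ 0 := by decide

theorem eleven_cases : ∀ m : ZMod 11, m = 0 ∨ m = 1 ∨ m = 2 ∨ m = 3 ∨ m = 4 ∨ m = 5 ∨ m = 6 ∨ m = 7 ∨ m = 8 ∨
    m = 9 ∨ m = 10 := by decide

variable {F : Type u} [Field F] [Fintype F] {τ : F ≃+* F} {M : Subgroup (GL (Fin 3) F)} {a : F}

local notation "M3" => Matrix (Fin 3) (Fin 3) F
local notation "V3" => (Fin 3 → F)

namespace UCtx

variable [Fact (Nat.Prime 11)] [CharP F 11] (h : UCtx 11 τ M a) (ha : a ^ 2 - 5 * a + 1 = 0)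
include h ha

local notation "ff" => (ZMod.castHom (dvd_refl 11) F)

omit h ha in
theorem h11 : (11 : F) = 0 := CharP.cast_eq_zero F 11

theorem a_six : a ^ 6 = -1 := by
  have h3 : a ^ 3 = 2 * a + 6 := by linear_combination (a + 5) * ha + (2 * a - 1) * h11 (F := F)
  linear_combination (a ^ 3 + 2 * a + 6) * h3 + 4 * ha + (4 * a + 3) * h11 (F := F)

theorem two_ne : (2 : F) ≠ 0 := by
  intro e
  have h1 : (1 : F) = 0 := by linear_combination h11 (F := F) - 5 * e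
  exact one_ne_zero h1

theorem w_norm (n : F) (hn : n ^ 11 = n) : (1 + ((a ^ 3)⁻¹ - 1) * n) ^ 12 = 1 - 2 * n + 2 * n ^ 2 := by
  obtain ⟨v, hv⟩ : ∃ v, v = (a ^ 3)⁻¹ := ⟨_, rfl⟩
  rw [← hv]
  have hv2 : v ^ 2 = -1 := by rw [hv, inv_pow, ← pow_mul, h.a_six ha, inv_neg, inv_one]
  have hv11 : v ^ 11 = -v := by rw [show v ^ 11 = v * (v ^ 2) ^ 5 by ring, hv2]; ring
  rw [pow_succ, add_pow_char, mul_pow, sub_pow_char, one_pow, hv11, hn]
  linear_combination -(n ^ 2) * hv2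

theorem w_mul_norm : ((a ^ 3)⁻¹ - 1) ^ 12 = 2 := by
  obtain ⟨v, hv⟩ : ∃ v, v = (a ^ 3)⁻¹ := ⟨_, rfl⟩
  rw [← hv]
  have hv2 : v ^ 2 = -1 := by rw [hv, inv_pow, ← pow_mul, h.a_six ha, inv_neg, inv_one]
  have hv11 : v ^ 11 = -v := by rw [show v ^ 11 = v * (v ^ 2) ^ 5 by ring, hv2]; ring
  rw [pow_succ, sub_pow_char, one_pow, hv11]
  linear_combination -hv2

theorem norm_fix (x : F) : (x ^ 12) ^ 11 = x ^ 12 := by
  rcases eq_or_ne x 0 with rfl | hx
  · simp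
  · rw [← pow_mul, show 12 * 11 = (Fintype.card F - 1) + 12 by rw [h.base.setup.card]; norm_num, pow_add,
      FiniteField.pow_card_sub_one_eq_one _ hx, one_mul]

theorem exists_m (x : F) : ∃ m : ZMod 11, ff m = x ^ 12 := by
  obtain ⟨n, hn⟩ := exists_natCast_of_mem_bot
    ((Subfield.mem_bot_iff_pow_eq_self (F := F) (p := 11)).2 (h.norm_fix ha x))
  exact ⟨n, by rw [map_natCast, hn]⟩

theorem traces (k : ℕ) : ff (elevenTraces k).1 = a ^ k + (a⁻¹) ^ k ∧
    ff (elevenTraces k).2 = a ^ (k + 1) + (a⁻¹) ^ (k + 1) := by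
  have h0 := h.a0
  have hs : a + a⁻¹ = 5 := by field_simp; linear_combination ha
  induction k with
  | zero => constructor <;> simp [elevenTraces, hs, map_ofNat, -ZMod.castHom_apply] <;> norm_num
  | succ k ih =>
    refine ⟨ih.2, ?_⟩
    simp only [elevenTraces, map_sub, map_mul, ih.1, ih.2, map_ofNat]
    rw [← hs]
    simp only [pow_succ]
    linear_combination (a ^ k + (a⁻¹) ^ k) * (mul_inv_cancel₀ h0)

theorem trace_div {e e' : ℕ} (he : e' ≤ e + 12) {A : ZMod 11} (hA : (elevenTraces (e + 12 - e')).1 = A) :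
    a ^ e / a ^ e' + a ^ e' / a ^ e = ff A := by
  have h0 := h.a0
  have h12 : a ^ 12 = 1 := h.aN
  rw [← hA, (h.traces ha _).1]
  congr 1
  · rw [div_eq_iff (pow_ne_zero _ h0), ← pow_add, Nat.sub_add_cancel he, pow_add, h12, mul_one]
  · rw [inv_pow, div_eq_iff (pow_ne_zero _ h0), eq_inv_mul_iff_mul_eq₀ (pow_ne_zero _ h0), ← pow_add,
      Nat.sub_add_cancel he, pow_add, h12, mul_one]

theorem rel_false {c : V3} (hc : Ctr M c) (hc0 : ∀ l, c l ≠ 0) {m₀ m₁ m₂ : ZMod 11} (h0 : ff m₀ = c 0 ^ 12)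
    (h1 : ff m₁ = c 1 ^ 12) (h2 : ff m₂ = c 2 ^ 12) (hr : elevenRel m₀ m₁ m₂) : False := by
  obtain ⟨x, hx, hxr⟩ := hr
  obtain ⟨hu, hw, hA, hB, hC, hne⟩ := elevenWit_spec x hx
  set e₀ := x.1.1
  set e₁ := x.1.2
  set e₂ := (24 - e₀ - e₁) % 12
  have h12 : a ^ 12 = 1 := h.aN
  have he₂ : e₂ < 12 := Nat.mod_lt _ (by norm_num)
  obtain ⟨u, hu'⟩ : ∃ u : Fˣ, (u : F) = a := ⟨Units.mk0 a h.a0, rfl⟩
  have hu12 : u ^ 12 = 1 := Units.ext (by simpa [hu'] using h12)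
  have hord : orderOf u = 12 := by
    have hd := orderOf_dvd_of_pow_eq_one hu12
    have hle := Nat.le_of_dvd (by norm_num) hd
    have h6 : ¬ orderOf u ∣ 6 := fun h6 => by
      have := congrArg Units.val (orderOf_dvd_iff_pow_eq_one.1 h6)
      rw [Units.val_pow_eq_pow_val, hu', h.a_six ha, Units.val_one] at this
      exact h.two_ne ha (by linear_combination -this)
    have h4 : ¬ orderOf u ∣ 4 := fun h4 => by
      have e4 := congrArg Units.val (orderOf_dvd_iff_pow_eq_one.1 h4)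
      rw [Units.val_pow_eq_pow_val, hu', Units.val_one] at e4
      have h3 : a ^ 3 = 2 * a + 6 := by linear_combination (a + 5) * ha + (2 * a - 1) * h11 (F := F)
      have ea : a * (2 * a + 6) = 1 := by rw [← h3, ← e4]; ring
      have e5 : 5 * a = 3 := by linear_combination ea - 2 * ha - a * h11 (F := F)
      have : (1 : F) = 0 := by linear_combination 7 * (5 * a - 22) * e5 - 175 * ha - (26 : F) * h11 (F := F)
      exact one_ne_zero this
    interval_cases orderOf u <;> first | rfl | omega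
  let t : Fin 3 → Fˣ := ![u ^ e₀, u ^ e₁, u ^ e₂]
  refine h.inner_false hc hc0 t (fun l => ?_) ?_ ?_ (A := ff (x.2.1 + 2)) (B := ff (x.2.2.1 + 2))
    (C := ff (x.2.2.2 + 2)) ?_ ?_ ?_ ?_
  · fin_cases l <;> simp [t, hu', ← pow_mul, mul_comm _ (11 + 1), pow_mul a 12, h12] <;>
      rw [pow_mul, h12, one_pow]
  · simp only [t, Matrix.cons_val_zero, Matrix.cons_val_one, Matrix.cons_val, ← pow_add]
    rw [← Nat.div_add_mod (e₀ + e₁ + e₂) 12, show (e₀ + e₁ + e₂) % 12 = 0 by omega, add_zero, pow_mul, hu12, one_pow]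
  · rcases hne with hne | hne
    · left
      intro e
      exact hne (pow_injOn_Iio_orderOf (Set.mem_Iio.2 (by omega)) (Set.mem_Iio.2 (by omega)) e)
    · right
      intro e
      exact hne (pow_injOn_Iio_orderOf (Set.mem_Iio.2 (by omega)) (Set.mem_Iio.2 (by omega)) e)
  · simpa [t, hu'] using h.trace_div ha (by omega) hA
  · simpa [t, hu'] using h.trace_div ha (by omega) hB
  · simpa [t, hu'] using h.trace_div ha (by omega) hC
  · have := congrArg ff hxr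
    simp only [map_add, map_mul, map_zero, h0, h1, h2] at this
    simp only [map_add, map_ofNat]
    linear_combination this

/-- The image of a vertex under the homology at a centre. -/
theorem step {c : V3} (hc : Ctr M c) : ∃ c', Ctr M c' ∧
    c' 0 ^ 12 = 1 - 2 * c 0 ^ 12 + 2 * (c 0 ^ 12) ^ 2 ∧ c' 1 ^ 12 = 2 * c 0 ^ 12 * c 1 ^ 12 ∧
    c' 2 ^ 12 = 2 * c 0 ^ 12 * c 2 ^ 12 := by
  refine ⟨_, h.moved hc (h.single 0), ?_⟩
  have h12 : a ^ 12 = 1 := h.aN
  have hd : qpow 11 c ⬝ᵥ (Pi.single 0 1 : V3) = c 0 ^ 11 := by simp [qpow]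
  refine ⟨?_, ?_, ?_⟩ <;> simp only [hd, Pi.smul_apply, Pi.add_apply, smul_eq_mul, Pi.single_apply]
  · simp only [if_true]
    rw [mul_pow, h12, one_mul, mul_assoc, ← pow_succ]
    exact h.w_norm ha _ (h.norm_fix ha _)
  all_goals
    rw [if_neg (by decide), zero_add, mul_pow, h12, one_mul, mul_pow, mul_pow, h.w_mul_norm ha, ← pow_mul,
      mul_comm 11 12, pow_mul, h.norm_fix ha]

theorem inner_eleven {c : V3} (hc : Ctr M c) (hc0 : ∀ l, c l ≠ 0) : False := by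
  obtain ⟨m₀, h0⟩ := h.exists_m ha (c 0)
  obtain ⟨m₁, h1⟩ := h.exists_m ha (c 1)
  have hsum : c 0 ^ 12 + c 1 ^ 12 + c 2 ^ 12 = 1 := h.sum_norm hc
  have h2 : ff (1 - m₀ - m₁) = c 2 ^ 12 := by
    simp only [map_sub, map_one, h0, h1]; linear_combination -hsum
  have ne : ∀ (m : ZMod 11) (x : F), ff m = x → x ≠ 0 → m ≠ 0 := fun m x e hx e' => hx (by rw [← e, e', map_zero])
  rcases eleven_dec m₀ m₁ (ne _ _ h0 (pow_ne_zero _ (hc0 0))) (ne _ _ h1 (pow_ne_zero _ (hc0 1)))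
    (ne _ _ h2 (pow_ne_zero _ (hc0 2))) with hr | ⟨hne, hr⟩
  · exact h.rel_false ha hc hc0 h0 h1 h2 hr
  obtain ⟨c', hc', e0, e1, e2⟩ := h.step ha hc
  have f0 : ff (1 - 2 * m₀ + 2 * m₀ ^ 2) = c' 0 ^ 12 := by simp [map_ofNat, h0, e0, -ZMod.castHom_apply]
  have f1 : ff (2 * m₀ * m₁) = c' 1 ^ 12 := by simp [map_ofNat, h0, h1, e1, -ZMod.castHom_apply]
  have f2 : ff (2 * m₀ * (1 - m₀ - m₁)) = c' 2 ^ 12 := by rw [map_mul, map_mul, h2, h0, map_ofNat, e2]
  refine h.rel_false ha hc' (fun l => ?_) f0 f1 f2 hr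
  have h20 := mul_ne_zero (h.two_ne ha) (pow_ne_zero 12 (hc0 0))
  fin_cases l <;> intro e
  · exact hne ((map_eq_zero ff).1 (by rw [f0]; simp_all))
  · exact mul_ne_zero h20 (pow_ne_zero 12 (hc0 1)) (by rw [← e1]; simp_all)
  · exact mul_ne_zero h20 (pow_ne_zero 12 (hc0 2)) (by rw [← e2]; simp_all)

omit ha in
/-- No centre on a side has this norm. -/
def NoSide (_h : UCtx 11 τ M a) (m : ZMod 11) : Prop :=
  ∀ c : V3, Ctr M c → c 2 = 0 → c 0 ≠ 0 → c 1 ≠ 0 → c 0 ^ 12 = ff m → False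

theorem side_eleven {c : V3} (hc : Ctr M c) (h2 : c 2 = 0) (h0 : c 0 ≠ 0) (h1 : c 1 ≠ 0) : False := by
  have hsq : ∀ m : ZMod 11, m ^ 2 = 1 → h.NoSide m := fun m hm c hc h2 _ h1 e =>
    h.side_false hc h2 h1 (by
      show (c 0 ^ 12) ^ 2 = 1
      rw [e, ← map_pow, hm, map_one])
  have hswap : ∀ m : ZMod 11, h.NoSide (1 - m) → h.NoSide m := by
    intro m hP c hc h2 h0 h1 e
    obtain ⟨c', hc', hN⟩ := h.perm hc (Equiv.swap 0 1)
    have hN0 : c' 1 ^ 12 = c 0 ^ 12 := by simpa using hN 0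
    have hN1 : c' 0 ^ 12 = c 1 ^ 12 := by simpa using hN 1
    have hN2 : c' 2 ^ 12 = c 2 ^ 12 := by simpa [Equiv.swap_apply_def] using hN 2
    have hsum : c 0 ^ 12 + c 1 ^ 12 + c 2 ^ 12 = 1 := h.sum_norm hc
    refine hP c' hc' (by simpa [h2] using hN2) (fun e' => h1 ?_) (fun e' => h0 ?_) ?_
    · simpa [e'] using hN1.symm
    · simpa [e'] using hN0.symm
    · rw [hN1, map_sub, map_one, ← e]
      rw [h2] at hsum
      linear_combination hsum
  have hstep : ∀ m : ZMod 11, h.NoSide (1 - 2 * m + 2 * m ^ 2) → 1 - 2 * m + 2 * m ^ 2 ≠ 0 → h.NoSide m := by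
    intro m hP hne c hc h2 h0 h1 e
    obtain ⟨c', hc', e0, e1, e2⟩ := h.step ha hc
    have f0 : c' 0 ^ 12 = ff (1 - 2 * m + 2 * m ^ 2) := by simp [map_ofNat, e0, e, -ZMod.castHom_apply]
    refine hP c' hc' (by simpa [h2] using e2) (fun e' => hne ((map_eq_zero ff).1 ?_)) (fun e' => ?_) f0
    · rw [← f0, e']; simp
    · exact mul_ne_zero (mul_ne_zero (h.two_ne ha) (pow_ne_zero 12 h0)) (pow_ne_zero 12 h1) (by rw [← e1, e']; simp)
  have hsix : h.NoSide 6 := by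
    intro c hc h2 h0 h1 e
    have e6 : c 0 ^ 12 = 6 := by rw [e, map_ofNat]
    have hsum : c 0 ^ 12 + c 1 ^ 12 + c 2 ^ 12 = 1 := h.sum_norm hc
    have e61 : c 1 ^ 12 = 6 := by
      rw [h2, zero_pow (by norm_num)] at hsum
      linear_combination hsum - e6 - h11 (F := F)
    obtain ⟨d, hd, hd'⟩ := h.base.exists_perm (Equiv.swap 1 2)
    have hg : (monoGL (Equiv.swap 1 2) d : M3) *ᵥ c = ![d 0 * c 0, 0, d 1 * c 1] := by
      funext l
      rw [monoGL_val, monoMat_mulVec']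
      fin_cases l <;> simp [Equiv.symm_swap, Equiv.swap_apply_def, h2]
    have hc'' := h.moved hc (h.mulVec hc hd')
    rw [hg] at hc''
    have hdot : qpow 11 c ⬝ᵥ ![(d 0 : F) * c 0, 0, (d 1 : F) * c 1] = d 0 * c 0 ^ 12 := by
      simp [qpow, dotProduct, Fin.sum_univ_three, h2]
      ring
    rw [hdot, e6] at hc''
    have h12 : a ^ 12 = 1 := h.aN
    have hw6 := h.w_norm ha 6 (by
      rw [← e6]; exact h.norm_fix ha _)
    have hd0 : (d 0 : F) ^ 12 = 1 := hd 0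
    have hd1 : (d 1 : F) ^ 12 = 1 := hd 1
    have h66 : (6 : F) ^ 12 = 3 := by linear_combination 197889303 * h11 (F := F)
    set v := (a • (![(d 0 : F) * c 0, 0, (d 1 : F) * c 1] + (((a ^ 3)⁻¹ - 1) * ((d 0 : F) * 6)) • c))
    have v0 : v 0 ^ 12 = 3 := by
      have : v 0 = a * ((d 0 : F) * c 0 * (1 + ((a ^ 3)⁻¹ - 1) * 6)) := by
        simp only [v, Pi.smul_apply, Pi.add_apply, smul_eq_mul, Matrix.cons_val_zero]; ring
      rw [this, mul_pow, mul_pow, mul_pow, h12, hd0, hw6, e6]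
      linear_combination (33 : F) * h11 (F := F)
    have v1 : v 1 ^ 12 = 3 := by
      have : v 1 = a * (((a ^ 3)⁻¹ - 1) * ((d 0 : F) * 6) * c 1) := by
        simp only [v, Pi.smul_apply, Pi.add_apply, smul_eq_mul, Matrix.cons_val_one, Matrix.cons_val_zero]; ring
      rw [this, mul_pow, mul_pow, mul_pow, mul_pow, h12, hd0, e61, h66, h.w_mul_norm ha]
      linear_combination (3 : F) * h11 (F := F)
    have v2 : v 2 ^ 12 = 6 := by
      have : v 2 = a * ((d 1 : F) * c 1) := by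
        simp only [v, Pi.smul_apply, Pi.add_apply, smul_eq_mul, Matrix.cons_val, h2]; ring
      rw [this, mul_pow, mul_pow, h12, hd1, e61, one_mul, one_mul]
    refine h.inner_eleven ha hc'' fun l e' => ?_
    have h30 : (3 : F) ≠ 0 := fun e3 => one_ne_zero (α := F) (by linear_combination 4 * e3 - h11 (F := F))
    fin_cases l <;> simp at e'
    · exact h30 (by rw [← v0, show v 0 = 0 from e']; simp)
    · exact h30 (by rw [← v1, show v 1 = 0 from e']; simp)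
    · have h6 : (6 : F) = 0 := by rw [← v2, show v 2 = 0 from e']; simp
      exact mul_ne_zero (h.two_ne ha) h30 (by linear_combination h6)
  have h10 := hsq 10 eleven_sq.1
  have h2' := hswap 2 (show h.NoSide (1 - 2) from (show (1 : ZMod 11) - 2 = 10 from rfl) ▸ h10)
  have h9 := hstep 9 h2' (eleven_step _)
  have h3 := hstep 3 h2' (eleven_step _)
  have h4 := hstep 4 h3 (eleven_step _)
  have h8 := hstep 8 h3 (eleven_step _)
  have h5 := hstep 5 h8 (eleven_step _)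
  have h7 := hstep 7 h8 (eleven_step _)
  have h1' := hsq 1 eleven_sq.2
  obtain ⟨m, hm⟩ := h.exists_m ha (c 0)
  have hm0 : m ≠ 0 := fun e => pow_ne_zero 12 h0 (by rw [← hm, e, map_zero])
  rcases eleven_cases m with e | e | e | e | e | e | e | e | e | e | e <;> subst e
  · exact hm0 rfl
  · exact h1' c hc h2 h0 h1 hm.symm
  · exact h2' c hc h2 h0 h1 hm.symm
  · exact h3 c hc h2 h0 h1 hm.symm
  · exact h4 c hc h2 h0 h1 hm.symm
  · exact h5 c hc h2 h0 h1 hm.symm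
  · exact hsix c hc h2 h0 h1 hm.symm
  · exact h7 c hc h2 h0 h1 hm.symm
  · exact h8 c hc h2 h0 h1 hm.symm
  · exact h9 c hc h2 h0 h1 hm.symm
  · exact h10 c hc h2 h0 h1 hm.symm

/-- Eleven elements: every column is single. -/
theorem eleven {c : V3} (hc : Ctr M c) : ∃ i, ∀ m, m ≠ i → c m = 0 := by
  by_contra hcon
  obtain ⟨l₀, hl₀⟩ : ∃ l₀, c l₀ = 0 := by
    by_contra hnz
    push Not at hnz
    exact h.inner_eleven ha hc hnz
  obtain ⟨c', hc', hN⟩ := h.perm hc (Equiv.swap l₀ 2)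
  have h2 : c' 2 = 0 := by
    have := hN l₀
    rw [Equiv.swap_apply_left, hl₀] at this
    simpa using this
  have hone : ∀ l, c' l ^ 12 = 1 → False := fun l e => by
    obtain ⟨m, rfl⟩ := (Equiv.swap l₀ 2).surjective l
    exact hcon (h.of_norm_one hc ((hN m).symm.trans e))
  have hsum : c' 0 ^ 12 + c' 1 ^ 12 + c' 2 ^ 12 = 1 := h.sum_norm hc'
  refine h.side_eleven ha hc' h2 (fun e => hone 1 ?_) (fun e => hone 0 ?_)
  · simpa [e, h2] using hsum
  · simpa [e, h2] using hsum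

end UCtx

end CfsgLib.Dim3Max
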