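import Cfsg.Agent.Lib.Dim3Max.UOrth.Elation
import Cfsg.Agent.Lib.Dim3Max.UOrth.LineRot

/-!
The orthogonal subgroup `SO₃(q)` is maximal in `SU₃(q)` for odd `q ≥ 7`.

An overgroup with an elation has all unitary transvections at an isotropic point, so it is everything.
Otherwise the orbit of a real isotropic point is real, and then the overgroup is the orthogonal subgroup, or
consists of all isotropic points, which the group on a line forbids.
-/

set_option autoImplicit false
set_option linter.unusedSectionVars false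

namespace CfsgLib.Dim3Max.UOrth

open scoped Matrix LinearAlgebra.Projectivization
open CfsgLib.Maximal CfsgLib.Maximal.UnFour MulAction

universe u

variable {F : Type u} [Field F] [Fintype F] {q : ℕ} {τ : F ≃+* F} {F₀ : Subfield F} {P : GL (Fin 3) F}
  {c g w : Fin 3 → F} {M : Subgroup (GL (Fin 3) F)}

local notation "M3" => Matrix (Fin 3) (Fin 3) F

variable (hR : RFrame q τ F₀ P c g w)
include hR

/-- A scalar in the special unitary group lies in the orthogonal subgroup. -/
theorem zs_mem_H {l : Fˣ} (hl : (l : F) * τ (l : F) = 1) (hl3 : (l : F) ^ 3 = 1) :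
    zs l ∈ Cfsg.Geo.subfieldSubgroup F₀ P ⊓ su3 F q := by
  refine ⟨Subgroup.mem_map.2 ⟨zs l, Subgroup.mem_sup_right ⟨l, rfl⟩, ?_⟩,
    (mem_GU_iff _).2 fun x y => ?_, (mem_specialLinear_iff _).2 ?_⟩
  · show P * zs l * P⁻¹ = zs l
    rw [← zs_comm, mul_inv_cancel_right]
  · show hf3 F q _ _ = hf3 F q _ _
    rw [zs_mulVec, zs_mulVec, hR.hf.smul_left, un_smul_right hR.hf, ← mul_assoc, hl, one_mul]
  · simp [zs, Matrix.scalar, Fin.prod_univ_three]
    linear_combination hl3

/-- The orthogonal subgroup is proper. -/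
theorem proper : Cfsg.Geo.subfieldSubgroup F₀ P ⊓ su3 F q < su3 F q := by
  refine lt_of_le_of_ne inf_le_right fun h => ?_
  have hf := hR.hf
  obtain ⟨k, hk0, hk⟩ := un_skew_exists hf
  have hE : tv (k • c) (fvec (hf3 F q) c) (un_tv_dot hf hR.frame.cc k) ∈
      Cfsg.Geo.subfieldSubgroup F₀ P ⊓ su3 F q := by
    rw [h]; exact utv_mem_su hf hR.frame.cc hk
  obtain ⟨a, ha, hreal⟩ := exists_scalar_of_mem hE.1
  have hc := (hR.coord _ (hreal c hR.rc)).2.1
  rw [tv_mulVec, un_dot hf, hR.frame.cc, zero_smul, add_zero, hf.smul_left, hR.gc', mul_one] at hc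
  have hg := (hR.coord _ (hreal g hR.rg)).2.1
  rw [tv_mulVec, un_dot hf, hR.frame.gc, one_smul, hf.smul_left, hf.add_left, hf.smul_left, hR.frame.gg, hR.gc',
    zero_add, mul_one] at hg
  have hkm : k ∈ F₀ := by
    have := F₀.mul_mem (F₀.inv_mem hc) hg
    rwa [inv_mul_cancel_left₀ ha] at this
  have h0 : (2 : F) * k = 0 := by linear_combination hk - hR.tau hkm
  exact hk0 ((mul_eq_zero.1 h0).resolve_left hR.two)

variable (hM : UOver F₀ P q M)
include hM

/-- If the orbit of the real point is real, the overgroup is the orthogonal subgroup. -/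
theorem le_of_real_orbit (hel : ¬ HasElation M) (hreal : ∀ m : M, RealPt F₀ P (m • ptC hR)) :
    M ≤ Cfsg.Geo.subfieldSubgroup F₀ P ⊓ su3 F q := by
  intro m hm
  set H := Cfsg.Geo.subfieldSubgroup F₀ P ⊓ su3 F q
  -- the stabiliser of the point lies in the orthogonal subgroup
  have hstab : ∀ k ∈ M, ∀ r : F, (k : M3) *ᵥ c = r • c → k ∈ H := fun k hk r h => by
    obtain ⟨l, a, s, ha, hl, hl3, he⟩ := stab_eq hR hM hel hk h
    rw [he]
    exact H.mul_mem (zs_mem_H hR hl hl3) (H.mul_mem (hR.T_mem_H ha) (hR.Y_mem_H s))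
  obtain ⟨x, hx, hxr, hxp⟩ := hreal ⟨m, hm⟩
  change Projectivization.mk F x hx = m • Projectivization.mk F c _ at hxp
  rw [smul_mk_eq, Projectivization.mk_eq_mk_iff'] at hxp
  obtain ⟨r, hr⟩ := hxp
  have hf := hR.hf
  have hr0 : r ≠ 0 := fun h0 => hx (by rw [← hr, h0, zero_smul])
  have hxx : hf3 F q x x = 0 := by
    rw [← hr, hf.smul_left, un_smul_right hf, hM.iso hm, hR.frame.cc, mul_zero, mul_zero]
  obtain ⟨e1, e2, e3⟩ := hR.coord x hxr
  have he := hR.expand x
  set α := hf3 F q x g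
  set β := hf3 F q x w / hf3 F q w w
  set δ := hf3 F q x c
  have hiso : 2 * δ * α + β * β * hf3 F q w w = 0 := by
    have h := hxx
    rw [he] at h
    simp only [hf.add_left, un_add_right hf, hf.smul_left, un_smul_right hf, hR.frame.cc, hR.frame.gg,
      hR.frame.gc, hR.frame.wc, hR.frame.wg, hR.gc', hR.cw, hR.gw, hR.tau e1, hR.tau e2,
      show τ β = β from hR.tau (F₀.div_mem e3 hR.om), mul_zero, add_zero, zero_add, mul_one] at h
    linear_combination h
  have hmc : (m : M3) *ᵥ c = r⁻¹ • x := by rw [← hr, smul_smul, inv_mul_cancel₀ hr0, one_smul]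
  by_cases hδ : δ = 0
  · have hβ : β = 0 := by
      rw [hδ, mul_zero, zero_mul, zero_add] at hiso
      exact mul_self_eq_zero.1 ((mul_eq_zero.1 hiso).resolve_right hR.frame.ww)
    refine hstab m hm (r⁻¹ * α) ?_
    rw [hmc, he, hβ, hδ, zero_smul, zero_smul, add_zero, add_zero, smul_smul]
  · let s : F₀ := ⟨β / δ, F₀.div_mem (F₀.div_mem e3 hR.om) e1⟩
    set h₀ := hR.Y s * hR.S 1 one_ne_zero
    have hh : h₀ ∈ H := H.mul_mem (hR.Y_mem_H _) (hR.S_mem_H _)
    have hx' : x = δ • ((h₀ : M3) *ᵥ c) := by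
      rw [Units.val_mul, ← Matrix.mulVec_mulVec, (hR.S_apply (one_ne_zero : (1 : F₀) ≠ 0)).1,
        show ((1 : F₀) : F) = 1 from rfl, one_smul, hR.Y_g]
      conv_lhs => rw [he]
      have := hR.two
      simp only [s]
      match_scalars <;> field_simp
      linear_combination hiso
    have h1 : h₀⁻¹ * m ∈ H := hstab _ (mul_mem (inv_mem (hM.ge hh)) hm) (r⁻¹ * δ) (by
      rw [Units.val_mul, ← Matrix.mulVec_mulVec, hmc, hx', smul_smul, Matrix.mulVec_smul, Matrix.mulVec_mulVec,
        ← Units.val_mul, inv_mul_cancel, Units.val_one, Matrix.one_mulVec])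
    have h2 := H.mul_mem hh h1
    rwa [mul_inv_cancel_left] at h2

end CfsgLib.Dim3Max.UOrth

namespace CfsgLib.Dim3Max

open CfsgLib.Maximal CfsgLib.Maximal.UnFour

universe u

variable {F : Type u} [Field F] [Fintype F] {q : ℕ} {τ : F ≃+* F}

/-- The orthogonal row. -/
theorem uOrthRow (hs : USetup q τ (F := F)) (hfull : UFullStmt q τ (F := F)) : UOrthRow (F := F) q := by
  intro hodd hq7 F₀ P hcard hP
  obtain ⟨hq, c, g, w, hR⟩ := UOrth.exists_rframe hs hodd hcard hP
  obtain ⟨p, hchar⟩ := CharP.exists F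
  haveI : Fact p.Prime := ⟨CharP.char_is_prime F p⟩
  refine ⟨UOrth.proper hR, fun M hge hle => ?_⟩
  have hM : UOrth.UOver F₀ P q M := ⟨hle, hge⟩
  by_cases hel : HasElation M
  · right
    exact le_antisymm hle (hfull M hle (UOrth.irr hR hM) c (UOrth.c_ne hR) hR.frame.cc
      (UOrth.full_of_elation hR hM (p := p) hel))
  · left
    rcases UOrth.orbit_cases hR hM hq hs.card hq7 hodd hel with h | h
    · exact le_antisymm (UOrth.le_of_real_orbit hR hM hel h) hge
    · exact (UOrth.not_transitive hR hM (p := p) hq hs.card hq7 hel h).elim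

end CfsgLib.Dim3Max
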