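import Cfsg.Agent.Lib.Dim3Max.URoot
import Cfsg.Agent.Lib.Dim3Max.Pair
import Cfsg.Agent.Lib.Dim3Max.FourFrame
import Cfsg.Agent.Lib.Dim3Max.FourSL2

/-!
D2 and K for unitary elations.
-/

set_option autoImplicit false
set_option linter.unusedSectionVars false

namespace CfsgLib.Dim3Max

open scoped Matrix MatrixGroups
open CfsgLib.Maximal CfsgLib.ThreeTransp

universe u

variable {F : Type u} [Field F] [Fintype F] {q : ℕ} {τ : F ≃+* F} (H : USetup (F := F) q τ)
include H

local notation "hh" => hf3 F q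
local notation "VV" => (Fin 3 → F)

variable {M : Subgroup (GL (Fin 3) F)}

omit H in
/-- The fixed field. -/
def fixedτ (τ : F ≃+* F) : Subfield F := (τ : F →+* F).eqLocusField (RingHom.id F)

omit H in
theorem mem_fixedτ {x : F} : x ∈ fixedτ τ ↔ τ x = x := Iff.rfl

theorem USetup.card_fixed_le : Nat.card (fixedτ τ) ≤ q := by
  classical
  have hq := H.three_le
  have hne : (Polynomial.X ^ q - Polynomial.X : Polynomial F) ≠ 0 :=
    FiniteField.X_pow_card_sub_X_ne_zero F (by omega)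
  rw [← SetLike.coe_sort_coe, Nat.card_coe_set_eq]
  refine le_trans (Set.ncard_le_ncard (t := ↑(Polynomial.X ^ q - Polynomial.X : Polynomial F).roots.toFinset)
    (fun z hz => ?_) (Set.toFinite _)) ?_
  · rw [Finset.mem_coe, Multiset.mem_toFinset, Polynomial.mem_roots hne, Polynomial.IsRoot.def,
      Polynomial.eval_sub, Polynomial.eval_pow, Polynomial.eval_X, ← H.pow, sub_eq_zero]
    exact hz
  · rw [Set.ncard_coe_finset]
    refine (Multiset.toFinset_card_le _).trans ((Polynomial.card_roots' _).trans ?_)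
    rw [FiniteField.X_pow_card_sub_X_natDegree_eq F (by omega)]

theorem USetup.card_fixed : Nat.card (fixedτ τ) = q := by
  classical
  refine le_antisymm H.card_fixed_le ?_
  obtain ⟨k, hk0, hk⟩ := un_skew_exists H.form
  refine le_trans H.skew_card ?_
  rw [← Nat.card_coe_set_eq]
  exact Nat.card_le_card_of_injective
    (fun z : H.skew => (⟨z.1 / k, mem_fixedτ.2 (by
      rw [map_div₀, show τ z.1 = -z.1 from z.2, hk, neg_div_neg_eq])⟩ : fixedτ τ))
    fun a b h => Subtype.ext ((div_left_inj' hk0).1 (congrArg Subtype.val h))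

/-- An elation moved by the group. -/
theorem USetup.has_map (hMS : M ≤ su3 F q) {k : F} {v : VV} (h : Has M (k • v) (fvec hh v)) {g : GL (Fin 3) F}
    (hg : g ∈ M) : Has M (k • ((g : Matrix (Fin 3) (Fin 3) F) *ᵥ v))
      (fvec hh ((g : Matrix (Fin 3) (Fin 3) F) *ᵥ v)) := by
  have := h.conj hg
  rw [Matrix.mulVec_smul] at this
  convert this using 1
  refine dot_ext fun y => ?_
  obtain ⟨x, rfl⟩ := mulVec_surj g y
  rw [dot_vecMul_inv, un_dot H.form, un_dot H.form]
  exact (mem_GU_iff g).1 (hMS hg).1 x v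

/-- The weights of unitary elations are skew. -/
theorem USetup.weight_skew (hMS : M ≤ su3 F q) {a : F} {v : VV} (hv : v ≠ 0)
    (h : Has M (a • v) (fvec hh v)) : τ a = -a := by
  rcases eq_or_ne a 0 with rfl | ha
  · simp
  have hφ : fvec hh v ≠ 0 := fun e => hv (un_fvec_injective H.form (e.trans (un_fvec_zero H.form).symm))
  obtain ⟨-, k, hk0, hk, he, -⟩ := H.elation hMS (smul_ne_zero ha hv) hφ h
  rw [un_fvec_smul H.form, smul_smul] at he
  have h1 : k * τ a = 1 := by
    by_contra hne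
    exact hφ ((smul_eq_zero.1 (show (k * τ a - 1) • fvec hh v = 0 by
      rw [sub_smul, one_smul, ← he, sub_self])).resolve_left (sub_ne_zero.2 hne))
  have h2 : τ k * a = 1 := by simpa [H.form.involutive] using congrArg τ h1
  rw [hk] at h2
  exact mul_left_cancel₀ hk0 (by linear_combination h1 - h2)

omit H in
/-- Only the centre and the field of a linear root field have to be checked. -/
theorem uroot_of_rootField {K : Subfield F} {k : F} {v : VV} (hv : v ≠ 0) (hvv : hh v v = 0) (hk0 : k ≠ 0)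
    (hk : τ k = -k) (hK : ∀ x ∈ K, τ x = x) (h : RootField M K (k • v) (fvec hh v)) : URoot q τ M K k v :=
  ⟨hv, hvv, hk0, hk, hK, fun x hx => by rw [← smul_smul]; exact h.2.2 x hx⟩

theorem USetup.rootField {K : Subfield F} {k : F} {v : VV} (h : URoot q τ M K k v) :
    RootField M K (k • v) (fvec hh v) :=
  ⟨smul_ne_zero h.2.2.1 h.1, fun e => h.1 (un_fvec_injective H.form (e.trans (un_fvec_zero H.form).symm)),
    fun x hx => by rw [smul_smul]; exact h.2.2.2.2.2 x hx⟩

/-- D2 for unitary elations. -/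
theorem uPairStmt : UPairStmt q τ (F := F) := by
  intro M hMS K k k' v w hR hk' hww hX hne hb h3
  have hX' : Has M (k' • w) (fvec hh w) := hX
  have hξ : (fvec hh v ⬝ᵥ (k' • w)) * (fvec hh w ⬝ᵥ (k • v)) = k * k' * (hh v w * hh w v) := by
    rw [un_dot H.form, un_dot H.form, H.form.smul_left, H.form.smul_left]; ring
  have hp := pairStmt M K (k • v) (fvec hh v) (k' • w) (fvec hh w) (H.rootField hR) hX'
    (by rw [hξ]; exact hne) hb (by rw [hξ]; exact h3)
  rw [hξ] at hp
  obtain ⟨hv, hvv, hk0, hk, hK, -⟩ := hR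
  refine uroot_of_rootField hv hvv hk0 hk (fun x hx => ?_) hp
  refine mem_fixedτ.1 (Subfield.closure_le.2 (Set.union_subset (fun y hy => hK y hy) ?_) hx)
  rintro _ rfl
  show τ (k * k' * (hh v w * hh w v)) = k * k' * (hh v w * hh w v)
  rw [map_mul, map_mul, map_mul, hk, hk', ← H.form.herm, ← H.form.herm]
  ring

/-- K for unitary elations. -/
theorem uFourStmt : UFourStmt q τ (F := F) := by
  intro h2 M hMS hirr hR
  simp only [RankOne, not_forall] at hR
  obtain ⟨x, hxM, y, hyM, hx, hy, hxy, hne⟩ := hR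
  have hsq : ∀ z : GL (Fin 3) F, orderOf z = 2 → z * z = 1 ∧ z ≠ 1 := fun z hz =>
    ⟨by rw [← pow_two, ← hz, pow_orderOf_eq_one], fun e => by simp [e] at hz⟩
  obtain ⟨c, φ, hcφ, hc, hφ, rfl⟩ := Four.exists_tv_of_sq h2 (hsq x hx).1 (hsq x hx).2
  obtain ⟨d, ψ, hdψ, hd, hψ, rfl⟩ := Four.exists_tv_of_sq h2 (hsq y hy).1 (hsq y hy).2
  obtain ⟨hcc, k, hk0, hk, hφe, hkc⟩ := H.elation hMS hc hφ ⟨hcφ, hxM⟩
  obtain ⟨hdd, k', hk'0, hk', hψe, hkd⟩ := H.elation hMS hd hψ ⟨hdψ, hyM⟩
  -- commuting elations have one centre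
  obtain ⟨a, rfl⟩ : ∃ a : F, d = a • c := by
    refine H.orth_iso hcc hdd hc ?_
    by_contra h0
    have e := congrArg (fun z : GL (Fin 3) F => (z : Matrix (Fin 3) (Fin 3) F) *ᵥ c) hxy
    simp only [Units.val_mul, ← Matrix.mulVec_mulVec, tv_mulVec, hcφ, zero_smul, add_zero, dotProduct_add,
      dotProduct_smul, smul_eq_mul, add_right_inj, add_eq_left, zero_add] at e
    rcases smul_eq_zero.1 e with e3 | e3
    · rw [hψe, hφe, smul_dotProduct, smul_dotProduct, un_dot H.form, un_dot H.form, smul_eq_mul, smul_eq_mul] at e3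
      simp [hk0, hk'0, h0, H.flip_ne h0] at e3
    · exact hc e3
  set k'' := a * k' * τ a with hk''
  have hY : Has M (k'' • c) (fvec hh c) := by
    rw [smul_smul, un_fvec_smul H.form, ← Has.smul_iff, smul_smul] at hkd
    convert hkd using 2
    rw [hk'']; ring
  have ha : a ≠ 0 := fun e => hd (by rw [e, zero_smul])
  have hk''0 : k'' ≠ 0 := mul_ne_zero (mul_ne_zero ha hk'0) fun e => ha (τ.injective (e.trans (map_zero τ).symm))
  have hneq : k'' / k ≠ 1 := by
    intro e
    have e' := (div_eq_one_iff_eq hk0).1 e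
    refine hne (Units.ext ?_)
    rw [tv_val, tv_val, hφe, hψe, un_fvec_smul H.form, Matrix.vecMulVec_smul, Matrix.vecMulVec_smul,
      Matrix.vecMulVec_smul, Matrix.smul_vecMulVec, smul_smul, smul_smul, ← e', hk'']
    congr 2
    ring
  -- an elation not orthogonal to them
  have hφc : fvec hh c ≠ 0 := fun e => hc (un_fvec_injective H.form (e.trans (un_fvec_zero H.form).symm))
  obtain ⟨g, hg, hgc⟩ := exists_dot_orbit hirr hc hφc
  have hX' := H.has_map hMS hkc hg
  set w := (g : Matrix (Fin 3) (Fin 3) F) *ᵥ c with hw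
  rw [un_dot H.form] at hgc
  have hn1 : fvec hh c ⬝ᵥ (k • w) ≠ 0 := by
    rw [un_dot H.form, H.form.smul_left]; exact mul_ne_zero hk0 hgc
  have hn2 : fvec hh w ⬝ᵥ (k • c) ≠ 0 := by
    rw [un_dot H.form, H.form.smul_left]; exact mul_ne_zero hk0 (H.flip_ne hgc)
  set φ₀ := fvec hh c with hφ₀
  set φ₁ := fvec hh w with hφ₁
  have h00 : ((φ₁ ⬝ᵥ (k • c))⁻¹ • φ₁) ⬝ᵥ (k • c) = 1 := by rw [smul_dotProduct, smul_eq_mul, inv_mul_cancel₀ hn2]
  have h01 : ((φ₁ ⬝ᵥ (k • c))⁻¹ • φ₁) ⬝ᵥ ((φ₀ ⬝ᵥ (k • w))⁻¹ • (k • w)) = 0 := by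
    rw [smul_dotProduct, dotProduct_smul (φ₀ ⬝ᵥ (k • w))⁻¹, hX'.dot, smul_zero, smul_zero]
  have h11 : φ₀ ⬝ᵥ ((φ₀ ⬝ᵥ (k • w))⁻¹ • (k • w)) = 1 := by
    rw [dotProduct_smul, smul_eq_mul, inv_mul_cancel₀ hn1]
  set f := SubFour.planeHom h00 h01 hkc.dot h11 with hf
  have hU : ∀ x : F, Four.uu x ∈ M.comap f ↔ Has M (x • k • c) φ₀ := by
    intro x
    have he : f (Four.uu x) = tv (x • k • c) φ₀ (by rw [dotProduct_smul, hkc.dot, smul_zero]) := by
      refine Units.ext ?_
      rw [hf, SubFour.planeHom_val, tv_val, Four.uu_val]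
      simp [Matrix.smul_vecMulVec]
    exact ⟨fun hx => ⟨_, he ▸ (show f (Four.uu x) ∈ M from hx)⟩, fun ⟨_, hm⟩ => show f (Four.uu x) ∈ M from he ▸ hm⟩
  have hL : Four.ll ((φ₀ ⬝ᵥ (k • w)) * (φ₁ ⬝ᵥ (k • c))) ∈ M.comap f := by
    obtain ⟨_, hm⟩ := hX'
    show f (Four.ll _) ∈ M
    convert hm using 1
    refine Units.ext ?_
    rw [hf, SubFour.planeHom_val, tv_val, Four.ll_val]
    simp [Matrix.smul_vecMulVec, Matrix.vecMulVec_smul, smul_smul]
    congr 1
    field_simp
    exact div_self (mul_ne_zero (fun e => hn1 (by rw [dotProduct_smul, e, smul_zero]))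
      (fun e => hn2 (by rw [dotProduct_smul, e, smul_zero])))
  obtain ⟨K, h4, hK, -⟩ := Four.struct h2 (M.comap f) (div_ne_zero hk''0 hk0) hneq (mul_ne_zero hn1 hn2)
    ((hU 1).2 (by rw [one_smul]; exact hkc)) ((hU _).2 (by rw [smul_smul, div_mul_cancel₀ _ hk0]; exact hY)) hL
  refine ⟨K, k, c, h4, hc, hcc, hk0, hk, fun x hx => ?_, fun x hx => by
    rw [← smul_smul]; exact (hU x).1 ((hK x).2 hx)⟩
  have := H.weight_skew hMS hc (a := x * k) (by rw [← smul_smul]; exact (hU x).1 ((hK x).2 hx))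
  rw [map_mul, hk, mul_neg, neg_inj] at this
  exact mul_right_cancel₀ hk0 this

end CfsgLib.Dim3Max
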