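import Cfsg.Agent.Lib.Dim3Max.USingerGroup
import Cfsg.Agent.Lib.Dim3Max.UPair
import Cfsg.Agent.Lib.Dim3Max.Solv.RankOne

/-!
S5777, row 4: the normaliser of an adjoint closed cubic field of matrices is maximal in `SU(3, q)`, `q ≠ 3, 5`.

The index is one modulo the order of the projective Singer group, which leaves one pair of indices for `q = 4` and
one for `q = 8`; there a subgroup of rank one is solvable, and it is not.
-/

set_option autoImplicit false
set_option linter.unusedSectionVars false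
set_option linter.style.haveILetI false

namespace CfsgLib.Dim3Max.USinger

open scoped Matrix MatrixGroups
open CfsgLib.Maximal

universe u

/-- An element of prime order with small centraliser and without room for fixed-point-free action. -/
theorem not_solvable {G : Type*} [Group G] [Finite G] {x : G} {w : ℕ} (hw : w.Prime) (hx : orderOf x = w)
    (Z : Subgroup G) (hZ : Z ≤ Subgroup.center G)
    (hC : ∀ g : G, g * x = x * g → Nat.Coprime (orderOf g) w → g ∈ Z)
    (hnorm : ¬ (Subgroup.zpowers x).Normal) (hw2 : ¬ w ^ 2 ∣ Nat.card G)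
    (hdiv : ∀ r k z : ℕ, r.Prime → r ≠ w → r ^ k ∣ Nat.card G → z ∣ Nat.card Z → r ^ k % w = z % w → r ^ k = z) :
    ¬ IsSolvable G := by
  classical
  intro hsol
  haveI := Fact.mk hw
  have h0 : ¬ (⊤ : Subgroup G) ≤ Z := fun h => hnorm ⟨fun n hn g => by
    rw [Subgroup.mem_center_iff.1 (hZ (h (Subgroup.mem_top n))) g, mul_assoc, mul_inv_cancel, mul_one]
    exact hn⟩
  obtain ⟨n, hn⟩ := (isSolvable_def G).1 hsol
  obtain ⟨k, hk, hk1⟩ : ∃ k, ¬ derivedSeries G k ≤ Z ∧ derivedSeries G (k + 1) ≤ Z := by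
    by_contra hcon
    push Not at hcon
    have : ∀ k, ¬ derivedSeries G k ≤ Z := fun k => by
      induction k with
      | zero => exact h0
      | succ k ih => exact hcon k ih
    exact this n (hn ▸ bot_le)
  set A := derivedSeries G k with hA
  haveI hAn : A.Normal := derivedSeries_normal G k
  haveI : Group.IsNilpotent A := by
    refine Subgroup.isNilpotent_of_ker_le_center (Abelianization.of : A →* Abelianization A) ?_
    rw [Abelianization.ker_of]
    intro a ha
    have h1 : (a : G) ∈ (commutator A).map A.subtype := Subgroup.mem_map_of_mem _ ha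
    rw [commutator_def, Subgroup.map_commutator, ← MonoidHom.range_eq_map, Subgroup.range_subtype] at h1
    have h2 : (a : G) ∈ Subgroup.center G := hZ (hk1 (by rw [derivedSeries_succ]; exact h1))
    exact Subgroup.mem_center_iff.2 fun b => Subtype.ext (Subgroup.mem_center_iff.1 h2 b)
  refine hk ?_
  have key : ∀ r : ℕ, r.Prime → ∀ R : Sylow r A, ((R : Subgroup A).map A.subtype) ≤ Z := by
    intro r hr R
    haveI := Fact.mk hr
    haveI hRn : (R : Subgroup A).Normal := inferInstance
    haveI hRc : (R : Subgroup A).Characteristic := R.characteristic_of_normal hRn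
    haveI hRG : ((R : Subgroup A).map A.subtype).Normal := ConjAct.normal_of_characteristic_of_normal
    set R' := (R : Subgroup A).map A.subtype with hR'
    have hRcard : Nat.card R' = r ^ (Nat.card A).factorization r := by
      rw [hR', Subgroup.card_map_of_injective A.subtype_injective, R.card_eq_multiplicity]
    have hRdvd : Nat.card R' ∣ Nat.card G := Subgroup.card_subgroup_dvd_card R'
    set e := (Nat.card A).factorization r
    by_cases hrw : r = w
    · subst hrw
      rcases Nat.eq_zero_or_pos e with he | he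
      · rw [Subgroup.eq_bot_of_card_eq R' (by rw [hRcard, he, pow_zero])]; exact bot_le
      exfalso
      have he1 : e = 1 := by
        by_contra hne
        exact hw2 ((pow_dvd_pow r (show 2 ≤ e by omega)).trans (hRcard ▸ hRdvd))
      rw [he1, pow_one] at hRcard
      have hxp : IsPGroup r (Subgroup.zpowers x) := IsPGroup.of_card (n := 1) (by rw [Nat.card_zpowers, hx, pow_one])
      obtain ⟨S, hS⟩ := hxp.exists_le_sylow
      have hS1 : Nat.card S = r := by
        obtain ⟨i, hi⟩ := S.isPGroup'.exists_card_eq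
        have h2 : i ≤ 1 := by
          by_contra hlt
          exact hw2 ((pow_dvd_pow r (show 2 ≤ i by omega)).trans (hi ▸ Subgroup.card_subgroup_dvd_card _))
        have h3 : r ∣ r ^ i := by
          have h4 := Subgroup.card_dvd_of_le hS
          rwa [Nat.card_zpowers, hx, hi] at h4
        rcases Nat.le_one_iff_eq_zero_or_eq_one.1 h2 with rfl | rfl
        · exact absurd (by simpa using h3) hr.ne_one
        · rw [hi, pow_one]
      have hxS : Subgroup.zpowers x = S := Subgroup.eq_of_le_of_card_ge hS (by rw [Nat.card_zpowers, hx, hS1])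
      obtain ⟨T, hT⟩ := (IsPGroup.of_card (n := 1) (by rw [hRcard, pow_one]) : IsPGroup r R').exists_le_sylow
      obtain ⟨g, hg⟩ := MulAction.exists_smul_eq G T S
      refine hnorm (?_ : (Subgroup.zpowers x).Normal)
      have hle : R' ≤ (S : Subgroup G) := by
        rw [← hg, Sylow.coe_subgroup_smul]
        intro y hy
        exact Subgroup.mem_pointwise_smul_iff_inv_smul_mem.2 (hT (by
          simpa [MulAut.smul_def] using hRG.conj_mem y hy g⁻¹))
      rw [hxS, ← Subgroup.eq_of_le_of_card_ge hle (by rw [hS1, hRcard])]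
      exact hRG
    · have hP : IsPGroup w (Subgroup.zpowers x) := IsPGroup.of_card (n := 1) (by rw [Nat.card_zpowers, hx, pow_one])
      letI : MulAction (Subgroup.zpowers x) R' :=
        MulAction.compHom _ ((MulAut.conjNormal (H := R')).comp (Subgroup.zpowers x).subtype)
      have hfix : MulAction.fixedPoints (Subgroup.zpowers x) R' = {y : R' | (y : G) ∈ Z} := by
        ext y
        constructor
        · intro hy
          have h1 := congrArg Subtype.val (hy ⟨x, Subgroup.mem_zpowers x⟩)
          change x * (y : G) * x⁻¹ = y at h1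
          refine hC _ (mul_inv_eq_iff_eq_mul.1 h1).symm ?_
          refine Nat.Coprime.coprime_dvd_left (Subgroup.orderOf_dvd_natCard R' y.2) ?_
          rw [hRcard]
          exact ((Nat.coprime_primes hr hw).2 hrw).pow_left _
        · intro hy g
          refine Subtype.ext ?_
          show (g : G) * (y : G) * (g : G)⁻¹ = y
          rw [Subgroup.mem_center_iff.1 (hZ hy) (g : G), mul_assoc, mul_inv_cancel, mul_one]
      have hmod := hP.card_modEq_card_fixedPoints R'
      rw [hfix, hRcard] at hmod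
      have hRZ : Nat.card {y : R' // (y : G) ∈ Z} = Nat.card (R' ⊓ Z : Subgroup G) :=
        Nat.card_congr { toFun := fun y => ⟨y.1, y.1.2, y.2⟩, invFun := fun y => ⟨⟨y.1, y.2.1⟩, y.2.2⟩,
                         left_inv := fun _ => rfl, right_inv := fun _ => rfl }
      have heq := hdiv r e _ hr hrw (hRcard ▸ hRdvd) (Subgroup.card_dvd_of_le (inf_le_right : R' ⊓ Z ≤ Z))
        (hRZ ▸ hmod)
      exact inf_eq_left.1 (Subgroup.eq_of_le_of_card_ge inf_le_left (by rw [hRcard, heq]))
  have hdvd : Nat.card A ∣ Nat.card (A ⊓ Z : Subgroup G) := by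
    refine (Nat.dvd_iff_prime_pow_dvd_dvd _ _).2 fun r i hr hri => ?_
    haveI := Fact.mk hr
    obtain ⟨R⟩ : Nonempty (Sylow r A) := inferInstance
    have h1 : r ^ i ∣ Nat.card ((R : Subgroup A).map A.subtype) := by
      rw [Subgroup.card_map_of_injective A.subtype_injective, R.card_eq_multiplicity]
      exact pow_dvd_pow r ((hr.pow_dvd_iff_le_factorization Nat.card_pos.ne').1 hri)
    exact h1.trans (Subgroup.card_dvd_of_le (le_inf (Subgroup.map_subtype_le _) (key r hr R)))
  exact inf_eq_left.1 (Subgroup.eq_of_le_of_card_ge inf_le_left (Nat.le_of_dvd Nat.card_pos hdvd))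

variable {F : Type u} [Field F] [Fintype F] {q : ℕ} {τ : F ≃+* F} (H : USetup (F := F) q τ)
  {K : Subalgebra F (Matrix (Fin 3) (Fin 3) F)}
include H

local notation "hh" => hf3 F q
local notation "MM" => Matrix (Fin 3) (Fin 3) F

omit H in
/-- A non-scalar element generates the field. -/
theorem generates (hK : Cfsg.Geo.IsFieldSubalgebra 3 K) {c : K} (hns : ∀ a : F, (c : MM) ≠ a • 1)
    (L : Subalgebra F K) (hc : c ∈ L) : L = ⊤ := by
  letI : Field K := fieldOfSub K hK one_ne_zero
  haveI := Subalgebra.isSimpleOrder_of_finrank_prime F K (by rw [hK.finrank_eq]; exact Nat.prime_three)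
  refine (eq_bot_or_eq_top L).resolve_left fun e => ?_
  rw [e, Algebra.mem_bot] at hc
  obtain ⟨a, ha⟩ := hc
  exact hns a (by rw [← Algebra.algebraMap_eq_smul_one]; exact (congrArg Subtype.val ha).symm)

theorem not_scalar (hK : Cfsg.Geo.IsFieldSubalgebra 3 K) {g : GL (Fin 3) F} (hg : g ∈ SingerGroup.cGroup K)
    (ho : 3 < orderOf g) (a : F) : (g : MM) ≠ a • 1 := fun e => by
  have := Nat.le_of_dvd (by norm_num) (orderOf_dvd_of_pow_eq_one (SingerGroup.eq_scalar_pow hg.2 e))
  omega

/-- An overgroup of the normaliser is irreducible. -/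
theorem irr (hK : Cfsg.Geo.IsFieldSubalgebra 3 K) {g : GL (Fin 3) F} (hg : g ∈ SingerGroup.cGroup K)
    (ho : 3 < orderOf g) {M : Subgroup (GL (Fin 3) F)} (hgM : g ∈ M) : Irr M := by
  intro W hW
  letI : Field K := fieldOfSub K hK one_ne_zero
  let L : Subalgebra F K :=
    { carrier := {x | ∀ w ∈ W, (x : MM) *ᵥ w ∈ W}
      mul_mem' := fun {x y} hx hy w hw => by
        rw [MulMemClass.coe_mul, ← Matrix.mulVec_mulVec]; exact hx _ (hy w hw)
      add_mem' := fun {x y} hx hy w hw => by
        rw [AddMemClass.coe_add, Matrix.add_mulVec]; exact W.add_mem (hx w hw) (hy w hw)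
      algebraMap_mem' := fun a w hw => by
        rw [Subalgebra.coe_algebraMap, Algebra.algebraMap_eq_smul_one, Matrix.smul_mulVec, Matrix.one_mulVec]
        exact W.smul_mem a hw }
  have hgK := ((SingerGroup.mem_cGroup hK).1 hg).1
  have htop : L = ⊤ := generates hK (c := ⟨_, hgK⟩) (not_scalar H hK hg ho) L fun w hw =>
    hW _ ⟨g, hgM, rfl⟩ ⟨w, hw, Matrix.toLin'_apply _ _⟩
  refine or_iff_not_imp_left.2 fun hne => Submodule.eq_top_iff'.2 fun x => ?_
  obtain ⟨w, hw, hw0⟩ := W.exists_mem_ne_zero_of_ne_bot hne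
  obtain ⟨a, ha⟩ := (SingerGroup.evalEquiv hK).surjective w
  obtain ⟨b, hb⟩ := (SingerGroup.evalEquiv hK).surjective x
  have ha0 : a ≠ 0 := fun e => hw0 (by rw [← ha, e, map_zero])
  have hmem : (b * a⁻¹ : K) ∈ L := htop ▸ Algebra.mem_top
  have := hmem w hw
  rwa [← ha, SingerGroup.mulVec_evalEquiv, inv_mul_cancel_right₀ ha0, hb] at this

/-- An element commuting with a non-scalar element of the field lies in the field. -/
theorem mem_ucGroup_of_comm (hK : Cfsg.Geo.IsFieldSubalgebra 3 K) {g x : GL (Fin 3) F} (hg : g ∈ su3 F q)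
    (hx : (x : MM) ∈ K) (hns : ∀ a : F, (x : MM) ≠ a • 1) (h : g * x = x * g) : g ∈ USingerGroup.ucGroup q K := by
  have h' : (g : MM) * (x : MM) * ((g⁻¹ : GL (Fin 3) F) : MM) = x := by
    rw [← Units.val_mul, h, ← Units.val_mul, mul_inv_cancel_right]
  have hN : g ∈ Cfsg.Geo.subalgebraNormalizer K :=
    SingerGroup.mem_normalizer_of_conj hK hx hns (by rw [h']; exact hx)
  refine ⟨?_, hg⟩
  have hmem : g ∈ SingerGroup.hGroup K := ⟨hN, hg.2⟩
  suffices hker : (⟨g, hmem⟩ : SingerGroup.hGroup K) ∈ (SingerGroup.autHom hK).ker by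
    rwa [SingerGroup.autHom_ker, Subgroup.mem_subgroupOf] at hker
  set σ := SingerGroup.autHom hK ⟨g, hmem⟩ with hσ
  rw [MonoidHom.mem_ker, ← hσ]
  have htop := generates hK (c := ⟨_, hx⟩) hns (AlgHom.equalizer σ.toAlgHom (AlgHom.id F K))
    (Subtype.ext (by rw [hσ]; exact h'))
  exact AlgEquiv.ext fun y => show y ∈ AlgHom.equalizer σ.toAlgHom (AlgHom.id F K) from htop ▸ Algebra.mem_top

/-- Elements of the field fixed by the `q²`th power are scalars. -/
theorem scalar_of_pow (hK : Cfsg.Geo.IsFieldSubalgebra 3 K) {x : K} (hx : x ^ q ^ 2 = x) :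
    ∃ a : F, (x : MM) = a • 1 := by
  classical
  letI : Field K := fieldOfSub K hK one_ne_zero
  haveI : Finite MM := inferInstanceAs (Finite (Fin 3 → Fin 3 → F))
  haveI : Finite K := Finite.of_injective Subtype.val Subtype.val_injective
  have hq : 1 < q ^ 2 := Nat.one_lt_pow (by norm_num) (by have := H.three_le; omega)
  have hne : (Polynomial.X ^ q ^ 2 - Polynomial.X : Polynomial K) ≠ 0 := FiniteField.X_pow_card_sub_X_ne_zero K hq
  have hroot : ∀ y : K, y ^ q ^ 2 = y → y ∈ (Polynomial.X ^ q ^ 2 - Polynomial.X : Polynomial K).roots.toFinset := by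
    intro y hy
    rw [Multiset.mem_toFinset, Polynomial.mem_roots hne, Polynomial.IsRoot.def, Polynomial.eval_sub,
      Polynomial.eval_pow, Polynomial.eval_X, sub_eq_zero]
    exact hy
  by_contra hcon
  push Not at hcon
  have hsub : insert x (Finset.univ.image (algebraMap F K)) ⊆
      (Polynomial.X ^ q ^ 2 - Polynomial.X : Polynomial K).roots.toFinset := by
    intro y hy
    rcases Finset.mem_insert.1 hy with rfl | hy
    · exact hroot _ hx
    · obtain ⟨a, -, rfl⟩ := Finset.mem_image.1 hy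
      exact hroot _ (by rw [← map_pow, ← H.card, FiniteField.pow_card])
  have hc := Finset.card_le_card hsub
  rw [Finset.card_insert_of_notMem (fun h => by
      obtain ⟨a, -, ha⟩ := Finset.mem_image.1 h
      exact hcon a (by rw [← ha, Subalgebra.coe_algebraMap, Algebra.algebraMap_eq_smul_one])),
    Finset.card_image_of_injective _ (algebraMap F K).injective, Finset.card_univ, H.card] at hc
  have := hc.trans ((Multiset.toFinset_card_le _).trans (Polynomial.card_roots' _))
  rw [FiniteField.X_pow_card_sub_X_natDegree_eq K hq] at this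
  omega

omit H in
set_option maxHeartbeats 4000000 in
theorem small_dvd {q D : ℕ} (hc : (q = 4 ∧ D = 40) ∨ (q = 8 ∧ (D = 96 ∨ D = 1008))) {d w : ℕ}
    (hd : USingerArith.Data q d w) :
    w.Prime ∧ (q + 1) % d = 0 ∧ ¬ w ^ 2 ∣ 3 * (d * w) * D ∧ ∀ r k z : ℕ, r.Prime → r ≠ w →
      r ^ k ∣ 3 * (d * w) * D → z ∣ d → r ^ k % w = z % w → r ^ k = z := by
  have hv := hd.mul_eq
  have hle : ∀ (r k n : ℕ), r.Prime → r ^ k ∣ n → 0 < n → n < 2 ^ 18 → k < 18 := by
    intro r k n hr hdvd hn hlt
    by_contra hk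
    have h1 := Nat.le_of_dvd hn hdvd
    have h2 : 2 ^ 18 ≤ r ^ k := le_trans (Nat.pow_le_pow_left hr.two_le 18) (Nat.pow_le_pow_right hr.pos (by omega))
    omega
  rcases hc with ⟨rfl, rfl⟩ | ⟨rfl, hD⟩
  · obtain ⟨rfl, rfl⟩ : d = 1 ∧ w = 13 := by
      rcases hd.cases with ⟨rfl, -⟩ | ⟨-, h⟩ <;> omega
    refine ⟨by norm_num, by norm_num, by norm_num, fun r k z hr hrw hdvd hz hmod => ?_⟩
    obtain rfl := Nat.dvd_one.1 hz
    have hk := hle r k _ hr hdvd (by norm_num) (by norm_num)
    rcases Nat.eq_zero_or_pos k with rfl | hk0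
    · simp
    have hr' : r ∣ 2 ^ 3 * 3 * 5 * 13 := (dvd_pow_self r hk0.ne').trans (by norm_num at hdvd ⊢; exact hdvd)
    simp only [hr.dvd_mul, Nat.prime_dvd_prime_iff_eq hr Nat.prime_three, Nat.prime_dvd_prime_iff_eq hr Nat.prime_five,
      Nat.prime_dvd_prime_iff_eq hr (show Nat.Prime 13 by norm_num)] at hr'
    rcases hr' with ((h | h) | h) | h
    · obtain rfl := (Nat.prime_dvd_prime_iff_eq hr Nat.prime_two).1 (hr.dvd_of_dvd_pow h)
      interval_cases k <;> simp_all
    · subst h; interval_cases k <;> simp_all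
    · subst h; interval_cases k <;> simp_all
    · exact absurd h hrw
  · obtain ⟨rfl, rfl⟩ : d = 3 ∧ w = 19 := by
      rcases hd.cases with ⟨-, h⟩ | ⟨rfl, -⟩ <;> omega
    refine ⟨by norm_num, by norm_num, by rcases hD with rfl | rfl <;> norm_num, fun r k z hr hrw hdvd hz hmod => ?_⟩
    have hk := hle r k _ hr hdvd (by rcases hD with rfl | rfl <;> norm_num) (by rcases hD with rfl | rfl <;> norm_num)
    have hz' : z = 1 ∨ z = 3 := (Nat.dvd_prime Nat.prime_three).1 hz
    rcases Nat.eq_zero_or_pos k with rfl | hk0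
    · rcases hz' with rfl | rfl <;> simp_all
    have hr' : r ∣ 2 ^ 5 * 3 ^ 4 * 7 * 19 := (dvd_pow_self r hk0.ne').trans (hdvd.trans (by
      rcases hD with rfl | rfl <;> norm_num))
    simp only [hr.dvd_mul, Nat.prime_dvd_prime_iff_eq hr (show Nat.Prime 7 by norm_num),
      Nat.prime_dvd_prime_iff_eq hr (show Nat.Prime 19 by norm_num)] at hr'
    rcases hr' with ((h | h) | h) | h
    · obtain rfl := (Nat.prime_dvd_prime_iff_eq hr Nat.prime_two).1 (hr.dvd_of_dvd_pow h)
      rcases hD with rfl | rfl <;> rcases hz' with rfl | rfl <;> interval_cases k <;> simp_all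
    · obtain rfl := (Nat.prime_dvd_prime_iff_eq hr Nat.prime_three).1 (hr.dvd_of_dvd_pow h)
      rcases hD with rfl | rfl <;> rcases hz' with rfl | rfl <;> interval_cases k <;> simp_all
    · subst h
      rcases hD with rfl | rfl <;> rcases hz' with rfl | rfl <;> interval_cases k <;> simp_all
    · exact absurd h hrw

set_option maxHeartbeats 1000000 in
/-- The exceptional indices do not occur below `SU(3, q)`. -/
theorem exceptional (hK : Cfsg.Geo.IsFieldSubalgebra 3 K) (hadj : Cfsg.Geo.IsAdjointClosedFor (hf3 F q) K)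
    {d w : ℕ} (hd : USingerArith.Data q d w) {M : Subgroup (GL (Fin 3) F)} (hle : USingerGroup.uhGroup q K ≤ M)
    (hMS : M ≤ su3 F q) (hc : (q = 4 ∧ ((USingerGroup.uhGroup q K).subgroupOf M).index = 40) ∨
      (q = 8 ∧ (((USingerGroup.uhGroup q K).subgroupOf M).index = 96 ∨
        ((USingerGroup.uhGroup q K).subgroupOf M).index = 1008))) : su3 F q ≤ M := by
  classical
  obtain ⟨hwp, hdq, hw2, hdiv⟩ := small_dvd hc hd
  obtain ⟨c, hcC, hcord, hCcard⟩ := USingerGroup.exists_generator H hK hadj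
  have hv := hd.mul_eq
  replace hcord : orderOf c = d * w := by omega
  have hwq := USingerArith.q_lt hd
  have hq4 := hd.four_le
  have hd0 : 0 < d := by rcases hd.cases with ⟨rfl, -⟩ | ⟨rfl, -⟩ <;> norm_num
  set x := c ^ d with hxdef
  have hxo : orderOf x = w := by
    rw [hxdef, orderOf_pow_of_dvd hd0.ne' (by rw [hcord]; exact dvd_mul_right _ _), hcord,
      Nat.mul_div_cancel_left _ hd0]
  have hxC : x ∈ USingerGroup.ucGroup q K := pow_mem hcC d
  have hxc := (Subgroup.mem_inf.1 hxC).1
  have hxM : x ∈ M := hle (USingerGroup.ucGroup_le hK hxC)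
  have hns := not_scalar H hK hxc (by omega)
  have hMirr : Irr M := irr H hK hxc (by omega) hxM
  have h2 : (2 : F) = 0 := by
    have h0 : ((Fintype.card F : ℕ) : F) = 0 := Nat.cast_card_eq_zero F
    rcases hc with ⟨e, -⟩ | ⟨e, -⟩ <;> rw [H.card, e] at h0 <;> norm_num at h0
    · exact (pow_eq_zero_iff (n := 4) (by norm_num)).1 (by norm_num; exact h0)
    · exact (pow_eq_zero_iff (n := 6) (by norm_num)).1 (by norm_num; exact h0)
  by_cases hR : RankOne M
  · exfalso
    have hsol : IsSolvable M := rankOneStmt h2 M (hMS.trans inf_le_right) hR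
    set z := c ^ w with hz
    have hzM : z ∈ M := hle (USingerGroup.ucGroup_le hK (pow_mem hcC w))
    obtain ⟨s, hs⟩ : ∃ s : F, (z : MM) = s • 1 := by
      have hzC := (Subgroup.mem_inf.1 (pow_mem hcC w)).1
      refine scalar_of_pow H hK (x := ⟨(z : MM), ((SingerGroup.mem_cGroup hK).1 hzC).1⟩) (Subtype.ext ?_)
      rw [SubmonoidClass.coe_pow, ← Units.val_pow_eq_pow_val]
      obtain ⟨i, hi⟩ := Nat.dvd_of_mod_eq_zero hdq
      show ((z ^ q ^ 2 : GL (Fin 3) F) : MM) = (z : MM)
      congr 1
      rw [hz, ← pow_mul, show w * q ^ 2 = w + d * w * (i * (q - 1)) by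
        rw [show d * w * (i * (q - 1)) = w * (d * i * (q - 1)) by ring, ← hi, ← Nat.sq_sub_sq, one_pow,
          Nat.mul_sub, mul_one, Nat.add_sub_cancel' (Nat.le_mul_of_pos_right w (by positivity))],
        pow_add, pow_mul, ← hcord, pow_orderOf_eq_one, one_pow, mul_one]
    have hzZ : Subgroup.zpowers (⟨z, hzM⟩ : M) ≤ Subgroup.center M := by
      rw [Subgroup.zpowers_le, Subgroup.mem_center_iff]
      intro g
      refine Subtype.ext (Units.ext ?_)
      show (g : GL (Fin 3) F).val * (z : MM) = (z : MM) * (g : GL (Fin 3) F).val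
      rw [hs, Matrix.mul_smul, Matrix.smul_mul, Matrix.mul_one, Matrix.one_mul]
    have hMc : Nat.card M = 3 * (d * w) * ((USingerGroup.uhGroup q K).subgroupOf M).index := by
      rw [← ((USingerGroup.uhGroup q K).subgroupOf M).card_mul_index,
        Nat.card_congr (Subgroup.subgroupOfEquivOfLe hle).toEquiv, USingerGroup.card_uhGroup H hK hadj hd]
      congr 2
      omega
    have hzo : orderOf z = d := by
      rw [hz, orderOf_pow_of_dvd hwp.ne_zero (by rw [hcord]; exact dvd_mul_left _ _), hcord,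
        Nat.mul_div_cancel _ hwp.pos]
    refine not_solvable hwp (x := (⟨x, hxM⟩ : M)) (by rw [Subgroup.orderOf_mk, hxo]) _ hzZ ?_ ?_ ?_ ?_ hsol
    · intro g hg hco
      have hgC := mem_ucGroup_of_comm H hK (hMS g.2) ((SingerGroup.mem_cGroup hK).1 hxc).1 hns
        (congrArg Subtype.val hg)
      have hC : USingerGroup.ucGroup q K = Subgroup.zpowers c :=
        (Subgroup.eq_of_le_of_card_ge (Subgroup.zpowers_le.2 hcC) (by rw [Nat.card_zpowers, hCcard])).symm
      rw [hC] at hgC
      obtain ⟨i, hi⟩ := mem_powers_iff_mem_zpowers.2 hgC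
      have hgo : orderOf g ∣ d := by
        refine hco.dvd_of_dvd_mul_right ?_
        rw [← Subgroup.orderOf_coe, ← hcord, ← hi]
        exact orderOf_pow_dvd i
      have hdi : d * w ∣ i * d := by
        rw [← hcord]
        refine orderOf_dvd_of_pow_eq_one ?_
        rw [pow_mul]
        show (c ^ i) ^ d = 1
        rw [show c ^ i = (g : GL (Fin 3) F) from hi, ← orderOf_dvd_iff_pow_eq_one, Subgroup.orderOf_coe]
        exact hgo
      obtain ⟨j, rfl⟩ := Nat.dvd_of_mul_dvd_mul_left hd0 (mul_comm i d ▸ hdi)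
      refine Subgroup.mem_zpowers_iff.2 ⟨j, Subtype.ext ?_⟩
      rw [zpow_natCast, SubmonoidClass.coe_pow]
      show z ^ j = (g : GL (Fin 3) F)
      rw [hz, ← pow_mul]
      exact hi
    · intro hn
      have hMN : ∀ g ∈ M, g ∈ USingerGroup.uhGroup q K := by
        intro g hg
        have h1 := hn.conj_mem ⟨x, hxM⟩ (Subgroup.mem_zpowers _) ⟨g, hg⟩
        obtain ⟨i, hi⟩ := mem_powers_iff_mem_zpowers.2 h1
        refine ⟨SingerGroup.mem_normalizer_of_conj hK ((SingerGroup.mem_cGroup hK).1 hxc).1 hns ?_, hMS hg⟩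
        have h2 : x ^ i = g * x * g⁻¹ := congrArg Subtype.val hi
        rw [← Units.val_mul, ← Units.val_mul, ← h2, Units.val_pow_eq_pow_val]
        exact pow_mem ((SingerGroup.mem_cGroup hK).1 hxc).1 i
      have h1 : ((USingerGroup.uhGroup q K).subgroupOf M).index = 1 := by
        rw [Subgroup.index_eq_one, eq_top_iff]
        exact fun g _ => Subgroup.mem_subgroupOf.2 (hMN g g.2)
      rcases hc with ⟨-, e⟩ | ⟨-, e | e⟩ <;> omega
    · rw [hMc]; exact hw2
    · intro r k j hr hrw hdvd hj hmod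
      rw [hMc] at hdvd
      rw [Nat.card_zpowers, Subgroup.orderOf_mk, hzo] at hj
      exact hdiv r k j hr hrw hdvd hj hmod
  · obtain ⟨L, k, v, h4, hRoot⟩ := uFourStmt H h2 M hMS hMirr hR
    obtain ⟨hv0, hvv, hk0, hk, hL, hhas⟩ := hRoot
    refine uFullStmt H M hMS hMirr v hv0 hvv fun k' hk' => ?_
    have hsub : L ≤ fixedτ τ := fun y hy => hL y hy
    haveI := Fintype.ofFinite L
    haveI := Fintype.ofFinite (fixedτ τ)
    letI : Algebra L (fixedτ τ) := (Subfield.inclusion hsub).toAlgebra
    have hcard : Fintype.card (fixedτ τ) = Fintype.card L ^ Module.finrank L (fixedτ τ) :=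
      Module.card_eq_pow_finrank
    rw [← Nat.card_eq_fintype_card, ← Nat.card_eq_fintype_card, H.card_fixed] at hcard
    have hLq : q ≤ Nat.card L := by
      by_contra hlt
      rcases Nat.lt_or_ge (Module.finrank L (fixedτ τ)) 2 with hm | hm
      · have := Nat.pow_le_pow_right (show 0 < Nat.card L by omega) (show Module.finrank L (fixedτ τ) ≤ 1 by omega)
        rw [pow_one] at this; omega
      · have h1 := Nat.pow_le_pow_right (show 0 < Nat.card L by omega) hm
        have h16 : 4 * 4 ≤ Nat.card L ^ 2 := by rw [sq]; exact Nat.mul_le_mul h4 h4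
        rcases hc with ⟨e, -⟩ | ⟨e, -⟩ <;> omega
    have heq : L = fixedτ τ := SetLike.coe_injective (Set.eq_of_subset_of_ncard_le hsub
      (by rw [← Nat.card_coe_set_eq, ← Nat.card_coe_set_eq]; exact H.card_fixed.le.trans hLq) (Set.toFinite _))
    have hmem : k' / k ∈ L := heq ▸ mem_fixedτ.2 (by rw [map_div₀, hk', hk, neg_div_neg_eq])
    have := hhas _ hmem
    rwa [div_mul_cancel₀ _ hk0] at this

/-- S5777, row 4. -/
theorem uSingerRow : USingerRow (F := F) q := by
  intro hq3 hq5 K hK hadj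
  classical
  have hq := H.three_le
  have hq4 : 4 ≤ q := by omega
  have hqq : q ≤ q * q := Nat.le_mul_self q
  obtain ⟨d, w, hd⟩ : ∃ d w, USingerArith.Data q d w := by
    by_cases h3 : q % 3 = 2
    · obtain ⟨k, rfl⟩ : ∃ k, q = 3 * k + 2 := ⟨q / 3, by omega⟩
      exact ⟨3, 3 * (k * k) + 3 * k + 1, hq4, by ring, Or.inr ⟨rfl, h3⟩,
        Nat.prime_three.coprime_iff_not_dvd.2 (by omega)⟩
    · refine ⟨1, q * q + 1 - q, hq4, by omega, Or.inl ⟨rfl, h3⟩, Nat.prime_three.coprime_iff_not_dvd.2 ?_⟩
      obtain ⟨k, rfl | rfl⟩ : ∃ k, q = 3 * k ∨ q = 3 * k + 1 := ⟨q / 3, by omega⟩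
      · rw [show 3 * k * (3 * k) = 3 * (3 * (k * k)) by ring] at hqq ⊢; omega
      · rw [show (3 * k + 1) * (3 * k + 1) = 3 * (3 * (k * k) + 2 * k) + 1 by ring] at hqq ⊢; omega
  obtain ⟨p, _⟩ := CharP.exists F
  obtain ⟨n, hp, hpn⟩ := FiniteField.card F p
  obtain ⟨f, -, hpf⟩ := (Nat.dvd_prime_pow hp).1 (show q ∣ p ^ (n : ℕ) by
    rw [← hpn, H.card]; exact dvd_pow_self q two_ne_zero)
  have hH := USingerGroup.card_uhGroup H hK hadj hd
  have hS := USingerGroup.card_su3 H
  rw [mul_one] at hS
  have hv : 0 < q * q + 1 - q := by omega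
  have hB := USingerArith.bb_pos hd
  refine ⟨lt_of_le_of_ne inf_le_right fun e => ?_, fun M hle hMS => ?_⟩
  · have h1 : Nat.card (USingerGroup.uhGroup q K) = Nat.card (su3 F q) := by
      rw [show USingerGroup.uhGroup q K = su3 F q from e]
    rw [hH, hS, mul_left_comm (q ^ 3), mul_comm 3] at h1
    have h2 := Nat.eq_of_mul_eq_mul_left hv h1
    have h3 : 4 ^ 3 * 1 ≤ q ^ 3 * USingerArith.bb q := Nat.mul_le_mul (Nat.pow_le_pow_left hq4 3) hB
    omega
  change USingerGroup.uhGroup q K ≤ M at hle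
  set D := ((USingerGroup.uhGroup q K).subgroupOf M).index with hD
  set t := (M.subgroupOf (su3 F q)).index with ht
  have hMc : Nat.card M = 3 * (q * q + 1 - q) * D := by
    rw [← ((USingerGroup.uhGroup q K).subgroupOf M).card_mul_index,
      Nat.card_congr (Subgroup.subgroupOfEquivOfLe hle).toEquiv, hH]
  have hSc : Nat.card (su3 F q) = Nat.card M * t := by
    rw [← (M.subgroupOf (su3 F q)).card_mul_index, Nat.card_congr (Subgroup.subgroupOfEquivOfLe hMS).toEquiv]
  have hT : 3 * D * t = q ^ 3 * USingerArith.bb q := by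
    refine Nat.eq_of_mul_eq_mul_left hv ?_
    rw [hS, hMc] at hSc
    linarith [hSc]
  have hone : D = 1 → M = USingerGroup.uhGroup q K := fun h1 => le_antisymm (fun g hg => Subgroup.mem_subgroupOf.1
    (show (⟨g, hg⟩ : M) ∈ (USingerGroup.uhGroup q K).subgroupOf M by rw [Subgroup.index_eq_one.1 h1]; trivial)) hle
  have hexc : (q = 4 ∧ D = 40) ∨ (q = 8 ∧ (D = 96 ∨ D = 1008)) → M = su3 F q := fun hc =>
    le_antisymm hMS (exceptional H hK hadj hd hle hMS hc)
  rcases USingerArith.cases_index hd hp hpf hq5 hT (USingerGroup.index_cast H hK hadj hd.mul_eq hd.coprime hle hMS)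
    with h1 | h1 | ⟨e, h1⟩ | ⟨e, h1⟩
  · exact Or.inl (hone h1)
  · refine Or.inr (le_antisymm hMS fun g hg => Subgroup.mem_subgroupOf.1
      (show (⟨g, hg⟩ : su3 F q) ∈ M.subgroupOf (su3 F q) by rw [Subgroup.index_eq_one.1 h1]; trivial))
  · refine Or.inr (hexc (Or.inl ⟨e, ?_⟩))
    rw [e, USingerArith.bb] at hT
    norm_num at hT
    rcases h1 with h1 | h1 <;> rw [h1] at hT <;> omega
  · refine Or.inr (hexc (Or.inr ⟨e, ?_⟩))
    rw [e, USingerArith.bb] at hT
    norm_num at hT
    rcases h1 with h1 | h1 <;> rw [h1] at hT <;> omega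

/-- S5777, row 4, from the shared statements. -/
theorem uSingerRow_of_tools (_h : UTools (F := F) q τ) : USingerRow (F := F) q := uSingerRow H

end CfsgLib.Dim3Max.USinger
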