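import Mathlib

/-!
The possible indices over the normaliser of a unitary Singer group in dimension three.

With `v = q² - q + 1`, `B = (q + 1)² (q - 1)` and `D, t ≡ 1 (mod v / d)`, `3 D t = q³ B` leaves `D = 1`, `t = 1` and
one pair for `q = 4` and one for `q = 8`.
-/

set_option autoImplicit false

namespace CfsgLib.Dim3Max.USingerArith

/-- The data of the unitary Singer group: `d w = q² - q + 1` with `d = gcd(3, q + 1)`. -/
structure Data (q d w : ℕ) : Prop where
  four_le : 4 ≤ q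
  mul_eq : d * w + q = q * q + 1
  cases : d = 1 ∧ q % 3 ≠ 2 ∨ d = 3 ∧ q % 3 = 2
  coprime : Nat.Coprime 3 w

/-- The order of the split part. -/
def bb (q : ℕ) : ℕ := (q + 1) ^ 2 * (q - 1)

/-- The candidate `1 + j w` gives an exception. -/
def badJ (q j : ℕ) : Bool :=
  let w := (q * q + 1 - q) / if q % 3 = 2 then 3 else 1
  let D := 3 * (1 + j * w)
  (q ^ 3 * bb q) % D == 0 && (q ^ 3 * bb q / D) % w == 1

/-- No exception below 64 apart from the listed ones. -/
theorem check : ((List.range 64).all fun q => decide (q < 4) || [5, 6, 14, 35].contains q ||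
    (List.range (3 * q + 7)).all fun j => !badJ q j || j == 0 || (q == 4 && j == 3) || (q == 8 && j == 5)) = true := by
  decide +kernel

variable {q d w : ℕ} (h : Data q d w)

include h

theorem q_lt : q < w := by
  have := h.mul_eq
  have := h.four_le
  have hqq : 4 * q ≤ q * q := Nat.mul_le_mul_right q h.four_le
  rcases h.cases with ⟨rfl, -⟩ | ⟨rfl, h3⟩
  · omega
  · rcases Nat.lt_or_ge q 5 with h5 | h5
    · omega
    · have : 5 * q ≤ q * q := Nat.mul_le_mul_right q h5
      omega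

theorem bb_int : (bb q : ℤ) = ((q : ℤ) + 1) ^ 2 * ((q : ℤ) - 1) := by
  have := h.four_le
  simp only [bb]
  push_cast [Nat.cast_sub (show 1 ≤ q by omega)]
  ring

theorem bb_pos : 0 < bb q := by
  have := h.four_le
  exact Nat.mul_pos (pow_pos (by omega) 2) (by omega)

theorem v_int : (d : ℤ) * w = (q : ℤ) * q - q + 1 := by
  have := h.mul_eq
  have h1 : ((d : ℤ) * w + q) = (q : ℤ) * q + 1 := by exact_mod_cast this
  linarith

theorem cast_v : (q : ZMod w) * q - q + 1 = 0 := by
  have := congrArg (Int.cast : ℤ → ZMod w) (v_int h)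
  push_cast at this
  simp at this
  linear_combination -this

theorem cast_bb : (bb q : ZMod w) = -3 := by
  have := congrArg (Int.cast : ℤ → ZMod w) (bb_int h)
  push_cast at this
  rw [this]
  linear_combination ((q : ZMod w) + 2) * cast_v h

theorem cast_cube : (q : ZMod w) ^ 3 = -1 := by
  linear_combination ((q : ZMod w) + 1) * cast_v h

theorem three_unit : IsUnit (3 : ZMod w) := by
  simpa using (ZMod.isUnit_iff_coprime 3 w).2 h.coprime

theorem eq_add_mul {n r : ℕ} (hr : r < w) (hn : (n : ZMod w) = r) : ∃ j, n = r + w * j := by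
  have h1 := (ZMod.natCast_eq_natCast_iff' n r w).1 hn
  rw [Nat.mod_eq_of_lt hr] at h1
  exact ⟨n / w, by rw [← h1, Nat.mod_add_div]⟩

/-- Few `p`-elements: the index is one. -/
theorem small {D s : ℕ} (hq : 64 ≤ q) (hD : (D : ZMod w) = 1) (hDs : 3 * D * s = q * bb q) : D = 1 := by
  have hw := q_lt h
  obtain ⟨j, rfl⟩ := eq_add_mul h (show 1 < w by omega) (n := D) (r := 1) (by simpa using hD)
  rcases Nat.eq_zero_or_pos j with rfl | hj
  · simp
  exfalso
  have hs : ((s + q : ℕ) : ZMod w) = ((0 : ℕ) : ZMod w) := by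
    have := congrArg (Nat.cast : ℕ → ZMod w) hDs
    push_cast at this hD ⊢
    rw [cast_bb h, hD, mul_one] at this
    refine (three_unit h).mul_left_cancel ?_
    linear_combination this
  obtain ⟨i, hi⟩ := eq_add_mul h (show 0 < w by omega) hs
  rw [zero_add] at hi
  have hi0 : 0 < i := Nat.pos_of_ne_zero (by rintro rfl; omega)
  have e1 : 3 * (1 + (w : ℤ) * j) * ((w : ℤ) * i - q) = (q : ℤ) * bb q := by
    have hs' : (s : ℤ) + q = w * i := by exact_mod_cast hi
    have : (3 : ℤ) * (1 + w * j) * s = q * bb q := by exact_mod_cast hDs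
    rw [← hs']; linear_combination this
  rw [bb_int h] at e1
  have hv := v_int h
  have hj1 : (1 : ℤ) ≤ j := by exact_mod_cast hj
  have hi1 : (1 : ℤ) ≤ i := by exact_mod_cast hi0
  have hq' : (64 : ℤ) ≤ q := by exact_mod_cast hq
  have hw0 : (0 : ℤ) < w := by exact_mod_cast (show 0 < w by omega)
  have hij : (1 : ℤ) ≤ i * j := by nlinarith
  rcases h.cases with ⟨rfl, -⟩ | ⟨rfl, -⟩ <;> push_cast at hv
  · rw [one_mul] at hv
    have e2 : 3 * ((i : ℤ) * j) * w + 3 * i - 3 * j * q = (q : ℤ) * (q + 2) :=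
      mul_left_cancel₀ hw0.ne' (by linear_combination e1 - (q : ℤ) * ((q : ℤ) + 2) * hv)
    nlinarith [mul_le_mul_of_nonneg_right hj1 (show (0 : ℤ) ≤ 3 * w - 3 * q by nlinarith),
      mul_le_mul_of_nonneg_right hi1 (show (0 : ℤ) ≤ 3 * w * j by nlinarith)]
  · have e2 : ((i : ℤ) * j) * (3 * w) + 3 * i - 3 * j * q = 3 * ((q : ℤ) * (q + 2)) :=
      mul_left_cancel₀ hw0.ne' (by linear_combination e1 - (q : ℤ) * ((q : ℤ) + 2) * hv)
    rw [hv] at e2
    rcases le_or_gt ((i : ℤ) * j) 3 with h3 | h4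
    · nlinarith [mul_nonneg (show (0 : ℤ) ≤ 3 - i * j by omega) (show (0 : ℤ) ≤ q * q - q by nlinarith)]
    · have h5 : (j : ℤ) ≤ i * j := by nlinarith
      nlinarith [mul_le_mul_of_nonneg_right h5 (show (0 : ℤ) ≤ 3 * q by omega),
        mul_nonneg (show (0 : ℤ) ≤ i * j - 4 by omega) (show (0 : ℤ) ≤ q * q - 4 * q by nlinarith)]

/-- Middle exponents do not occur. -/
theorem middle {x m k K : ℕ} (hx : (q : ZMod w) * x * m = 1) (hmk : m * k = bb q) (hK : K ≤ k)
    (hlt : x * bb q + q * K ≤ w * K) : False := by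
  have hq := h.four_le
  have hm : 0 < m := Nat.pos_of_ne_zero (by rintro rfl; simp at hmk; exact (bb_pos h).ne hmk)
  have h0 : ((x * m + q - 1 : ℕ) : ZMod w) = 0 := by
    rw [Nat.cast_sub (by omega)]
    push_cast
    linear_combination ((1 : ZMod w) - q) * hx + (x : ZMod w) * m * cast_v h
  rw [ZMod.natCast_eq_zero_iff] at h0
  have hle := Nat.le_of_dvd (by omega) h0
  have hK0 : 0 < K ∨ K = 0 := (Nat.eq_zero_or_pos K).symm
  rcases hK0 with hK0 | rfl
  · have h1 : (x * m + q - 1) * K < w * K := by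
      have h2 : x * m * K ≤ x * bb q := by
        rw [← hmk, mul_assoc]; exact Nat.mul_le_mul_left x (Nat.mul_le_mul_left m hK)
      calc (x * m + q - 1) * K < (x * m + q) * K := Nat.mul_lt_mul_of_pos_right (by omega) hK0
        _ = x * m * K + q * K := by ring
        _ ≤ _ := le_trans (by omega) hlt
    exact absurd hle (Nat.not_le.2 (Nat.lt_of_mul_lt_mul_right h1))
  · simp at hlt
    rcases hlt with hlt | hlt
    · subst hlt
      simp at hx
      have hw := q_lt h
      haveI : Fact (1 < w) := ⟨by omega⟩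
      exact zero_ne_one hx
    · exact (bb_pos h).ne' hlt

omit h in
theorem eight_mul_le {x : ℕ} (hq : 64 ≤ q) (hx : x * x ≤ q) : 8 * x ≤ q := by
  by_contra hcon
  nlinarith

set_option maxHeartbeats 1000000 in
/-- The possible indices. -/
theorem cases_index {p f D t : ℕ} (hp : p.Prime) (hq : q = p ^ f) (hne5 : q ≠ 5) (hT : 3 * D * t = q ^ 3 * bb q)
    (hD : (D : ZMod w) = 1) :
    D = 1 ∨ t = 1 ∨ (q = 4 ∧ (D = 40 ∨ t = 40)) ∨ (q = 8 ∧ (D = 96 ∨ t = 96)) := by
  have hq4 := h.four_le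
  have hwq := q_lt h
  have ht : (t : ZMod w) = 1 := by
    refine (three_unit h).mul_left_cancel ?_
    have := congrArg (Nat.cast : ℕ → ZMod w) hT
    push_cast at this
    rw [cast_bb h, cast_cube h, hD] at this
    linear_combination this
  by_cases h64 : q < 64
  · -- the finite list
    have hw' : w = (q * q + 1 - q) / if q % 3 = 2 then 3 else 1 := by
      have := h.mul_eq
      rcases h.cases with ⟨rfl, h3⟩ | ⟨rfl, h3⟩
      · rw [if_neg h3, Nat.div_one]; omega
      · rw [if_pos h3, show q * q + 1 - q = 3 * w by omega, Nat.mul_div_cancel_left _ (by norm_num)]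
    have hnp : q ≠ 6 ∧ q ≠ 14 ∧ q ≠ 35 := by
      refine ⟨?_, ?_, ?_⟩ <;> intro e <;> rw [e] at hq
      · have h2 : p = 2 := (Nat.prime_dvd_prime_iff_eq Nat.prime_two hp).1
          (Nat.prime_two.dvd_of_dvd_pow (hq ▸ by norm_num : 2 ∣ p ^ f)) |>.symm
        subst h2
        exact absurd (Nat.prime_three.dvd_of_dvd_pow (hq ▸ by norm_num : 3 ∣ 2 ^ f)) (by norm_num)
      · have h2 : p = 2 := (Nat.prime_dvd_prime_iff_eq Nat.prime_two hp).1
          (Nat.prime_two.dvd_of_dvd_pow (hq ▸ by norm_num : 2 ∣ p ^ f)) |>.symm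
        subst h2
        exact absurd ((show Nat.Prime 7 by norm_num).dvd_of_dvd_pow (hq ▸ by norm_num : 7 ∣ 2 ^ f)) (by norm_num)
      · have h2 : p = 5 := (Nat.prime_dvd_prime_iff_eq Nat.prime_five hp).1
          (Nat.prime_five.dvd_of_dvd_pow (hq ▸ by norm_num : 5 ∣ p ^ f)) |>.symm
        subst h2
        exact absurd ((show Nat.Prime 7 by norm_num).dvd_of_dvd_pow (hq ▸ by norm_num : 7 ∣ 5 ^ f)) (by norm_num)
    have key : ∀ {D t : ℕ}, (D : ZMod w) = 1 → (t : ZMod w) = 1 → 3 * D * t = q ^ 3 * bb q → D ≤ t →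
        D = 1 ∨ (q = 4 ∧ D = 40) ∨ (q = 8 ∧ D = 96) := by
      intro D t hD ht hT hle
      obtain ⟨j, rfl⟩ := eq_add_mul h (show 1 < w by omega) (n := D) (r := 1) (by simpa using hD)
      have hsq : 3 * ((1 + w * j) * (1 + w * j)) ≤ q ^ 3 * bb q := by
        rw [← hT, mul_assoc]; exact Nat.mul_le_mul_left 3 (Nat.mul_le_mul_left _ hle)
      have hB : bb q ≤ (q + 1) ^ 3 := by
        rw [bb, pow_succ (q + 1) 2]; exact Nat.mul_le_mul_left _ (by omega)
      have hj : j < 3 * q + 7 := by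
        by_contra hcon
        have hv := h.mul_eq
        have hd3 : d ≤ 3 := by rcases h.cases with ⟨rfl, -⟩ | ⟨rfl, -⟩ <;> omega
        have h1 : (q * q + 1) * (3 * q + 7) ≤ (d * w + q) * j := by rw [hv]; exact Nat.mul_le_mul_left _ (by omega)
        have h2 : (q * q + 1 - q) * (3 * q + 7) ≤ 3 * (w * j) := by
          rw [← hv, Nat.add_sub_cancel, mul_assoc]
          exact Nat.mul_le_mul hd3 (Nat.mul_le_mul_left w (by omega))
        have h3 : 3 * q * q * q ≤ (q * q + 1 - q) * (3 * q + 7) := by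
          obtain ⟨r, hr⟩ : ∃ r, q * q + 1 = r + q := ⟨d * w, hv.symm⟩
          rw [show q * q + 1 - q = r by omega]
          nlinarith
        have h4 : q * q * q < 1 + w * j := by nlinarith
        have h5 : q ^ 3 * bb q ≤ q ^ 3 * (2 * (q * q * q)) :=
          Nat.mul_le_mul_left _ (hB.trans (by nlinarith [Nat.mul_le_mul_right (q * q) hq4, Nat.mul_le_mul_right q hq4]))
        nlinarith [Nat.mul_lt_mul'' h4 h4]
      have hc := check
      rw [List.all_eq_true] at hc
      have hc' := hc q (List.mem_range.2 h64)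
      simp only [Bool.or_eq_true, decide_eq_true_eq, List.contains_iff_mem, List.mem_cons, List.not_mem_nil,
        or_false, List.all_eq_true, List.mem_range, Bool.and_eq_true, beq_iff_eq, Bool.not_eq_true'] at hc'
      rcases hc' with (hc' | hc') | hc'
      · omega
      · omega
      have hbad : badJ q j = true := by
        simp only [badJ, ← hw', Bool.and_eq_true, beq_iff_eq]
        rw [show 3 * (1 + j * w) = 3 * (1 + w * j) by ring, ← hT]
        refine ⟨Nat.mul_mod_right _ _, ?_⟩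
        rw [Nat.mul_div_cancel_left _ (by positivity)]
        have := (ZMod.natCast_eq_natCast_iff' t 1 w).1 (by simpa using ht)
        rwa [Nat.mod_eq_of_lt (show 1 < w by omega)] at this
      rcases hc' j hj with ((e | e) | ⟨e, e'⟩) | ⟨e, e'⟩
      · rw [hbad] at e; exact absurd e (by simp)
      · left; rw [e]; simp
      · subst e'; right; left; refine ⟨e, ?_⟩
        have := h.mul_eq; rw [e] at this
        rcases h.cases with ⟨rfl, -⟩ | ⟨rfl, h3⟩ <;> omega
      · subst e'; right; right; refine ⟨e, ?_⟩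
        have := h.mul_eq; rw [e] at this
        rcases h.cases with ⟨rfl, h3⟩ | ⟨rfl, h3⟩ <;> omega
    rcases le_total D t with hle | hle
    · rcases key hD ht hT hle with e | ⟨e, e'⟩ | ⟨e, e'⟩
      · exact Or.inl e
      · exact Or.inr (Or.inr (Or.inl ⟨e, Or.inl e'⟩))
      · exact Or.inr (Or.inr (Or.inr ⟨e, Or.inl e'⟩))
    · rcases key ht hD (by rw [← hT]; ring) hle with e | ⟨e, e'⟩ | ⟨e, e'⟩
      · exact Or.inr (Or.inl e)
      · exact Or.inr (Or.inr (Or.inl ⟨e, Or.inr e'⟩))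
      · exact Or.inr (Or.inr (Or.inr ⟨e, Or.inr e'⟩))
  have h64' : 64 ≤ q := by omega
  have hf : 0 < f := Nat.pos_of_ne_zero (by rintro rfl; simp at hq; omega)
  suffices key : ∀ {D t a b m n : ℕ}, D = p ^ a * m → t = p ^ b * n → ¬ p ∣ m → ¬ p ∣ n →
      (D : ZMod w) = 1 → (t : ZMod w) = 1 → 3 * D * t = q ^ 3 * bb q → a ≤ b → D = 1 by
    have hpos : 0 < q ^ 3 * bb q := Nat.mul_pos (pow_pos (by omega) 3) (bb_pos h)
    have hD0 : D ≠ 0 := by rintro rfl; rw [mul_zero, zero_mul] at hT; omega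
    have ht0 : t ≠ 0 := by rintro rfl; rw [mul_zero] at hT; omega
    obtain ⟨a, m, hm, hDm⟩ := Nat.exists_eq_pow_mul_and_not_dvd hD0 p hp.ne_one
    obtain ⟨b, n, hn, htn⟩ := Nat.exists_eq_pow_mul_and_not_dvd ht0 p hp.ne_one
    rcases le_total a b with hle | hle
    · exact Or.inl (key hDm htn hm hn hD ht hT hle)
    · exact Or.inr (Or.inl (key htn hDm hn hm ht hD (by rw [← hT]; ring) hle))
  intro D t a b m n hDm htn hm hn hD ht hT hab
  have hqz : (q : ZMod w) = (p : ZMod w) ^ f := by rw [hq]; push_cast; rfl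
  have hpB : ¬ p ∣ bb q := by
    intro hdvd
    have hpq : p ∣ q := hq ▸ dvd_pow_self p hf.ne'
    rcases hp.dvd_mul.1 hdvd with hd1 | hd1
    · have := Nat.dvd_sub (hp.dvd_of_dvd_pow hd1) hpq
      rw [show q + 1 - q = 1 by omega] at this
      exact hp.not_dvd_one this
    · have := Nat.dvd_sub hpq hd1
      rw [show q - (q - 1) = 1 by omega] at this
      exact hp.not_dvd_one this
  have hv := v_int h
  have hq' : (64 : ℤ) ≤ q := by exact_mod_cast h64'
  have hmn : ∀ (g : ℕ) (e : ℕ), ¬ p ∣ e → 3 = p ^ g * e → g + a + b = 3 * f ∧ e * m * n = bb q := by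
    intro g e he h3
    have h1 : p ^ (g + a + b) * (e * m * n) = p ^ (3 * f) * bb q := by
      rw [mul_comm 3 f, pow_mul, ← hq, ← hT, hDm, htn, h3, pow_add, pow_add]; ring
    have h2 := congrArg (fun z => padicValNat p z) h1
    haveI := Fact.mk hp
    have hu : ¬ p ∣ e * m * n := Nat.Prime.not_dvd_mul hp (Nat.Prime.not_dvd_mul hp he hm) hn
    have hu0 : e * m * n ≠ 0 := fun z => hu (z ▸ dvd_zero p)
    simp only [padicValNat.mul (pow_ne_zero _ hp.ne_zero) hu0, padicValNat.mul (pow_ne_zero _ hp.ne_zero)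
      (bb_pos h).ne', padicValNat.prime_pow, padicValNat.eq_zero_of_not_dvd hu, padicValNat.eq_zero_of_not_dvd hpB,
      add_zero] at h2
    rw [h2] at h1
    exact ⟨h2, Nat.eq_of_mul_eq_mul_left (pow_pos hp.pos _) h1⟩
  by_cases hp3 : p = 3
  · subst hp3
    obtain ⟨hsum, hmk⟩ := hmn 1 1 (by norm_num) (by norm_num)
    rw [one_mul] at hmk
    by_cases ha : a + 1 ≤ f
    · refine small h h64' hD (s := 3 ^ (f - (a + 1)) * n) ?_
      rw [hDm, ← hmk, hq, show 3 * (3 ^ a * m) * (3 ^ (f - (a + 1)) * n) = 3 ^ (a + 1) * 3 ^ (f - (a + 1)) * (m * n) by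
        rw [pow_succ]; ring, ← pow_add, Nat.add_sub_cancel' ha]
    exfalso
    obtain ⟨c, rfl⟩ := Nat.exists_eq_add_of_le (show f ≤ a by omega)
    have hx : 3 * (3 ^ c * 3 ^ c) ≤ q := by
      rw [hq, ← pow_add, ← pow_succ']; exact Nat.pow_le_pow_right (by norm_num) (by omega)
    have h8 : 8 * 3 ^ c ≤ q := eight_mul_le h64' (by omega)
    have hd1 : d = 1 := by
      rcases h.cases with ⟨hd, -⟩ | ⟨-, h2⟩
      · exact hd
      · exfalso
        have : 3 ∣ q := hq ▸ dvd_pow_self 3 hf.ne'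
        omega
    have hk : ((n + q * (3 * 3 ^ c) : ℕ) : ZMod w) = 0 := by
      have hb : ((3 : ℕ) : ZMod w) ^ b * 3 * (3 : ZMod w) ^ c = (q : ZMod w) ^ 2 := by
        rw [hqz, Nat.cast_ofNat, ← pow_succ, ← pow_add, ← pow_mul]; congr 1; omega
      have ht' : ((3 : ℕ) : ZMod w) ^ b * n = 1 := by rw [← ht, htn]; push_cast; rfl
      push_cast
      linear_combination -(q : ZMod w) * (3 * (3 : ZMod w) ^ c) * ht' + (q : ZMod w) * (n : ZMod w) * hb +
        (n : ZMod w) * cast_cube h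
    rw [ZMod.natCast_eq_zero_iff] at hk
    have hk' := Nat.le_of_dvd (by positivity) hk
    refine middle h (x := 3 ^ c) (K := w - q * (3 * 3 ^ c)) ?_ hmk (by omega) ?_
    · rw [← hD, hDm, hq]; push_cast; ring
    · have hw1 : (w : ℤ) = (q : ℤ) * q - q + 1 := by rw [← hv, hd1]; simp
      have h8' : 8 * ((3 ^ c : ℕ) : ℤ) ≤ q := by exact_mod_cast h8
      have hb' := bb_int h
      have hwle : q * (3 * 3 ^ c) ≤ w := by
        zify; push_cast at h8' ⊢; rw [hw1]; nlinarith
      zify [hwle]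
      rw [hw1, hb']
      nlinarith [mul_le_mul_of_nonneg_right h8' (show (0 : ℤ) ≤ (q + 1) ^ 2 * (q - 1) by nlinarith),
        mul_le_mul_of_nonneg_right h8' (show (0 : ℤ) ≤ q * (q * q - 2 * q + 1) by nlinarith)]
  · have h3p : ¬ p ∣ 3 := fun hdvd => hp3 ((Nat.prime_dvd_prime_iff_eq hp Nat.prime_three).1 hdvd)
    obtain ⟨hsum, hmk⟩ := hmn 0 3 h3p (by norm_num)
    by_cases ha : a ≤ f
    · refine small h h64' hD (s := p ^ (f - a) * n) ?_
      rw [hDm, ← hmk, hq, show 3 * (p ^ a * m) * (p ^ (f - a) * n) = p ^ a * p ^ (f - a) * (3 * m * n) by ring,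
        ← pow_add, Nat.add_sub_cancel' ha]
    exfalso
    obtain ⟨c, rfl⟩ := Nat.exists_eq_add_of_le (show f ≤ a by omega)
    have hx : p ^ c * p ^ c ≤ q := by
      rw [hq, ← pow_add]; exact Nat.pow_le_pow_right hp.pos (by omega)
    have h8 : 8 * p ^ c ≤ q := eight_mul_le h64' hx
    have hk : ((n + q * p ^ c : ℕ) : ZMod w) = 0 := by
      have hb : (p : ZMod w) ^ b * (p : ZMod w) ^ c = (q : ZMod w) ^ 2 := by
        rw [hqz, ← pow_add, ← pow_mul]; congr 1; omega
      have ht' : (p : ZMod w) ^ b * n = 1 := by rw [← ht, htn]; push_cast; rfl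
      push_cast
      linear_combination -(q : ZMod w) * (p : ZMod w) ^ c * ht' + (q : ZMod w) * (n : ZMod w) * hb +
        (n : ZMod w) * cast_cube h
    rw [ZMod.natCast_eq_zero_iff] at hk
    have hk' := Nat.le_of_dvd (Nat.add_pos_right _ (Nat.mul_pos (by omega) (pow_pos hp.pos c))) hk
    refine middle h (x := p ^ c) (m := m) (k := 3 * n) (K := 3 * (w - q * p ^ c)) ?_ (by rw [← hmk]; ring) (by omega) ?_
    · rw [← hD, hDm, hq]; push_cast; ring
    · have hw1 : (q : ℤ) * q - q + 1 ≤ 3 * w := by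
        rw [← hv]
        rcases h.cases with ⟨hd, -⟩ | ⟨hd, -⟩ <;> rw [hd] <;> push_cast <;> linarith [Int.natCast_nonneg w]
      have h8' : 8 * ((p ^ c : ℕ) : ℤ) ≤ q := by exact_mod_cast h8
      have hb' := bb_int h
      have hwle : q * p ^ c ≤ w := by
        zify; push_cast at h8' ⊢; nlinarith
      zify [hwle]
      rw [hb']
      push_cast at h8' ⊢
      have hqq := mul_le_mul_of_nonneg_right hq' (show (0 : ℤ) ≤ q by omega)
      have e1 := mul_le_mul_of_nonneg_right h8' (show (0 : ℤ) ≤ 3 * ((q + 1) ^ 2 * (q - 1)) by nlinarith)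
      have e2 := mul_le_mul_of_nonneg_left h8' (show (0 : ℤ) ≤ 3 * q by omega)
      have e3 : ((q : ℤ) * q - 4 * q + 1) * (8 * (q * q - q + 1) - 3 * q * q) ≤
          (3 * w - 3 * q) * (8 * (3 * w - 3 * (q * (p : ℤ) ^ c))) :=
        mul_le_mul (by linarith) (by nlinarith) (by nlinarith) (by nlinarith)
      have e4 : 3 * (q : ℤ) * ((q + 1) ^ 2 * (q - 1)) ≤
          ((q : ℤ) * q - 4 * q + 1) * (8 * (q * q - q + 1) - 3 * q * q) := by
        nlinarith [mul_le_mul_of_nonneg_right hqq (show (0 : ℤ) ≤ q * q by positivity),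
          mul_le_mul_of_nonneg_right hq' (show (0 : ℤ) ≤ q * q by positivity)]
      nlinarith

end CfsgLib.Dim3Max.USingerArith
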