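import Cfsg.Agent.Lib.Dim3Max.SingerGroup
import Cfsg.Agent.Lib.Dim3Max.URoot
import Cfsg.Agent.Lib.Dim3Max.USingerArith
import Cfsg.Agent.Lib.Classical.UnitarySU

/-!
The normaliser of an adjoint closed cubic field of matrices in the special unitary group, and its index below an
overgroup.
-/

set_option autoImplicit false
set_option linter.unusedSectionVars false
set_option linter.style.haveILetI false

namespace CfsgLib.Dim3Max.USingerGroup

open scoped Matrix MatrixGroups
open CfsgLib.Maximal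

universe u

variable {F : Type u} [Field F] [Fintype F] {q : ℕ} {τ : F ≃+* F} (H : USetup (F := F) q τ)
  {K : Subalgebra F (Matrix (Fin 3) (Fin 3) F)}
include H

local notation "hh" => hf3 F q
local notation "MM" => Matrix (Fin 3) (Fin 3) F

theorem eq_of_adj {A B : MM} (h : ∀ u v, hh u (A *ᵥ v) = hh u (B *ᵥ v)) : A = B :=
  Matrix.toLin'.injective (LinearMap.ext fun v => by
    rw [Matrix.toLin'_apply, Matrix.toLin'_apply]
    exact un_eq_of_forall H.form fun u => h u v)

omit H in
/-- The adjoint on the field. -/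
noncomputable def adj (hadj : Cfsg.Geo.IsAdjointClosedFor (hf3 F q) K) (x : K) : K :=
  ⟨(hadj x.1 x.2).choose, (hadj x.1 x.2).choose_spec.1⟩

omit H in
theorem adj_spec (hadj : Cfsg.Geo.IsAdjointClosedFor (hf3 F q) K) (x : K) (u v : Fin 3 → F) :
    hh ((x : MM) *ᵥ u) v = hh u ((adj hadj x : MM) *ᵥ v) :=
  (hadj x.1 x.2).choose_spec.2 u v

theorem adj_adj (hadj : Cfsg.Geo.IsAdjointClosedFor (hf3 F q) K) (x : K) : adj hadj (adj hadj x) = x := by
  refine Subtype.ext (eq_of_adj H fun u v => ?_)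
  rw [← adj_spec hadj, H.form.herm, ← adj_spec hadj, ← H.form.herm]

theorem adj_ne (hadj : Cfsg.Geo.IsAdjointClosedFor (hf3 F q) K) : ∃ t : K, adj hadj t ≠ t := by
  obtain ⟨a, ha⟩ : ∃ a : F, τ a ≠ a := by
    by_contra hcon
    push Not at hcon
    exact H.form.ne_refl (RingEquiv.ext hcon)
  refine ⟨algebraMap F K a, fun h => ha ?_⟩
  obtain ⟨y, hy⟩ := un_exists H.form (Pi.single 0 1) (fun e => by simpa using congrFun e (0 : Fin 3))
  have h1 := adj_spec hadj (algebraMap F K a) (Pi.single 0 1) y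
  rw [h] at h1
  simp only [Subalgebra.coe_algebraMap, Algebra.algebraMap_eq_smul_one, SetLike.val_smul, OneMemClass.coe_one, Matrix.smul_mulVec, Matrix.one_mulVec,
    H.form.smul_left, un_smul_right H.form, hy, mul_one] at h1
  exact h1.symm

/-- The adjoint as an automorphism of the field. -/
noncomputable def adjEquiv (hK : Cfsg.Geo.IsFieldSubalgebra 3 K)
    (hadj : Cfsg.Geo.IsAdjointClosedFor (hf3 F q) K) : K ≃+* K where
  toFun := adj hadj
  invFun := adj hadj
  left_inv := adj_adj H hadj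
  right_inv := adj_adj H hadj
  map_mul' x y := Subtype.ext (eq_of_adj H fun u v => by
    rw [← adj_spec hadj, MulMemClass.coe_mul, hK.comm _ x.2 _ y.2, ← Matrix.mulVec_mulVec, adj_spec hadj,
      adj_spec hadj, Matrix.mulVec_mulVec, MulMemClass.coe_mul, hK.comm _ (adj hadj x).2 _ (adj hadj y).2])
  map_add' x y := Subtype.ext (eq_of_adj H fun u v => by
    rw [← adj_spec hadj, AddMemClass.coe_add, Matrix.add_mulVec, H.form.add_left, adj_spec hadj, adj_spec hadj,
      AddMemClass.coe_add, Matrix.add_mulVec, un_add_right H.form])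

theorem card_field (hK : Cfsg.Geo.IsFieldSubalgebra 3 K) : Nat.card K = q ^ 6 := by
  haveI : Module.Finite F K := Module.finite_of_finrank_eq_succ hK.finrank_eq
  rw [Module.natCard_eq_pow_finrank (K := F) (V := K), hK.finrank_eq, Nat.card_eq_fintype_card, H.card, ← pow_mul]

/-- The adjoint is the middle Frobenius. -/
theorem adj_eq_pow (hK : Cfsg.Geo.IsFieldSubalgebra 3 K) (hadj : Cfsg.Geo.IsAdjointClosedFor (hf3 F q) K) (x : K) :
    adj hadj x = x ^ q ^ 3 := by
  classical
  letI : Field K := fieldOfSub K hK one_ne_zero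
  haveI : Finite MM := inferInstanceAs (Finite (Fin 3 → Fin 3 → F))
  haveI : Finite K := Finite.of_injective Subtype.val Subtype.val_injective
  haveI := Fintype.ofFinite K
  have hrw : adjEquiv H hK hadj x = adj hadj x := rfl
  rw [← hrw]
  obtain ⟨t, ht⟩ := adj_ne H hadj
  set φ : K ≃+* K := adjEquiv H hK hadj
  have hinv : ∀ y, φ (φ y) = y := adj_adj H hadj
  have ht' : t - φ t ≠ 0 := sub_ne_zero.2 (Ne.symm ht)
  set L : Subfield K := (φ : K →+* K).eqLocusField (RingHom.id K) with hLdef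
  have hL : ∀ y, y ∈ L ↔ φ y = y := fun y => Iff.rfl
  have hdec : ∀ y, ∃ a b : K, a ∈ L ∧ b ∈ L ∧ y = a + b * t := by
    intro y
    have hb : φ ((y - φ y) / (t - φ t)) = (y - φ y) / (t - φ t) := by
      rw [map_div₀, map_sub, map_sub, hinv, hinv, ← neg_sub y, ← neg_sub t, neg_div_neg_eq]
    refine ⟨y - (y - φ y) / (t - φ t) * t, (y - φ y) / (t - φ t), (hL _).2 ?_, (hL _).2 hb, by ring⟩
    rw [map_sub, map_mul, hb]
    field_simp
    ring
  have huniq : ∀ a b : K, a ∈ L → b ∈ L → a + b * t = 0 → a = 0 ∧ b = 0 := by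
    intro a b ha hb h0
    have h1 := congrArg φ h0
    rw [map_add, map_mul, (hL a).1 ha, (hL b).1 hb, map_zero] at h1
    have hb0 : b = 0 := (mul_eq_zero.1 (show b * (t - φ t) = 0 by linear_combination h0 - h1)).resolve_right ht'
    exact ⟨by rw [hb0, zero_mul, add_zero] at h0; exact h0, hb0⟩
  have hcard : Nat.card K = Nat.card L * Nat.card L := by
    rw [← Nat.card_prod]
    refine (Nat.card_eq_of_bijective (fun p : L × L => (p.1 : K) + p.2 * t) ⟨fun p p' h => ?_, fun y => ?_⟩).symm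
    · simp only at h
      obtain ⟨e1, e2⟩ := huniq ((p.1 : K) - p'.1) ((p.2 : K) - p'.2) (L.sub_mem p.1.2 p'.1.2)
        (L.sub_mem p.2.2 p'.2.2) (by linear_combination h)
      exact Prod.ext (Subtype.ext (sub_eq_zero.1 e1)) (Subtype.ext (sub_eq_zero.1 e2))
    · obtain ⟨a, b, ha, hb, rfl⟩ := hdec y
      exact ⟨(⟨a, ha⟩, ⟨b, hb⟩), rfl⟩
  have hLq : Nat.card L = q ^ 3 := by
    have h6 := card_field H hK
    rw [hcard, show q ^ 6 = q ^ 3 * q ^ 3 by ring] at h6
    exact Nat.mul_self_inj.1 h6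
  have hpowL : ∀ y ∈ L, y ^ q ^ 3 = y := fun y hy => by
    haveI := Fintype.ofFinite L
    have := congrArg Subtype.val (FiniteField.pow_card (⟨y, hy⟩ : L))
    rwa [SubmonoidClass.coe_pow, ← Nat.card_eq_fintype_card, hLq] at this
  obtain ⟨p, hp⟩ := CharP.exists F
  obtain ⟨n, hpp, hn⟩ := FiniteField.card F p
  haveI : Fact p.Prime := ⟨hpp⟩
  haveI : CharP K p := charP_of_injective_algebraMap (algebraMap F K).injective p
  obtain ⟨i, -, hi⟩ := (Nat.dvd_prime_pow hpp).1 (show q ∣ p ^ (n : ℕ) by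
    rw [← hn, H.card]; exact dvd_pow_self q two_ne_zero)
  set Fr := iterateFrobenius K p (i * 3) with hFr
  have hFrd : ∀ y, Fr y = y ^ q ^ 3 := fun y => by rw [hFr, iterateFrobenius_def, pow_mul, ← hi]
  have hfix : ∀ y, y ^ q ^ 3 = y → y ∈ L := by
    have hsub : {y : K | y ∈ L} = {y : K | y ^ q ^ 3 = y} := by
      refine Set.eq_of_subset_of_ncard_le (fun y hy => hpowL y hy) ?_ (Set.toFinite _)
      have hq3 : 1 < q ^ 3 := Nat.one_lt_pow (by norm_num) (by have := H.three_le; omega)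
      have hne : (Polynomial.X ^ q ^ 3 - Polynomial.X : Polynomial K) ≠ 0 :=
        FiniteField.X_pow_card_sub_X_ne_zero K hq3
      refine le_trans (Set.ncard_le_ncard
        (t := ↑(Polynomial.X ^ q ^ 3 - Polynomial.X : Polynomial K).roots.toFinset) (fun z hz => ?_)
        (Finset.finite_toSet _)) ?_
      · rw [Finset.mem_coe, Multiset.mem_toFinset, Polynomial.mem_roots hne, Polynomial.IsRoot.def,
          Polynomial.eval_sub, Polynomial.eval_pow, Polynomial.eval_X, sub_eq_zero]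
        exact hz
      · rw [Set.ncard_coe_finset]
        refine (Multiset.toFinset_card_le _).trans ((Polynomial.card_roots' _).trans ?_)
        rw [FiniteField.X_pow_card_sub_X_natDegree_eq K hq3, ← hLq, ← Nat.card_coe_set_eq]
        rfl
    intro y hy
    exact (Set.ext_iff.1 hsub y).2 hy
  have hs : x + φ x ∈ L := (hL _).2 (by rw [map_add, hinv, add_comm])
  have hm : x * φ x ∈ L := (hL _).2 (by rw [map_mul, hinv, mul_comm])
  have hs' : Fr x + Fr (φ x) = x + φ x := by rw [← map_add, hFrd]; exact hpowL _ hs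
  have hm' : Fr x * Fr (φ x) = x * φ x := by rw [← map_mul, hFrd]; exact hpowL _ hm
  have hroot : (Fr x - x) * (Fr x - φ x) = 0 := by linear_combination (Fr x) * hs' - hm'
  rcases mul_eq_zero.1 hroot with h | h
  · rw [hFrd, sub_eq_zero] at h
    rw [h]; exact (hL x).1 (hfix x h)
  · rw [hFrd, sub_eq_zero] at h
    exact h.symm

omit H in
/-- The unitary elements of the field. -/
abbrev ucGroup (q : ℕ) (K : Subalgebra F MM) : Subgroup (GL (Fin 3) F) := SingerGroup.cGroup K ⊓ su3 F q

omit H in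
/-- The normaliser in the special unitary group. -/
abbrev uhGroup (q : ℕ) (K : Subalgebra F MM) : Subgroup (GL (Fin 3) F) :=
  Cfsg.Geo.subalgebraNormalizer K ⊓ su3 F q

omit H in
theorem uhGroup_le : uhGroup q K ≤ SingerGroup.hGroup K := fun _ hg => ⟨hg.1, hg.2.2⟩

omit H in
theorem ucGroup_le (hK : Cfsg.Geo.IsFieldSubalgebra 3 K) : ucGroup q K ≤ uhGroup q K :=
  fun _ hg => ⟨(SingerGroup.cGroup_le hK hg.1).1, hg.2⟩

theorem mem_su3_iff (hK : Cfsg.Geo.IsFieldSubalgebra 3 K) (hadj : Cfsg.Geo.IsAdjointClosedFor (hf3 F q) K)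
    {g : GL (Fin 3) F} (hg : g ∈ SingerGroup.cGroup K) : g ∈ su3 F q ↔ g ^ (q ^ 3 + 1) = 1 := by
  obtain ⟨hgK, hgS⟩ := (SingerGroup.mem_cGroup hK).1 hg
  set x : K := ⟨(g : MM), hgK⟩
  have hx : ((adj hadj x : K) : MM) * (g : MM) = ((g ^ (q ^ 3 + 1) : GL (Fin 3) F) : MM) := by
    rw [adj_eq_pow H hK hadj, SubmonoidClass.coe_pow, pow_succ g, Units.val_mul, Units.val_pow_eq_pow_val]
  constructor
  · intro h
    refine Units.ext ?_
    rw [← hx, Units.val_one]
    refine eq_of_adj H fun u v => ?_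
    rw [← Matrix.mulVec_mulVec, ← adj_spec hadj, Matrix.one_mulVec]
    exact (mem_GU_iff g).1 h.1 u v
  · intro h
    refine ⟨(mem_GU_iff g).2 fun u v => ?_, hgS⟩
    show hh ((x : MM) *ᵥ u) _ = _
    rw [adj_spec hadj, Matrix.mulVec_mulVec, hx, h, Units.val_one, Matrix.one_mulVec]

omit H in
theorem arith {q n : ℕ} (hn : n + q = q * q + 1) :
    q ^ 2 * q ^ 2 + q ^ 2 + 1 = (q * q + q + 1) * n ∧ q ^ 3 + 1 = (q + 1) * n ∧ Nat.Coprime (q + 1) (q * q + q + 1) := by
  have hn' : (n : ℤ) + q = q * q + 1 := by exact_mod_cast hn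
  refine ⟨?_, ?_, ?_⟩
  · zify; linear_combination -((q : ℤ) * q + q + 1) * hn'
  · zify; linear_combination -((q : ℤ) + 1) * hn'
  · rw [show q * q + q + 1 = 1 + q * (q + 1) by ring, Nat.coprime_add_mul_right_right]
    exact Nat.coprime_one_right _

/-- The unitary elements of norm one and a generator. -/
theorem exists_generator (hK : Cfsg.Geo.IsFieldSubalgebra 3 K) (hadj : Cfsg.Geo.IsAdjointClosedFor (hf3 F q) K) :
    ∃ c ∈ ucGroup q K, orderOf c + q = q * q + 1 ∧ Nat.card (ucGroup q K) = orderOf c := by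
  haveI : Finite (GL (Fin 3) F) := inferInstance
  obtain ⟨hc0, c, hc, hord⟩ := SingerGroup.exists_generator hK
  rw [H.card] at hc0 hord
  obtain ⟨n, hn⟩ : ∃ n, n + q = q * q + 1 := ⟨q * q + 1 - q, Nat.sub_add_cancel (le_trans (Nat.le_mul_self q) (Nat.le_succ _))⟩
  obtain ⟨e1, e2, e3⟩ := arith hn
  rw [e1] at hc0 hord
  set m := q * q + q + 1 with hm
  have hn0 : 0 < n := by
    rcases Nat.eq_zero_or_pos n with rfl | h
    · have := H.three_le; have := Nat.mul_le_mul_right q H.three_le; omega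
    · exact h
  have hordc : orderOf (c ^ m) = n := by
    rw [orderOf_pow_of_dvd (by omega) (by rw [hord]; exact dvd_mul_right _ _), hord,
      Nat.mul_div_cancel_left _ (by omega)]
  have hz : Subgroup.zpowers c = SingerGroup.cGroup K :=
    Subgroup.eq_of_le_of_card_ge (Subgroup.zpowers_le.2 hc) (by rw [Nat.card_zpowers, hord, hc0])
  have hmem : c ^ m ∈ ucGroup q K := by
    refine ⟨pow_mem hc _, (mem_su3_iff H hK hadj (pow_mem hc _)).2 ?_⟩
    rw [← orderOf_dvd_iff_pow_eq_one, hordc, e2]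
    exact dvd_mul_left _ _
  have heq : ucGroup q K = Subgroup.zpowers (c ^ m) := by
    refine le_antisymm (fun g hg => ?_) (Subgroup.zpowers_le.2 hmem)
    obtain ⟨hgC, hgS⟩ := hg
    obtain ⟨i, rfl⟩ := Submonoid.mem_powers_iff _ _ |>.1 (mem_powers_iff_mem_zpowers.2 (hz ▸ hgC))
    have h1 := orderOf_dvd_iff_pow_eq_one.2 ((pow_mul c i _).trans ((mem_su3_iff H hK hadj hgC).1 hgS))
    rw [hord, e2, show i * ((q + 1) * n) = i * (q + 1) * n by ring] at h1
    obtain ⟨j, rfl⟩ := (Nat.Coprime.dvd_of_dvd_mul_right e3.symm (Nat.dvd_of_mul_dvd_mul_right hn0 h1))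
    rw [pow_mul]
    exact pow_mem (Subgroup.mem_zpowers _) _
  exact ⟨c ^ m, hmem, by rw [hordc]; exact hn, by rw [heq, Nat.card_zpowers]⟩

omit H in
theorem card_uhGroup_dvd (hK : Cfsg.Geo.IsFieldSubalgebra 3 K) :
    ∃ e, e ∣ 3 ∧ Nat.card (uhGroup q K) = e * Nat.card (ucGroup q K) := by
  let ψ := (SingerGroup.autHom hK).comp (Subgroup.inclusion (uhGroup_le (q := q) (K := K)))
  refine ⟨ψ.ker.index, ?_, ?_⟩
  · rw [Subgroup.index_ker]
    have := Subgroup.card_subgroup_dvd_card ψ.range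
    rwa [SingerGroup.card_aut hK] at this
  · have hker : ψ.ker = (ucGroup q K).subgroupOf (uhGroup q K) := by
      ext g
      rw [MonoidHom.mem_ker, MonoidHom.comp_apply, ← MonoidHom.mem_ker, SingerGroup.autHom_ker,
        Subgroup.mem_subgroupOf, Subgroup.mem_subgroupOf, Subgroup.mem_inf]
      exact ⟨fun h => ⟨h, g.2.2⟩, fun h => h.1⟩
    rw [← ψ.ker.card_mul_index, mul_comm, hker, Nat.card_congr (Subgroup.subgroupOfEquivOfLe (ucGroup_le hK)).toEquiv]

set_option synthInstance.maxHeartbeats 200000 in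
set_option maxHeartbeats 1000000 in
/-- The index below an overgroup is one modulo the order of the projective Singer group. -/
theorem index_cast (hK : Cfsg.Geo.IsFieldSubalgebra 3 K) (hadj : Cfsg.Geo.IsAdjointClosedFor (hf3 F q) K) {d w : ℕ}
    (hdw : d * w + q = q * q + 1) (hw : Nat.Coprime 3 w) {M : Subgroup (GL (Fin 3) F)} (hle : uhGroup q K ≤ M)
    (hMS : M ≤ su3 F q) : (((uhGroup q K).subgroupOf M).index : ZMod w) = 1 := by
  classical
  obtain ⟨c, hc, hcord, -⟩ := exists_generator H hK hadj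
  have hdpos : 0 < d := Nat.pos_of_ne_zero fun e => by
    rw [e, zero_mul] at hdw; have := H.three_le; have := Nat.mul_le_mul_right q H.three_le; omega
  replace hcord : orderOf c = d * w := by omega
  set c₁ := c ^ d with hc₁
  have hord : orderOf c₁ = w := by
    rw [hc₁, orderOf_pow_of_dvd hdpos.ne' (by rw [hcord]; exact dvd_mul_right _ _), hcord,
      Nat.mul_div_cancel_left _ hdpos]
  have hc₁M : c₁ ∈ M := hle (ucGroup_le hK (pow_mem hc d))
  set A : Subgroup M := Subgroup.zpowers ⟨c₁, hc₁M⟩ with hA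
  have hAcard : Nat.card A = w := by rw [Nat.card_zpowers, Subgroup.orderOf_mk, hord]
  set H' := (uhGroup q K).subgroupOf M
  have hAH : ∀ a : A, (a : M) ∈ H' := fun a => by
    obtain ⟨n, hn⟩ := Subgroup.mem_zpowers_iff.1 a.2
    rw [← hn]
    exact zpow_mem (show (⟨c₁, hc₁M⟩ : M) ∈ H' from ucGroup_le hK (pow_mem hc d)) n
  let Y : SubMulAction A (M ⧸ H') :=
    { carrier := {x | x ≠ ((1 : M) : M ⧸ H')}
      smul_mem' := fun a x hx e => hx (by
        rw [← inv_smul_smul a x, e]
        show ((((a⁻¹ : A) : M) * 1 : M) : M ⧸ H') = _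
        rw [mul_one, QuotientGroup.eq, mul_one]
        exact inv_mem (hAH a⁻¹)) }
  have hfree : ∀ y : Y, MulAction.stabilizer A y = ⊥ := by
    intro y
    rw [Subgroup.eq_bot_iff_forall]
    intro a ha
    by_contra ha1
    obtain ⟨g, hg⟩ := QuotientGroup.mk_surjective (y : M ⧸ H')
    refine y.2 ?_
    rw [← hg, eq_comm, QuotientGroup.eq, inv_one, one_mul]
    have hfix : (((a : M) * g : M) : M ⧸ H') = (g : M ⧸ H') := by
      have := congrArg Subtype.val (MulAction.mem_stabilizer_iff.1 ha)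
      rw [SubMulAction.val_smul, ← hg] at this
      exact this
    rw [eq_comm, QuotientGroup.eq] at hfix
    set G : GL (Fin 3) F := (g : GL (Fin 3) F)
    set z : GL (Fin 3) F := ((a : M) : GL (Fin 3) F)
    have hzC : z ∈ SingerGroup.cGroup K := by
      obtain ⟨n, hn⟩ := Subgroup.mem_zpowers_iff.1 a.2
      have : z = c₁ ^ n := by simp only [z, ← hn, SubgroupClass.coe_zpow]
      rw [this]
      exact zpow_mem (pow_mem (Subgroup.mem_inf.1 hc).1 d) n
    have hzw : z ^ w = 1 := by
      have h1 : a ^ w = 1 := by rw [← hAcard]; exact pow_card_eq_one'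
      have h2 := congrArg (fun b : A => ((b : M) : GL (Fin 3) F)) h1
      simpa [z] using h2
    have hz1 : z ≠ 1 := fun e => ha1 (Subtype.ext (Subtype.ext e))
    have hz9 : (z ^ 3) ^ 3 ≠ 1 := by
      intro e
      rw [← pow_mul] at e
      refine hz1 (orderOf_eq_one_iff.1 (Nat.eq_one_of_dvd_coprimes (Nat.Coprime.pow_left 2 hw)
        (by simpa using orderOf_dvd_of_pow_eq_one e) (orderOf_dvd_of_pow_eq_one hzw)))
    have hconjH : G⁻¹ * (z * G) ∈ uhGroup q K := hfix
    have h3 := SingerGroup.cube_mem hK (uhGroup_le hconjH)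
    have e3 : (G⁻¹ * (z * G)) ^ 3 = G⁻¹ * z ^ 3 * G⁻¹⁻¹ := by
      rw [← conj_pow]; group
    rw [e3] at h3
    have hN : G⁻¹ ∈ Cfsg.Geo.subalgebraNormalizer K :=
      SingerGroup.mem_normalizer_of_conj hK ((SingerGroup.mem_cGroup hK).1 (pow_mem hzC 3)).1
        (fun b hb => hz9 (SingerGroup.eq_scalar_pow (pow_mem hzC 3).2 hb))
        (by have := ((SingerGroup.mem_cGroup hK).1 h3).1; simpa only [Units.val_mul] using this)
    refine ⟨?_, hMS g.2⟩
    show G ∈ Cfsg.Geo.subalgebraNormalizer K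
    simpa only [inv_inv] using inv_mem hN
  have hcardY : Nat.card Y = Nat.card (Quotient (MulAction.orbitRel A Y)) * w := by
    rw [Nat.card_congr (MulAction.selfEquivOrbitsQuotientProd hfree), Nat.card_prod, hAcard]
  have hidx : H'.index = Nat.card Y + 1 := by
    have h1 : Nat.card (M ⧸ H') = Nat.card Y + 1 := by
      rw [← Nat.card_congr (Equiv.optionSubtypeNe ((1 : M) : M ⧸ H')), Finite.card_option]
      rfl
    exact h1
  rw [hidx, hcardY]
  simp

theorem card_su3 : Nat.card (su3 F q) * 1 = q ^ 3 * ((q * q + 1 - q) * USingerArith.bb q) := by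
  classical
  have hF : Nat.card F = q ^ 2 := by rw [Nat.card_eq_fintype_card, H.card]
  have h1 : Nat.card (su3 F q) = Nat.card (Cfsg.SU 3 F q) :=
    Nat.card_congr
      { toFun := fun g => ⟨⟨g.1.1, (mem_specialLinear_iff _).1 g.2.2⟩, g.2.1⟩
        invFun := fun g => ⟨Matrix.SpecialLinearGroup.toGL g.1, g.2, (mem_specialLinear_iff _).2 g.1.2⟩
        left_inv := fun g => Subtype.ext (Units.ext rfl)
        right_inv := fun g => rfl }
  have h2 := Classical.card_SU_mul (F := F) (q := q) (n := 3) hF (by norm_num)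
  rw [Classical.card_GU hF, Finset.prod_range_succ, Finset.prod_range_succ, Finset.prod_range_succ,
    Finset.prod_range_zero, one_mul, ← h1] at h2
  simp only [show Even 0 by decide, show ¬ Even 1 by decide, show Even 2 by decide, if_true, if_false,
    zero_add, pow_one, show 3 * (3 - 1) / 2 = 3 by rfl, show 1 + 1 = 2 by rfl, show 2 + 1 = 3 by rfl] at h2
  refine Nat.eq_of_mul_eq_mul_left (show 0 < q + 1 by omega) ?_
  rw [mul_one, h2, USingerArith.bb]
  have hq := H.three_le
  obtain ⟨r, rfl⟩ := Nat.exists_eq_add_of_le (show 1 ≤ q by omega)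
  rw [show (1 + r) * (1 + r) + 1 - (1 + r) = 1 + r + r * r by
      rw [Nat.sub_eq_iff_eq_add (by nlinarith)]; ring, show 1 + r - 1 = r by omega,
    show (1 + r) ^ 2 - 1 = r * (r + 2) by rw [Nat.sub_eq_iff_eq_add (Nat.one_le_pow _ _ (by omega))]; ring]
  ring

/-- The order of the normaliser. -/
theorem card_uhGroup (hK : Cfsg.Geo.IsFieldSubalgebra 3 K) (hadj : Cfsg.Geo.IsAdjointClosedFor (hf3 F q) K)
    {d w : ℕ} (hd : USingerArith.Data q d w) : Nat.card (uhGroup q K) = 3 * (q * q + 1 - q) := by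
  obtain ⟨c, -, hcord, hC⟩ := exists_generator H hK hadj
  obtain ⟨e, he, hH⟩ := card_uhGroup_dvd (q := q) hK
  have hidx := index_cast H hK hadj hd.mul_eq hd.coprime (M := su3 F q) inf_le_right le_rfl
  have hmul := ((uhGroup q K).subgroupOf (su3 F q)).card_mul_index
  rw [Nat.card_congr (Subgroup.subgroupOfEquivOfLe (inf_le_right : uhGroup q K ≤ su3 F q)).toEquiv] at hmul
  rw [← mul_one (Nat.card (su3 F q)), card_su3 H, hH, hC, show orderOf c = q * q + 1 - q by omega] at hmul
  have hv : 0 < q * q + 1 - q := by have := hd.four_le; have := Nat.le_mul_self q; omega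
  have h1 := congrArg (Nat.cast : ℕ → ZMod w) (Nat.eq_of_mul_eq_mul_left hv
    (show (q * q + 1 - q) * (e * ((uhGroup q K).subgroupOf (su3 F q)).index) =
      (q * q + 1 - q) * (q ^ 3 * USingerArith.bb q) by rw [mul_left_comm _ e, ← mul_assoc, hmul, mul_left_comm]))
  push_cast at h1
  rw [hidx, mul_one, USingerArith.cast_bb hd, USingerArith.cast_cube hd] at h1
  have hw := USingerArith.q_lt hd
  have := hd.four_le
  rcases (Nat.dvd_prime Nat.prime_three).1 he with rfl | rfl
  · exfalso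
    have h2 : ((2 : ℕ) : ZMod w) = 0 := by push_cast at h1 ⊢; linear_combination -h1
    rw [ZMod.natCast_eq_zero_iff] at h2
    have := Nat.le_of_dvd (by norm_num) h2
    omega
  · rw [hH, hC]; omega

end CfsgLib.Dim3Max.USingerGroup
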