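import Cfsg.Agent.Lib.Dim3Max.USubfield.TwoRat
import Cfsg.Agent.Lib.Maximal.UnSubOdd

/-!
Subfield subgroups of odd degree are maximal in the special unitary group of dimension three.
-/

set_option autoImplicit false
set_option linter.unusedSectionVars false
set_option linter.unusedSimpArgs false
set_option linter.style.haveILetI false

namespace CfsgLib.Dim3Max

open scoped Matrix MatrixGroups
open CfsgLib.Maximal

universe u

variable {F : Type u} [Field F] [Fintype F] {q r : ℕ} {τ : F ≃+* F} {F₀ : Subfield F}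

/-- An overgroup of the standard rational group is rational or everything. -/
theorem USub.dichotomy (hD : USub.Data q r τ F₀) {M : Subgroup (GL (Fin 3) F)} (hM : USub.Over q F₀ M) :
    (∀ g ∈ M, RatUpToScalar F₀ g) ∨ su3 F q ≤ M := by
  by_cases hsm : USub.Small q F₀ M
  swap
  · exact Or.inr (hM.top_of_big hD hsm)
  by_cases h2 : Nat.card ↥(F₀ ⊓ fixedτ τ) = 2
  swap
  · exact Or.inl fun g hg => hM.rat hD hsm h2 hg
  by_cases hR : RankOne M
  swap
  · exact Or.inr (hM.top_of_rank hD h2 hR)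
  obtain ⟨a, b, c, hf⟩ := hD.exists_frame
  exact Or.inl fun g hg => USub.Two.rat ⟨hD, hM, hsm, h2, hR, hf⟩ hg

/-- An element moving the rational group. -/
theorem USub.exists_not_rat (hD : USub.Data q r τ F₀) : ∃ g ∈ su3 F q, ¬ RatUpToScalar F₀ g := by
  obtain ⟨k, hk, hk0, hkτ⟩ := hD.skew
  obtain ⟨μ, hμ, hμ'⟩ : ∃ μ : F, τ μ = μ ∧ μ ∉ F₀ := by
    by_contra hcon
    push Not at hcon
    -- every element is a combination of fixed ones
    obtain ⟨ω, hω, hω'⟩ := hD.moved
    obtain ⟨z, hz⟩ := exists_notMem_subfield hD.prime hD.card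
    refine hz ?_
    have hne : ω - τ ω ≠ 0 := sub_ne_zero.2 (Ne.symm hω')
    have hne' : τ ω - ω ≠ 0 := sub_ne_zero.2 hω'
    have hinv := hD.setup.form.involutive
    have hy : (z - τ z) / (ω - τ ω) ∈ F₀ := hcon _ (by
      simp only [map_sub, map_div₀, hinv]; field_simp; ring)
    have hx : z - (z - τ z) / (ω - τ ω) * ω ∈ F₀ := hcon _ (by
      simp only [map_sub, map_mul, map_div₀, hinv]; field_simp; ring)
    have h := F₀.add_mem hx (F₀.mul_mem hy hω)
    rwa [sub_add_cancel] at h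
  obtain ⟨a, b, c, hf⟩ := hD.exists_frame
  have H := hD.setup.form
  have hsk : τ (μ * k) = -(μ * k) := by rw [map_mul, hμ, hkτ, mul_neg]
  refine ⟨_, utv_mem_su H hf.aa hsk, fun ⟨s, hs, hr⟩ => hμ' ?_⟩
  have hv : ∀ x, RatV F₀ x → RatV F₀ (s • (x + (hf3 F q x a * (μ * k)) • a)) := fun x hx => by
    have h := hr.mulVec hx
    rwa [Matrix.smul_mulVec, tv_mulVec, un_dot H, smul_smul] at h
  have h1 := hD.hh_mem (hv c hf.rc) hf.rc
  rw [hf.ca, zero_mul, zero_smul, add_zero, H.smul_left] at h1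
  have hsm : s ∈ F₀ := by
    have h2 := F₀.mul_mem h1 (F₀.inv_mem (hD.hh_mem hf.rc hf.rc))
    rwa [mul_assoc, mul_inv_cancel₀ (hf.cc hD), mul_one] at h2
  have h2 := hD.hh_mem (hv b hf.rb) hf.rb
  rw [hf.ba, one_mul, H.smul_left, H.add_left, H.smul_left, hf.bb, hf.ab, mul_one, zero_add] at h2
  have h3 := F₀.mul_mem h2 (F₀.inv_mem (F₀.mul_mem hsm hk))
  convert h3 using 1
  field_simp

/-- S5777, row 5. -/
theorem uSubfieldRow (H : USetup (F := F) q τ) : USubfieldRow (F := F) q := by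
  classical
  intro F₀ r P hr hro hcard hP
  have hf : Cfsg.Geo.IsUnitaryForm τ (Cfsg.hermForm 3 F q) := H.form
  have hτ := H.pow
  set q₀ := Nat.card F₀ with hq₀
  have hq₀1 : 1 < q₀ := Finite.one_lt_card
  have hF := H.card
  obtain ⟨kk, hk⟩ := hro
  obtain ⟨s, hs⟩ : ∃ s, q = q₀ ^ kk * s := by
    have h2 : (q₀ ^ kk) ^ 2 ∣ q ^ 2 := ⟨q₀, by rw [← hF, hcard, hk, ← pow_mul, ← pow_succ]; ring_nf⟩
    exact (Nat.pow_dvd_pow_iff two_ne_zero).1 h2
  have hs2 : s ^ 2 = q₀ := by
    have h1 : (q₀ ^ kk) ^ 2 * s ^ 2 = (q₀ ^ kk) ^ 2 * q₀ := by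
      rw [← mul_pow, ← hs, ← hF, hcard, hk]; ring
    exact Nat.eq_of_mul_eq_mul_left (by positivity) h1
  have hpow : ∀ x : F₀, (x : F) ^ q = (x : F) ^ s := fun x => by
    have h1 : x ^ (q₀ ^ kk) = x := by
      rw [hq₀, Nat.card_eq_fintype_card]; exact FiniteField.pow_card_pow kk x
    rw [hs, pow_mul]
    exact congrArg (fun y : F₀ => (y : F) ^ s) h1
  have hF₀ : Fintype.card F₀ = s ^ 2 := by rw [hs2, hq₀, Nat.card_eq_fintype_card]
  obtain ⟨τ₀, hτ₀, hf₀⟩ := exists_hermSigma (F := F₀) hF₀ 3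
  have hval : ∀ x : F₀, τ (x : F) = ((τ₀ x : F₀) : F) := fun x => by rw [hτ, hpow, hτ₀]; rfl
  have hne : ∃ x ∈ F₀, τ x ≠ x := by
    by_contra! hall
    exact hf₀.ne_refl (RingEquiv.ext fun x => Subtype.ext (by rw [← hval]; exact hall _ x.2))
  have hD : USub.Data q r τ F₀ := ⟨H, hr, fun h => by omega, hcard, fun x hx => by
    rw [hτ]; exact F₀.pow_mem hx q, hne⟩
  -- an orthonormal rational basis
  let up : (Fin 3 → F₀) → Fin 3 → F := fun u i => (u i : F)
  have hherm : ∀ u w, Cfsg.hermForm 3 F q (up u) (up w) = ((Cfsg.hermForm 3 F₀ s u w : F₀) : F) := fun u w => by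
    simp [Cfsg.hermForm, up, hpow]
  have hmem : ∀ u w, pullForm q P (up u) (up w) ∈ F₀ := fun u w => by
    have := hP (up u) (up w) (fun i => (u i).2) (fun i => (w i).2)
    rwa [one_mul] at this
  have hpf := pullForm_unitary hf P
  have upadd : ∀ u w, up (u + w) = up u + up w := fun u w => rfl
  have upsmul : ∀ (c : F₀) u, up (c • u) = (c : F) • up u := fun c u => rfl
  let B : (Fin 3 → F₀) →ₛₗ[(τ₀ : F₀ →+* F₀)] (Fin 3 → F₀) →ₗ[F₀] F₀ :=
    LinearMap.mk₂'ₛₗ (τ₀ : F₀ →+* F₀) (RingHom.id F₀) (fun w u => ⟨_, hmem u w⟩)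
      (fun w w' u => Subtype.ext (by push_cast; rw [upadd, un_add_right hpf]))
      (fun c w u => Subtype.ext (by
        push_cast [smul_eq_mul]
        rw [upsmul, un_smul_right hpf, hval]))
      (fun w u u' => Subtype.ext (by push_cast; rw [upadd, hpf.add_left]))
      (fun c w u => Subtype.ext (by
        push_cast [smul_eq_mul, RingHom.id_apply]
        rw [upsmul, hpf.smul_left]))
  have hBv : ∀ w u, ((B w u : F₀) : F) = pullForm q P (up u) (up w) := fun w u => rfl
  have hBS : B.IsSymm := ⟨fun w u => Subtype.ext (by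
    show ((τ₀ (B w u) : F₀) : F) = ((B u w : F₀) : F)
    rw [← hval, hBv, hBv, ← hpf.herm])⟩
  have hBn : B.Nondegenerate := by
    have hl : B.SeparatingLeft := fun w hw => by
      by_contra hw0
      have h1 : fvec (pullForm q P) (up w) = 0 := funext fun i => by
        have h2 := congrArg Subtype.val (hw (Pi.single i 1))
        rw [hBv] at h2
        have e : up (Pi.single i 1) = (Pi.single i 1 : Fin 3 → F) := funext fun l => by
          rcases eq_or_ne l i with rfl | hl <;> simp [up, *]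
        rw [e] at h2
        exact h2
      exact hw0 (funext fun i => Subtype.ext (congrFun (un_fvec_injective hpf (h1.trans (un_fvec_zero hpf).symm)) i))
    refine ⟨hl, fun u hu => hl u fun w => ?_⟩
    have := congrArg τ₀ (hu w)
    rw [map_zero] at this
    rw [← this]
    exact (hBS.eq w u).symm
  obtain ⟨b, hb⟩ := CfsgLib.Geometry.exists_orthonormal (σ := (τ₀ : F₀ →+* F₀))
    (fun e => hf₀.ne_refl (RingEquiv.ext fun x => RingHom.congr_fun e x)) hf₀.involutive hBS hBn
  have hfin : Module.finrank F₀ (Fin 3 → F₀) = 3 := by simp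
  let Q : Matrix (Fin 3) (Fin 3) F₀ := Matrix.of fun x i => b (Fin.cast hfin.symm i) x
  have hQcol : ∀ u, Q *ᵥ u = ∑ i, u i • b (Fin.cast hfin.symm i) := fun u => by
    funext x
    simp [Q, Matrix.mulVec, dotProduct, mul_comm]
  have hQ : ∀ u w, B (Q *ᵥ w) (Q *ᵥ u) = Cfsg.hermForm 3 F₀ s u w := fun u w => by
    rw [hQcol, hQcol]
    simp only [map_sum, LinearMap.map_smulₛₗ, LinearMap.sum_apply, LinearMap.smul_apply, RingHom.id_apply,
      smul_eq_mul, hb, mul_ite, mul_one, mul_zero, Fin.cast_inj, Finset.sum_ite_eq', Finset.sum_ite_eq,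
      Finset.mem_univ, if_true]
    simp [Cfsg.hermForm, ← hτ₀, mul_comm]
  have hQdet : Q.det ≠ 0 := fun h0 => by
    obtain ⟨u, hu0, hu⟩ := Matrix.exists_mulVec_eq_zero_iff.2 h0
    obtain ⟨⟨w, hw⟩, -⟩ := hf₀.nondegenerate u hu0
    apply hw
    rw [← hQ, hu, map_zero, LinearMap.zero_apply]
  rw [← subfieldSubgroup_mul_rat' P (Matrix.GeneralLinearGroup.mkOfDetNeZero Q hQdet)]
  set P' := P * Matrix.GeneralLinearGroup.map F₀.subtype (Matrix.GeneralLinearGroup.mkOfDetNeZero Q hQdet) with hP'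
  have hpf' := pullForm_unitary hf P'
  have hbase : ∀ u w, pullForm q P' (up u) (up w) = Cfsg.hermForm 3 F q (up u) (up w) := fun u w => by
    rw [hherm, ← hQ, hBv]
    have hv : ∀ v, Units.val P' *ᵥ up v = Units.val P *ᵥ up (Q *ᵥ v) := fun v => by
      rw [hP', Units.val_mul, ← Matrix.mulVec_mulVec]
      congr 1
    simp only [pullForm, hv]
  have hsgl : ∀ i, up (Pi.single i 1) = (Pi.single i 1 : Fin 3 → F) := fun i => funext fun l => by
    rcases eq_or_ne l i with rfl | hl <;> simp [up, *]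
  have heq : pullForm q P' = Cfsg.hermForm 3 F q := by
    funext u w
    have hfv : ∀ j, fvec (pullForm q P') (Pi.single j 1) = fvec (Cfsg.hermForm 3 F q) (Pi.single j 1) :=
      fun j => funext fun i => by
        show pullForm q P' (Pi.single i 1) (Pi.single j 1) = Cfsg.hermForm 3 F q (Pi.single i 1) (Pi.single j 1)
        rw [← hsgl, ← hsgl, hbase]
    have h1 : fvec (pullForm q P') w = fvec (Cfsg.hermForm 3 F q) w := funext fun i => by
      show pullForm q P' _ w = Cfsg.hermForm 3 F q _ w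
      rw [hpf'.herm, hf.herm (Pi.single i 1) w]
      congr 1
      rw [← un_dot hpf', ← un_dot hf, hfv]
    rw [← un_dot hpf', ← un_dot hf, h1]
  have hone : pullForm q (1 : GL (Fin 3) F) = Cfsg.hermForm 3 F q := by
    funext u w; simp [pullForm]
  have hsu : ∀ g, P' * g * P'⁻¹ ∈ su3 F q ↔ g ∈ su3 F q := fun g => by
    have h1 := conj_mem_suGL (q := q) P' g
    have h2 := conj_mem_suGL (q := q) (1 : GL (Fin 3) F) g
    rw [heq] at h1
    rw [hone, one_mul, inv_one, mul_one] at h2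
    exact h1.trans h2.symm
  refine ⟨lt_of_le_of_ne inf_le_right fun he => ?_, fun M hSM hMK => ?_⟩
  · obtain ⟨g, hg, hng⟩ := USub.exists_not_rat hD
    have h := ((SetLike.ext_iff.1 he _).2 ((hsu g).2 hg)).1
    have h' := (mem_subfieldSubgroup_iff P' _).1 h
    rw [show P'⁻¹ * (P' * g * P'⁻¹) * P' = g by group] at h'
    exact hng h'
  let N : Subgroup (GL (Fin 3) F) := M.map (MulAut.conj P'⁻¹).toMonoidHom
  have memN : ∀ g, g ∈ N ↔ P' * g * P'⁻¹ ∈ M := fun g => by
    constructor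
    · rintro ⟨x, hx, rfl⟩
      simpa [MulAut.conj_apply, mul_assoc] using hx
    · intro hg; exact ⟨_, hg, by simp [MulAut.conj_apply, mul_assoc]⟩
  have hN : USub.Over q F₀ N := ⟨fun g hg => (hsu g).1 (hMK ((memN g).1 hg)), fun g hg hrat =>
    (memN g).2 (hSM ⟨(mem_subfieldSubgroup_iff P' _).2 (by
      rwa [show P'⁻¹ * (P' * g * P'⁻¹) * P' = g by group]), (hsu g).2 hg⟩)⟩
  rcases USub.dichotomy hD hN with hall | htop
  · refine Or.inl (le_antisymm (fun g hg => ⟨(mem_subfieldSubgroup_iff P' g).2 (hall _ ((memN _).2 (by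
      rwa [show P' * (P'⁻¹ * g * P') * P'⁻¹ = g by group]))), hMK hg⟩) hSM)
  · refine Or.inr (le_antisymm hMK fun g hg => ?_)
    have := (memN (P'⁻¹ * g * P')).1 (htop ((hsu _).1 (by
      rwa [show P' * (P'⁻¹ * g * P') * P'⁻¹ = g by group])))
    rwa [show P' * (P'⁻¹ * g * P') * P'⁻¹ = g by group] at this

end CfsgLib.Dim3Max
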